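import Cfsg.Agent.Lib.SylT.L5h
import Cfsg.Agent.Lib.Class2.GoldApp
import Cfsg.Agent.Lib.Gold.All

/-!
# Sylow 2-subgroup of type `L₅(2)`: the core of the involution centraliser is trivial
(plans/S0512.md, B8 and B9)
-/

set_option autoImplicit false
set_option Elab.async false
set_option linter.unusedSectionVars false
set_option synthInstance.maxSize 100000
set_option maxRecDepth 100000

namespace CfsgLib.SylT.TL

open Subgroup Cfsg CfsgLib.Tech CfsgLib.PComp CfsgLib.W2 CfsgLib.Held Function TG CfsgLib.MOrb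

variable {G X : Type*} [Group G] [Finite G] [Group X] {φ ψ : TL →* G} {M W Y : Subgroup G}
  {π : M →* X} {E : Emb X} {zm a b n : ℕ}

/-- the element of a code -/
noncomputable def io (φ : TL →* G) (n : ℕ) : G := φ (uc n)

theorem io_mul (ha : inP mT a = true) (hb : inP mT b = true) :
    io φ (Held.mul a b) = io φ a * io φ b := by rw [io, uc_mul ha hb, map_mul]; rfl

theorem io_zc : io φ Held.zc = φ z := congrArg φ (by decide +kernel)

theorem io_ct : io φ ct = φ t0 := congrArg φ (by decide +kernel)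

theorem io_one : io φ Held.one = 1 := (congrArg φ (by decide +kernel)).trans (map_one φ)

theorem exists_io {g : G} (h : g ∈ φ.range) : ∃ n, inP mT n = true ∧ io φ n = g :=
  let ⟨x, e⟩ := h; ⟨_, (code_T x).1, (congrArg φ (code_T x).2).trans e⟩

theorem io_inj (h : SL φ) (ha : inP mT a = true) (hb : inP mT b = true) (e : io φ a = io φ b) :
    a = b := by rw [← code_uc ha, h.inj e, code_uc hb]

theorem io_comm (h : SL φ) (ha : inP mT a = true) (hb : inP mT b = true) :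
    io φ a * io φ b = io φ b * io φ a ↔ cm a b = true := by
  rw [← io_mul ha hb, ← io_mul hb ha, cm, beq_iff]
  exact ⟨io_inj h (T_mul ha hb) (T_mul hb ha), congrArg _⟩

/-- the fusion of involutions is known and takes place in `M` -/
structure Dt (φ : TL →* G) (M : Subgroup G) (zm : ℕ) : Prop extends SL φ where
  mem : ∀ x, φ x ∈ M
  good : Emb.NB M (φ z)
  rp : ∀ {n}, inP mT n = true → cls n ≠ 0 → ∃ m ∈ M, Cm φ m (uc n) (rep (cls n))
  z0 : zm.testBit 0 = false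
  hz : ∀ k < 10, zm.testBit k = true → ∃ m ∈ M, Cm φ m (rep k) z
  ht : ∀ k < 10, 2 ≤ k → zm.testBit k = false → ∃ m ∈ M, Cm φ m (rep k) t0

theorem Dt.conj_z (D : Dt φ M zm) (hn : inP mT n = true) (h : zm.testBit (cls n) = true) :
    ∃ m ∈ M, Cm φ m (uc n) z := by
  obtain ⟨c, h1, h2⟩ := D.rp hn fun e => by simp [e, D.z0] at h
  obtain ⟨d, h3, h4⟩ := D.hz _ (cls_spec hn).1 h
  exact ⟨_, M.mul_mem h3 h1, h2.trans h4⟩

theorem Dt.nb (D : Dt φ M zm) (hn : inP mT n = true) (h : zm.testBit (cls n) = true) :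
    Emb.NB M (io φ n) :=
  let ⟨_, h1, h2⟩ := D.conj_z hn h; D.good.conj h1 (Eq.symm h2)

theorem Dt.conj_t (D : Dt φ M zm) (hn : inP mT n = true) (h1 : io φ n * io φ n = 1)
    (h2 : io φ n ≠ 1) (h : zm.testBit (cls n) = false) : ∃ m ∈ M, Cm φ m (uc n) t0 := by
  have c0 := (cls_spec hn).2.1 (io_inj D.toSL (T_mul hn hn) (inP_one _)
    (by rw [io_mul hn hn, h1, io_one]))
  obtain ⟨c, c1, c2⟩ := D.rp hn c0
  obtain ⟨d, d1, d2⟩ := D.ht _ (cls_spec hn).1 (by
    by_contra e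
    rw [show cls n = 1 by omega, show rep 1 = 1 by decide +kernel] at c2
    exact h2 ((congrArg φ ((c2.ne_one D.inj).1 rfl)).trans (map_one φ))) h
  exact ⟨_, M.mul_mem d1 c1, c2.trans d2⟩

theorem Dt.Z_iff (D : Dt φ M zm) (hn : inP mT n = true) :
    IsConj (φ z) (io φ n) ↔ zm.testBit (cls n) = true := by
  refine ⟨fun h => ?_, fun h => let ⟨_, _, e⟩ := D.conj_z hn h; e.isConj.symm⟩
  by_contra h1
  obtain ⟨g, e⟩ := Cm.of_isConj h
  obtain ⟨m, -, e1⟩ := D.conj_t hn (by rw [io, ← map_mul, (e.sq D.inj).2 zz, map_one])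
    (fun e1 => z_ne ((e.ne_one D.inj).1 (D.inj (e1.trans (map_one φ).symm)))) (by simpa using h1)
  exact D.not_z (.inl rfl) (e.trans e1).symm

theorem Dt.spec (D : Dt φ M zm) (hY : MB M Y) (hT : Y ≤ φ.range) :
    (∀ a ∈ φ.range, ∀ b ∈ φ.range, (∀ y ∈ Y, y * a = a * y) →
      (∀ y ∈ Y, y * b = b * y) → a * a ∈ Y → b * b ∈ Y → ∃ y ∈ Y, a * b = b * a * y) ∧
    ∀ c ∈ M, (∀ y ∈ Y, y * c = c * y) → c ∉ Y → c * c ∈ Y →
      ∃ n, (∀ y ∈ Y, y * n = n * y) ∧ ∃ y ∈ Y, n * c * n⁻¹ = φ z * y :=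
  have h : ∀ t ∈ φ.range, t * φ z = φ z * t := by rintro _ ⟨p, rfl⟩; exact mem_Cx.1 (mem_H p)
  hY.spec D.syl.toSylowTop (grange_le D.mem) (D.mem z) zz' h D.good fun y hy => h y (hT hy)

theorem Dt.chk_sound (D : Dt φ M zm) (hY : MB M Y)
    (hT : Y ≤ φ.range) (fg : Bool) : ∀ (fuel : ℕ) (Yl C : List ℕ), chk zm zm fg fuel Yl C = true →
      (∀ y ∈ Yl, inP mT y = true ∧ io φ y ∈ Y) → one ∈ Yl →
      (∀ c ∈ C, inP mT c = true ∧ ∀ y ∈ Yl, io φ y * io φ c = io φ c * io φ y) →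
      (∀ n, inP mT n = true → io φ n ∈ Y → n ∈ C) → False
  | 0, _, _, h, _, _, _, _ => Bool.false_ne_true h
  | fuel + 1, Yl, C, h, h1, h2, h3, h4 => by
    have e : chk zm zm fg (fuel + 1) Yl C =
      (Bool.rec (kill1 Yl C) (kill2 zm Yl C) (fg || Nat.beq (cntL C fun _ => true) 64) &&
        aL C fun d => imp (cand zm Yl d) (frL (Yl ++ CosetEnum.mapL (Held.mul d) Yl) fun Y' =>
          frL (fl (cm d) C) fun C' => chk zm zm fg fuel Y' C')) := rfl
    rw [e, Bool.and_eq_true] at h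
    have ιm : ∀ {a b}, inP mT a = true → inP mT b = true → io φ (Held.mul a b) = io φ a * io φ b :=
      io_mul
    by_cases hall : ∀ n, inP mT n = true → io φ n ∈ Y → n ∈ Yl
    · have hall' : ∀ y ∈ Y, ∃ n ∈ Yl, io φ n = y := fun y hy => by
        obtain ⟨n, n2, rfl⟩ := exists_io (hT hy)
        exact ⟨n, hall n n2 hy, rfl⟩
      have hc : ∀ c ∈ C, ∀ y ∈ Y, y * io φ c = io φ c * y := fun c hc y hy => by
        obtain ⟨n, n1, rfl⟩ := hall' y hy
        exact (h3 c hc).2 n n1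
      have hs : ∀ c ∈ C, Held.sq c ∈ Yl → io φ c * io φ c ∈ Y := fun c hc e => by
        rw [← ιm (h3 c hc).1 (h3 c hc).1, ← sq_eq]; exact (h1 _ e).2
      obtain ⟨w1, w2⟩ := D.spec hY hT
      have k : kill1 Yl C = true ∨ kill2 zm Yl C = true := by
        revert h; cases (fg || Nat.beq (cntL C fun _ => true) 64)
        exacts [fun h => Or.inl h.1, fun h => Or.inr h.1]
      rcases k with k | k
      · simp only [kill1, frL_eq, frc_eq, eL_iff, mem_fl, mL_iff, Bool.not_eq_true',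
          ← Bool.not_eq_true, beq_iff, not_exists, not_and] at k
        obtain ⟨a, ⟨a1, a2⟩, b, ⟨b1, b2⟩, k⟩ := k
        obtain ⟨y, y1, y2⟩ := w1 (io φ a) ⟨_, rfl⟩ (io φ b) ⟨_, rfl⟩ (hc a a1) (hc b b1) (hs a a1 a2) (hs b b1 b2)
        obtain ⟨n, n1, rfl⟩ := hall' y y1
        have ta := (h3 a a1).1
        have tb := (h3 b b1).1
        refine k n n1 (io_inj D.toSL (T_mul ta tb) (T_mul (T_mul tb ta) (h1 n n1).1) ?_)
        rw [ιm (T_mul tb ta) (h1 n n1).1, ιm ta tb, ιm tb ta, y2]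
      · simp only [kill2, frc_eq, eL_iff, aL_iff, mL_iff, Bool.and_eq_true, Bool.not_eq_true',
          ← Bool.not_eq_true] at k
        obtain ⟨c, c1, ⟨c2, c3⟩, k⟩ := k
        have tc := (h3 c c1).1
        obtain ⟨n, n1, y, y1, y2⟩ := w2 (io φ c) (D.mem _) (hc c c1) (fun e => c2 (hall c tc e))
          (hs c c1 c3)
        obtain ⟨y0, y3, rfl⟩ := hall' y y1
        obtain ⟨y, y4, k⟩ := k y0 y3
        have t1 := T_mul tc (h1 y y4).1
        have t3 := T_mul (show inP mT Held.zc = true by decide +kernel) (h1 y0 y3).1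
        have t2 := T_mul t3 (h1 y y4).1
        have e : n * io φ (Held.mul c y) * n⁻¹ = io φ (Held.mul (Held.mul Held.zc y0) y) := by
          rw [ιm tc (h1 y y4).1, ιm t3 (h1 y y4).1, ιm (by decide +kernel) (h1 y0 y3).1, io_zc, ← y2,
            ← conj_mul, ← n1 _ (h1 y y4).2, mul_inv_cancel_right]
        have := (D.Z_iff t1).symm.trans
          ((⟨fun h => h.trans (isConj_iff.2 ⟨_, e⟩), fun h => h.trans (isConj_iff.2 ⟨_, e⟩).symm⟩ :
            IsConj (φ z) _ ↔ IsConj (φ z) _).trans (D.Z_iff t2))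
        revert k this
        cases zm.testBit (cls (Held.mul c y)) <;> cases zm.testBit (cls (Held.mul (Held.mul Held.zc y0) y)) <;> simp
    · have hs : ∀ {n}, inP mT n = true → io φ n ∈ Y → io φ (Held.sq n) ∈ Y := fun a b => by
        rw [sq_eq, ιm a a]; exact Y.mul_mem b b
      have ex : ∃ n, inP mT n = true ∧ io φ n ∈ Y ∧ n ∉ Yl ∧ Held.sq n ∈ Yl := by
        by_contra hne
        refine hall fun n n1 n2 => ?_
        have f : ∀ {n}, inP mT n = true → io φ n ∈ Y → Held.sq n ∈ Yl → n ∈ Yl := fun {n} a b c => by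
          by_contra d; exact hne ⟨n, a, b, d, c⟩
        refine f n1 n2 (f (T_sq n1) (hs n1 n2) (f (T_sq (T_sq n1)) (hs (T_sq n1) (hs n1 n2)) ?_))
        rwa [(beq_iff _ _).1 (bits_T.all (f := fun n => Nat.beq (Held.sq (Held.sq (Held.sq n))) one)
          (by decide +kernel) n1)]
      classical
      obtain ⟨d1, d2, d3, d4⟩ := Nat.find_spec ex
      have d5 := fun m => Nat.find_min ex (m := m)
      generalize Nat.find ex = d at *
      have d6 : ∀ y ∈ Yl, inP mT (Held.mul d y) = true ∧ io φ (Held.mul d y) ∈ Y := fun y hy =>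
        ⟨T_mul d1 (h1 y hy).1, by rw [ιm d1 (h1 y hy).1]; exact Y.mul_mem d2 (h1 y hy).2⟩
      have k := (imp_iff _ _).1 ((aL_iff _ _).1 h.2 d (h4 d d1 d2)) (by
        simp only [cand, frc_eq, aL_iff, mL_iff, Bool.and_eq_true, Bool.or_eq_true,
          Bool.not_eq_true', ← Bool.not_eq_true, Nat.ble_eq]
        refine ⟨⟨d3, d4⟩, fun y hy => ⟨fun e => ?_, ?_⟩⟩
        · obtain ⟨g, g1, g2⟩ := hY.1.2.2.2
          exact g1 (D.nb (d6 y hy).1 e g (g2 _ (d6 y hy).2))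
        · by_contra hne
          simp only [not_or, not_not, not_le] at hne
          exact d5 _ hne.1.1 ⟨(d6 y hy).1, (d6 y hy).2, hne.1.2, hne.2⟩)
      rw [frL_eq, frL_eq, CosetEnum.mapL_eq] at k
      refine chk_sound D hY hT fg fuel _ _ k (fun y hy => ?_) (List.mem_append_left _ h2)
        (fun c hc => ?_) fun n n1 n2 => mem_fl.2 ⟨h4 n n1 n2,
          (io_comm D.toSL d1 n1).1 (hY.1.2.2.1 _ d2 _ n2)⟩
      · rcases List.mem_append.1 hy with hy | hy
        · exact h1 y hy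
        · obtain ⟨y, hy', rfl⟩ := List.mem_map.1 hy
          exact d6 y hy'
      · obtain ⟨c1, c2⟩ := mem_fl.1 hc
        refine ⟨(h3 c c1).1, fun y hy => ?_⟩
        rcases List.mem_append.1 hy with hy | hy
        · exact (h3 c c1).2 y hy
        · obtain ⟨y, hy', rfl⟩ := List.mem_map.1 hy
          rw [ιm d1 (h1 y hy').1, mul_assoc, (h3 c c1).2 y hy', ← mul_assoc,
            (io_comm D.toSL d1 (h3 c c1).1).2 c2, mul_assoc]

theorem Dt.top (D : Dt φ M zm)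
    (h : frL (fl (cm ct) (lsP bT Held.one [])) (chk zm zm false 3 [Held.one, ct]) = true) :
    M = ⊤ := by
  by_contra hne
  have hS := D.syl.of_le (grange_le D.mem) le_top
  obtain ⟨Y, h1⟩ := Held.exists_MB hne
  obtain ⟨k, k1, h2⟩ := hS.exists_cj_le h1.1.2.1 h1.1.1
  replace h1 : MB M (cj k Y) := h1.conj k1
  generalize cj k Y = Y at h1 h2
  have vt : inP mT ct = true := by decide +kernel
  by_cases hY : Y = ⊥
  · obtain ⟨y, y1, y2⟩ := (D.spec h1 h2).1 _ ⟨x12, rfl⟩ _ ⟨x23, rfl⟩ (by simp [hY]) (by simp [hY])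
      (by rw [hY, mem_bot]; exact sq_of_ord (D.ord (by decide +kernel) (by decide +kernel)))
      (by rw [hY, mem_bot]; exact sq_of_ord (D.ord (by decide +kernel) (by decide +kernel)))
    rw [hY, mem_bot] at y1
    rw [y1, mul_one, ← map_mul, ← map_mul] at y2
    exact absurd (D.inj y2) (by decide +kernel)
  obtain ⟨⟨y, y1, y2, y4⟩, y3⟩ := ne_bot_iff_exists_ne_one.1 (CIT.oz_ne_bot h1.1.2.1 hY)
  obtain ⟨n, n2, rfl⟩ := exists_io (h2 y1)
  obtain ⟨d, d1, d2⟩ := D.conj_t n2 y2 (fun e => y3 (Subtype.ext e)) (by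
    by_contra e
    obtain ⟨g, g1, g2⟩ := h1.1.2.2.2
    exact g1 (D.nb n2 (by simpa using e) g (g2 _ y1)))
  have h3 := h1.conj d1
  have h4 : φ t0 ∈ cj d Y := d2 ▸ conj_mem_cj.2 y1
  obtain ⟨k, k1, k3⟩ := (isSylowIn_cent_of_index hS (b := φ t0) ⟨_, rfl⟩ (by
      rw [φ.range_eq_map, map_inf_Cx D.inj, card_map_of_injective D.inj,
        card_map_of_injective D.inj, card_t0, card_top, card_T]) (by
      rintro k - ⟨p, e⟩ hc
      have h5 : ∀ s, p * s = s * p := fun s => D.inj (by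
        rw [map_mul, map_mul, e]; exact (mem_Cx.1 (hc ⟨s, rfl⟩)).symm)
      rcases center_eq p (h5 _) (h5 _) (h5 _) (h5 _) with rfl | rfl
      exacts [absurd ((Cm.ne_one D.inj e).1 rfl) (by decide +kernel), D.not_z (.inl rfl) e])
    ).exists_cj_le h3.1.2.1 (le_inf h3.1.1 fun y hy => mem_Cx.2 (h3.1.2.2.1 _ hy _ h4))
  have h5 := h3.conj k1.1
  have h6 : φ t0 ∈ cj k (cj d Y) := mem_Cx'.1 k1.2 ▸ conj_mem_cj.2 h4
  rw [← io_ct] at h6
  refine D.chk_sound h5 (k3.trans inf_le_left) _ _ _ _ (frL_eq _ _ ▸ h)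
    ?_ (by simp) (fun c hc => ?_) fun n n1 n2 => mem_fl.2 ⟨Emb.mem_lsT.2 n1,
      (io_comm D.toSL vt n1).1 (h5.1.2.2.1 _ h6 _ n2)⟩
  · simp only [List.forall_mem_cons]
    exact ⟨⟨inP_one _, io_one (φ := φ) ▸ one_mem _⟩, ⟨vt, h6⟩, by simp⟩
  · obtain ⟨e1, e2⟩ := mem_fl.1 hc
    simp only [List.forall_mem_cons]
    exact ⟨Emb.mem_lsT.1 e1, by simp [io_one], (io_comm D.toSL vt (Emb.mem_lsT.1 e1)).2 e2, by simp⟩

namespace Lf

variable (h : Lf ψ M π E) (hz : Emb.NB M (ψ z))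
include h hz

theorem top_T {r s : X} {α β : ℕ → ℕ} (hr : E.Act r α) (hs : E.Act s β) {ws : List (List ℕ)}
    (h0 : zm.testBit 0 = false)
    (h1 : aL (List.range 10) (fun k => imp (zm.testBit k) (vb (rp k) &&
      Nat.beq (mw α β (CosetEnum.nth [] ws k) (rp k)) Held.zc && Nat.blt 0 Held.zc)) = true)
    (h2 : aL (List.range 10) (fun k => imp (Nat.ble 2 k && not (zm.testBit k)) (vb (rp k) &&
      Nat.beq (mw α β (CosetEnum.nth [] ws k) (rp k)) ct && Nat.blt 0 ct)) = true)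
    (h3 : frL (fl (cm ct) (lsP bT Held.one [])) (chk zm zm false 3 [Held.one, ct]) = true) :
    M = ⊤ := by
  refine Dt.top ⟨h.toSL, h.mem, hz, h.conj_rp, h0, fun k hk e => ?_, fun k hk e1 e2 => ?_⟩ h3
  · obtain ⟨c, -, e1⟩ := Emb.conj_rp hr hs (H := ⊤) (fun _ => trivial) trivial trivial h1 k hk e
    exact (show uc Held.zc = z by decide +kernel) ▸ h.lift' (rp_T hk) (by decide +kernel) e1
  · obtain ⟨c, -, e1⟩ := Emb.conj_rp hr hs (H := ⊤) (fun _ => trivial) trivial trivial h2 k hk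
      (by simp [e1, e2])
    exact (show uc ct = t0 by decide +kernel) ▸ h.lift' (rp_T hk) (by decide +kernel) e1

theorem not_L [IsSimpleGroup G] {r : X} (hr : E.Act r (al []))
    (hg : CosetEnum.gen (E.g r 1) ysL = ⊤) : False := by
  have : Finite X := Finite.of_surjective π h.surj
  have hU := Emb.le_normalizer_U hr
  rw [hg] at hU
  set U := (E.P mU).comap (ofEmb E)
  have h1 : ∀ x, x ∈ U ↔ inP mU (code x) = true := fun x => Emb.ι_mem_P (V_code x)
  have h2 : ∀ x ∈ U, x = 1 ∨ ∃ m ∈ M, Cm ψ m x z := fun x hx => by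
    have e4 : E.Z cu := Emb.Z_of hr (w := [12, 0]) (by decide +kernel)
    obtain e | e | e := (by decide +kernel : ∀ x, inP mU (code x) = true →
      x = 1 ∨ x = z ∨ kl x = cls cu) x ((h1 x).1 hx)
    · exact .inl e
    · exact .inr ⟨1, one_mem _, e ▸ Cm.refl _⟩
    · obtain ⟨c, e1⟩ := isConj_iff.1 (e4.of_cls (by decide +kernel) (code_T x).1 e).symm
      exact .inr (h.lift (c := c) (e1.trans (ofEmb_z E).symm))
  have h6 : Gold.SC (U.map ψ) ⊤ := Gold.sc_of_isSylowIn h.syl (map_le_range ..) (by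
    rintro _ ⟨x, hx, rfl⟩ k - ⟨y, e⟩
    refine ⟨y, ?_, e⟩
    obtain rfl | ⟨m, hm, e1⟩ := h2 x hx
    · rw [(Cm.ne_one h.inj e).2 rfl]; exact one_mem _
    have hk := inv_mem_iff.1 (hz.conj hm (Eq.symm e1) k⁻¹ (by rw [inv_inv, ← e]; exact h.mem y))
    have := conj_mem_of_mem_normalizer (hU (mem_top (π ⟨k, hk⟩))) (mem_comap.1 hx)
    rw [ofEmb_apply, ← h.eq, ← map_inv, ← map_mul, ← map_mul] at this
    rw [SetLike.mem_coe, mem_comap, ofEmb_apply, ← h.eq]
    convert this using 2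
    exact Subtype.ext e)
  have h7 : Gold.ncl (U.map ψ) ⊤ = ⊤ :=
    (Gold.ncl_top_normal (U.map ψ)).eq_bot_or_eq_top.resolve_left fun e =>
      ne_one_of_ord (h.ord zz z_ne) (e.le (Gold.le_ncl _ _ ⟨z, (h1 z).2 (by decide +kernel), rfl⟩))
  obtain ⟨y, hy, e⟩ := Class2.mem_of_sc Gold.all h6 ⟨⟨by
      rintro ⟨_, a, ha, rfl⟩ ⟨_, b, hb, rfl⟩
      refine Subtype.ext (mem_Cx.1 (map_mem_Cx ((SL_ofEmb E).inj ?_)))
      rw [map_mul, map_mul]
      exact Emb.comm_of_sq (Emb.sq_of_P bits_U (by decide +kernel)) ha hb⟩⟩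
    (h7.symm ▸ h.syl) (map_le_range ..) (t := ψ x12) ⟨x12, rfl⟩
    (by rw [← map_mul, show x12 * x12 = 1 by decide +kernel, map_one])
  exact absurd ((h1 _).1 (h.inj e ▸ hy)) (by decide +kernel)

end Lf

theorem Lf.kill [IsSimpleGroup G] {π : Cx (φ z) →* X} (h : Lf φ (Cx (φ z)) π E)
    (hk : π.ker = pPrimeCore 2 (Cx (φ z)))
    (e : (Cx (φ z) ⧸ pPrimeCore 2 (Cx (φ z))) ≃* centralizer ({s0} : Set SL5)) :
    pPrimeCore 2 (Cx (φ z)) = ⊥ := by
  obtain ⟨W, hW⟩ := h.exists_Mx hk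
  have hH := h.cent_le hk hW
  have hz := h.nb hk hW
  suffices hM : normalizer (W : Set G) = ⊤ by
    rcases (normalizer_eq_top_iff.1 hM).eq_bot_or_eq_top with e | e
    · exact (map_eq_bot_iff_of_injective _ Subtype.val_injective).1
        (le_bot_iff.1 (e ▸ hW.inf.ge.trans inf_le_left))
    · exact absurd (LargeExtra.eq_one_of_odd_of_mul_self hW.odd (e ▸ mem_top _) zz')
        (ne_one_of_ord (h.ord zz z_ne))
  set M := normalizer (W : Set G)
  let ρ := QuotientGroup.mk' (W.subgroupOf M)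
  have hs : Surjective ρ := QuotientGroup.mk'_surjective _
  have ho : Odd (Nat.card ρ.ker) := by
    rw [QuotientGroup.ker_mk', Nat.card_congr (subgroupOfEquivOfLe le_normalizer).toEquiv]
    exact hW.odd
  have h1 := (h.res_top hW.mem).map hs ho
  let θ : Cx (φ z) →* Cx (ρ (res φ hW.mem z)) := (ρ.comp (inclusion hH)).codRestrict _ fun c =>
    mem_Cx.2 (by
      rw [MonoidHom.comp_apply, ← map_mul, ← map_mul]; exact congrArg ρ (Subtype.ext (mem_Cx.1 c.2)))
  have h2 : Surjective θ := fun c => by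
    obtain ⟨g, e⟩ := hs c
    obtain ⟨k, hk, e1⟩ := cm_lift (h.res_top hW.mem).syl h1.inj ho (g := g) (x := z) (y := z)
      (cm_fix.2 (e ▸ c.2))
    exact ⟨⟨_, cm_fix.1 (cm_res.1 e1)⟩, Subtype.ext (by
      rw [← e, ← one_mul (ρ g), ← MonoidHom.mem_ker.1 hk, ← map_mul]; rfl)⟩
  have h3 : θ.ker = pPrimeCore 2 (Cx (φ z)) := by
    ext c
    rw [← mem_opOf_iff, ← hW.inf, MonoidHom.mem_ker, Subtype.ext_iff]
    exact (QuotientGroup.eq_one_iff _).trans ⟨fun a => ⟨a, c.2⟩, fun a => a.1⟩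
  have h4 : ∀ E' : Emb (M ⧸ W.subgroupOf M), ∃ ψ, Lf ψ M ρ E' ∧ Emb.NB M (ψ z) := fun E' =>
    let ⟨ψ, a⟩ := h.exists_Lf hs ho E'
    let ⟨_, b, c⟩ := h.conj_z a.toSL hW.mem a.mem
    ⟨ψ, a, hz.conj b c⟩
  obtain ⟨E', r, a, -, b⟩ | ⟨E', r, s, a⟩ | ⟨E', r, s, a⟩ | ⟨E', r, s, a⟩ := cases' (h1.ord zz z_ne)
    (((QuotientGroup.quotientKerEquivOfSurjective θ h2).symm.trans
      (QuotientGroup.quotientMulEquivOfEq h3)).trans e) fun hi => by
      obtain ⟨v, -, _, -, -, -, -, a, v1, v2, -, -, b⟩ := h.exists_E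
      obtain ⟨g, e⟩ := b v a v1
      have e1 := TJ.cm_map ρ ((cm_res (h := hW.mem) (g := ⟨g⁻¹, inv_mem (hz g (by
        rw [e]; simpa [mul_assoc] using hW.mem v))⟩)).2 e.symm)
      exact v2 (h1.inj (Eq.trans e1 (hi.2 _ (Eq.symm (mem_Cx.1 (Eq.subst e1 (mem_H v)))))))
  all_goals obtain ⟨ψ, c, d⟩ := h4 E'
  · exact (c.not_L d a b).elim
  · exact c.top_T d a.hr a.hs (ws := [[], [], [], [12, 0, 14, 6], [12, 0], [14, 6], [0, 12, 0], [],
      [10, 4, 14, 6], [8, 2, 12, 0]]) (by decide) (by decide +kernel) (by decide +kernel) chk_LL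
  · exact c.top_T d a.hr a.hs (ws := [[], [], [], [12, 0, 14, 6], [12, 0], [14, 6], [0, 12, 0], [],
      [14, 6, 10, 14], [8, 2, 12, 0]]) (by decide) (by decide +kernel) (by decide +kernel) chk_LS
  · exact c.top_T d a.hr a.hs (ws := [[], [], [], [12, 0, 14, 6], [12, 0], [14, 6], [0, 12, 0], [],
      [14, 6, 10, 14], [12, 0, 8, 12]]) (by decide) (by decide +kernel) (by decide +kernel) chk_SS

theorem SL.kill [IsSimpleGroup G] (h : SL φ)
    (e : (Cx (φ z) ⧸ pPrimeCore 2 (Cx (φ z))) ≃* centralizer ({s0} : Set SL5)) :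
    pPrimeCore 2 (Cx (φ z)) = ⊥ := by
  let π := QuotientGroup.mk' (pPrimeCore 2 (Cx (φ z)))
  have hs : Surjective π := QuotientGroup.mk'_surjective _
  have hk : π.ker = _ := QuotientGroup.ker_mk' _
  have ho : Odd (Nat.card π.ker) := by
    rw [hk]; exact Nat.coprime_two_right.1 (Core.coprime_card_pPrimeCore 2 _)
  have h1 : Cx (π (res φ mem_H z)) = ⊤ := eq_top_iff.2 fun c _ => by
    obtain ⟨c, rfl⟩ := hs c
    exact mem_Cx.2 (by rw [← map_mul, ← map_mul]; exact congrArg π (Subtype.ext (mem_Cx.1 c.2)))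
  obtain ⟨E, hE⟩ := exists_emb s0 rfl (((h.res_top mem_H).map hs ho).ord zz z_ne)
    (((MulEquiv.subgroupCongr h1).trans topEquiv).trans e)
  obtain ⟨ψ, h2⟩ := h.exists_Lf hs ho E
  have h3 : ψ z = φ z := by
    have h3 : ψ z * φ z = φ z * ψ z := mem_Cx.1 (h2.mem z)
    have h4 := LargeExtra.eq_one_of_odd_of_mul_self ho
      (k := ⟨ψ z, h2.mem z⟩ * res φ mem_H z) (by
        rw [MonoidHom.mem_ker, map_mul, h2.eq, ← ofEmb_apply, ofEmb_z, Emb.z, hE]
        exact zz') (Subtype.ext (show ψ z * φ z * (ψ z * φ z) = 1 by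
        rw [mul_assoc, ← mul_assoc (φ z), ← h3, mul_assoc, zz', mul_one, zz']))
    exact mul_right_cancel ((congrArg Subtype.val h4).trans zz'.symm)
  clear hE h1 ho hs h
  clear_value π
  generalize φ z = a at *
  subst h3
  exact h2.kill hk e

end CfsgLib.SylT.TL
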