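import Cfsg.Agent.Lib.SylT.L5f
import Cfsg.Agent.Lib.SylT.L5k
import Cfsg.Agent.Lib.LargeExtra.Struct
import Cfsg.Agent.Lib.Classical.SmallIso

/-!
# Simple groups with a Sylow 2-subgroup of type `L₅(2)`
-/

set_option autoImplicit false

namespace CfsgLib.SylT.TL

open Subgroup Cfsg CfsgLib.W2 CfsgLib.Held Matrix

theorem SL.core {G : Type*} [Group G] [Finite G] [IsSimpleGroup G] {φ : TL →* G} (h : SL φ) :
    Nonempty (G ≃* SL5) ∨ Nonempty (G ≃* M24) ∨ Nonempty (G ≃* Spor.He) := by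
  obtain ⟨e⟩ := h.bar_equiv (LargeExtra.no_index_two h.ncomm)
  exact classify_simple rfl (h.ord zz z_ne) ((QuotientGroup.quotientBot.symm.trans
    (QuotientGroup.quotientMulEquivOfEq (h.kill e).symm)).trans e)

theorem psl_equiv {F : Type*} [Field F] [Fintype F] (hF : Fintype.card F = 2) :
    Nonempty (SL5 ≃* ProjectiveSpecialLinearGroup (Fin 5) F) := by
  have h : center SL5 = ⊥ := by
    rw [eq_bot_iff]
    intro A hA
    obtain ⟨r, h1, h2⟩ := Matrix.SpecialLinearGroup.mem_center_iff.1 hA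
    rw [(by decide : ∀ r : ZMod 2, r ^ 5 = 1 → r = 1) r (by simpa using h1), map_one] at h2
    exact Subtype.ext h2.symm
  exact ⟨(QuotientGroup.quotientBot.symm.trans (QuotientGroup.quotientMulEquivOfEq h.symm)).trans
    (Classical.pslMapEquiv (FiniteField.ringEquivOfCardEq ((ZMod.card 2).trans hF.symm)))⟩

end CfsgLib.SylT.TL
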