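import Cfsg.Agent.Lib.SylT.U5c
import Cfsg.Agent.S5363
import Cfsg.Agent.S1614

/-!
# Sylow 2-subgroup of type `U₅(2)`: 3-transpositions (plans/SYLTYPE.md, U5-D)
-/

set_option autoImplicit false
set_option Elab.async false
set_option linter.unusedSectionVars false
set_option synthInstance.maxSize 100000
set_option maxRecDepth 100000

namespace CfsgLib.SylT.TU

open Subgroup Cfsg CfsgLib.Tech CfsgLib.PComp CfsgLib.W2 Function TG

variable {G : Type*} [Group G] [Finite G] [IsSimpleGroup G] {φ : TU →* G} {a b d e f : G}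

/-- the action of a transvection with centre `⟨a, b⟩` on `Q / ⟨z⟩` -/
noncomputable def R0 (a b x : TU) : TU :=
  x * (if x * b = b * x then 1 else a) * (if x * a = a * x then 1 else b)

/-- `R0` with its argument evaluated first -/
noncomputable def R (a b x : TU) : TU := CosetEnum.force x.v fun k => R0 a b (o k)

theorem R_eq (a b x : TU) : R a b x = R0 a b x := by rw [R, CosetEnum.force_eq, o_v]

theorem R_mem {a b x : TU} (ha : InQ a) (hb : InQ b) (hx : InQ x) : InQ (R a b x) := by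
  rw [R_eq, R0]
  refine Q.mul_mem (Q.mul_mem hx ?_) ?_ <;> split_ifs
  exacts [Q.one_mem, ha, Q.one_mem, hb]

/-- `g` maps `x` to `x'` modulo `z` -/
def Ac (φ : TU →* G) (g : G) (x x' : TU) : Prop := ∃ r, Md x' r ∧ Cm φ g x r

theorem Md.trans {x r t : TU} (h1 : Md x r) (h2 : Md r t) : Md x t := by
  rcases h1 with rfl | rfl <;> rcases h2 with rfl | rfl
  exacts [.inl rfl, .inr rfl, .inr rfl, .inl (by rw [mul_assoc, zz, mul_one])]

theorem Md.img {g : G} (hg : g ∈ Cx (φ z)) {x r x' : TU} (h1 : Md x r) (e : Cm φ g x x') :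
    ∃ r', Md x' r' ∧ Cm φ g r r' := by
  rcases h1 with rfl | rfl
  exacts [⟨_, .inl rfl, e⟩, ⟨_, .inr rfl, e.mul (cm_fix.2 hg)⟩]

theorem Ac.trans {g g' : G} {x x' x'' : TU} (h1 : Ac φ g x x') (h2 : Ac φ g' x' x'')
    (hg : g' ∈ Cx (φ z)) : Ac φ (g' * g) x x'' := by
  obtain ⟨r, m1, e1⟩ := h1
  obtain ⟨r', m2, e2⟩ := h2
  obtain ⟨t, m3, e3⟩ := m1.img hg e2
  exact ⟨t, m2.trans m3, e1.trans e3⟩

theorem s_act : ∀ x, InQ x → Md (R0 y y' x) (s * x * s⁻¹) := by decide +kernel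

theorem ac_s {x : TU} (hx : InQ x) : Ac φ (φ s) x (R y y' x) :=
  ⟨_, R_eq y y' x ▸ s_act x hx, Cm.self s x⟩

theorem six : ∀ a : TU, a * a = 1 → InQ a → ¬ InA a → ∀ b : TU, b * b = 1 → InQ b → ¬ InA b →
    a * b = b * a → ¬ InA (a * b) → ∀ i < 6, Md (o (2 * 2 ^ i))
      (R a b (R y y' (R a b (R y y' (R a b (R y y' (o (2 * 2 ^ i)))))))) := by decide +kernel

theorem conjD (hd : IsConj (φ z) d) (g : G) : IsConj (φ z) (g * d * g⁻¹) :=
  hd.trans (isConj_iff.2 ⟨g, rfl⟩)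

theorem sqD (hd : IsConj (φ z) d) : d * d = 1 := by
  obtain ⟨c, rfl⟩ := isConj_iff.1 hd
  rw [conj_mul, zz', mul_one, mul_inv_cancel]

theorem pow_of_conj {n : ℕ} (g : G) (h : (g * d * g⁻¹ * (g * e * g⁻¹)) ^ n = 1) : (d * e) ^ n = 1 := by
  rw [conj_mul, conj_pow, mul_inv_eq_one, mul_eq_left] at h
  exact h

theorem sq_of_comm (hd : d * d = 1) (he : e * e = 1) (h : d * e = e * d) : (d * e) ^ 2 = 1 := by
  rw [pow_two, mul_assoc, ← mul_assoc e, ← h, mul_assoc, he, mul_one, hd]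

theorem pt_comm {p r : TU} (hp : IsP p) (hr : IsP r) : φ p * φ r = φ r * φ p :=
  mem_Cx.1 (map_mem_Cx (A_comm p (P_A p hp) r (P_A r hr)))

namespace S5

variable (h : S5 φ)
include h

theorem ordD (hd : IsConj (φ z) d) : orderOf d = 2 := by
  obtain ⟨c, rfl⟩ := isConj_iff.1 hd
  rw [ord_conj, h.ord zz z_ne]

theorem toS (hd : IsConj (φ z) d) (hz : d ∈ Cx (φ z)) (hn : d ≠ φ z) :
    ∃ c ∈ Cx (φ z), c * φ s * c⁻¹ = d := by
  obtain ⟨g, hg, h1⟩ := h.pts (P := closure {d}) (grange_le mem_H)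
    (ThreeTrans.isPGroup_closure_of_commute (by simpa using sqD hd) (by simp))
    ((closure_le _).2 (by simpa using hz))
  obtain ⟨p, hp, e⟩ := h1 d (subset_closure rfl) hd
  obtain ⟨c, -, rfl⟩ := P_conj p hp (by
    rintro rfl
    exact hn (by simpa using (e.symm.trans (mem_Cx'.1 hg).symm)))
  refine ⟨g⁻¹ * φ c, mul_mem (inv_mem hg) (mem_H c), ?_⟩
  rw [map_mul, map_mul, map_inv] at e
  calc _ = g⁻¹ * (φ c * φ s * (φ c)⁻¹) * g := by group
    _ = d := by rw [e]; group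

theorem pair (ha : IsConj (φ z) a) (hb : IsConj (φ z) b) (hn : a ≠ b) (hc : a * b = b * a) :
    ∃ g, g * a * g⁻¹ = φ s ∧ g * b * g⁻¹ = φ (s * y) := by
  obtain ⟨k, ek⟩ := isConj_iff.1 ha.symm
  obtain ⟨c, hcz, ec⟩ := h.toS (conjD hb k) (ek ▸ conj_mem_Cx.2 (mem_Cx.2 hc.symm))
    (fun e => hn (by simpa using ek.trans e.symm))
  obtain ⟨g, e1, e2⟩ := h.swap
  refine ⟨g⁻¹ * c⁻¹ * k, ?_, ?_⟩
  · calc _ = g⁻¹ * (c⁻¹ * (k * a * k⁻¹) * c⁻¹⁻¹) * g⁻¹⁻¹ := by group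
      _ = _ := by rw [ek, mem_Cx'.1 (inv_mem hcz)]; exact Eq.symm (Cm.symm e1)
  · calc _ = g⁻¹ * (c⁻¹ * (k * b * k⁻¹) * c) * g⁻¹⁻¹ := by group
      _ = g⁻¹ * φ s * g⁻¹⁻¹ := by rw [← ec]; group
      _ = _ := Eq.symm (Cm.symm e2)

theorem uniq (hd : IsConj (φ z) d) (hz : d ∈ Cx (φ z)) (hs : d ∈ Cx (φ s)) : ∃ p, IsP p ∧ φ p = d := by
  have hsD := h.P_D P_s
  obtain ⟨g, hg, h1⟩ := h.pts (P := closure {d, φ s}) (grange_le mem_H)
    (ThreeTrans.isPGroup_closure_of_commute (by simpa using ⟨sqD hd, sqD hsD⟩)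
      (by simpa using ⟨mem_Cx.1 hs, (mem_Cx.1 hs).symm⟩))
    ((closure_le _).2 (by simpa [Set.insert_subset_iff] using ⟨hz, mem_H s⟩))
  obtain ⟨p', hp', e'⟩ := h1 d (subset_closure (by simp)) hd
  obtain ⟨p, hp, e⟩ := h1 (φ s) (subset_closure (by simp)) hsD
  by_cases h2 : p' = z
  · subst h2
    exact ⟨z, P_z, by simpa using (mem_Cx'.1 hg).trans e'⟩
  obtain ⟨c1, hc1, rfl⟩ := P_conj p hp (by
    rintro rfl
    exact absurd ((Cm.eq_iff h.inj e (cm_fix.2 hg)).1 rfl) (by decide +kernel))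
  obtain ⟨c2, hc2, rfl⟩ := P_conj p' hp' h2
  obtain ⟨c, -, ec⟩ := h.imgQ (inv_mem hg) (Q.mul_mem hc2 (Q.inv_mem hc1))
  refine ⟨_, conj_P s P_s c, ?_⟩
  unfold Cm at ec
  simp only [map_mul, map_inv] at e e' ec ⊢
  calc _ = g⁻¹ * (φ c2 * (φ c1)⁻¹ * (g * φ s * g⁻¹) * (φ c2 * (φ c1)⁻¹)⁻¹) * g := by rw [ec]; group
    _ = g⁻¹ * (φ c2 * φ s * (φ c2)⁻¹) * g := by rw [← e]; group
    _ = d := by rw [e']; group

theorem cy (hd : IsConj (φ z) d) (hy : d ∈ Cx (φ y)) : ∃ p, IsP p ∧ φ p = d := by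
  have hsD := h.P_D P_s
  have hs : d ∈ Cx (φ s) := by
    rcases h.fixW hy with e | e
    · exact cm_fix.1 e
    have hsy : φ s * φ y = φ y * φ s := mem_Cx.1 (map_mem_Cx (by decide +kernel))
    have hW : IsPGroup 2 (closure {φ s, φ y}) := ThreeTrans.isPGroup_closure_of_commute
      (by simpa using ⟨sqD hsD, by rw [← map_mul, yy, map_one]⟩) (by simpa using ⟨hsy, hsy.symm⟩)
    have hn : closure {d} ≤ normalizer (closure {φ s, φ y} : Subgroup G) := by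
      refine (closure_le _).2 (Set.singleton_subset_iff.2 (mem_normalizer_of_forall fun w hw => ?_))
      induction hw using closure_induction with
      | mem w hw =>
        rcases hw with rfl | rfl
        · rw [← e, map_mul]
          exact mul_mem (subset_closure (by simp)) (subset_closure (by simp))
        · rw [mem_Cx'.1 hy]; exact subset_closure (by simp)
      | one => simp
      | mul u v _ _ hu hv => rw [← conj_mul]; exact mul_mem hu hv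
      | inv u _ hu => rw [← conj_inv]; exact inv_mem hu
    exact mem_Cx.2 (h.comm_two ((ThreeTrans.isPGroup_closure_of_commute (E := {d})
      (by simpa using sqD hd) (by simp)).to_sup_of_normal_right' hW hn)
      (mem_sup_left (subset_closure rfl)) (mem_sup_right (subset_closure (by simp))) hd hsD)
  obtain ⟨g, e1, e2⟩ := h.swap
  have key : ∀ u, IsConj (φ z) u → u ∈ Cx (φ s) → u ∈ Cx (φ y) → ∃ p, IsP p ∧ φ p = g * u * g⁻¹ :=
    fun u h1 h2 h3 => h.uniq (conjD h1 g) (e1 ▸ conj_mem_Cx.2 h2) (e2 ▸ conj_mem_Cx.2 (by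
      rw [map_mul, Cx_comm]; exact mul_mem (Cx_comm.1 h2) (Cx_comm.1 h3)))
  obtain ⟨p, hp, ep⟩ := key d hd hs hy
  obtain ⟨r, hr, er⟩ := key (φ z) (IsConj.refl _) (map_mem_Cx (zc s).symm) (map_mem_Cx (zc y).symm)
  exact h.uniq hd (conj_mem_Cx.1 (ep ▸ er ▸ mem_Cx.2 (pt_comm hp hr))) hs

theorem clq (ha : IsConj (φ z) a) (hb : IsConj (φ z) b) (hn : a ≠ b) (hc : a * b = b * a)
    (hd : IsConj (φ z) d) (he : IsConj (φ z) e) (h1 : d ∈ Cx (a * b)) (h2 : e ∈ Cx (a * b)) :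
    d * e = e * d := by
  obtain ⟨g, e1, e2⟩ := h.pair ha hb hn hc
  have e3 : g * (a * b) * g⁻¹ = φ y := by
    rw [← conj_mul, e1, e2, ← map_mul, ← mul_assoc, ss, one_mul]
  obtain ⟨p, hp, ep⟩ := h.cy (conjD hd g) (e3 ▸ conj_mem_Cx.2 h1)
  obtain ⟨r, hr, er⟩ := h.cy (conjD he g) (e3 ▸ conj_mem_Cx.2 h2)
  exact mem_Cx.1 (conj_mem_Cx.1 (ep ▸ er ▸ mem_Cx.2 (pt_comm hp hr)))

theorem odd (hd : IsConj (φ z) d) (he : IsConj (φ z) e) :
    Odd (orderOf (d * e)) ∨ orderOf (d * e) = 2 := by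
  refine (Cfsg.Agent.S5363.result (D := conjugatesOf (φ z)) (fun d hd => h.ordD hd)
    fun g d hd => conjD hd g).2 (fun a ha b hb hn hc => ?_) d hd e he
  ext u
  constructor
  · rintro ⟨hu, h1⟩
    have h2 : u ∈ Cx (a * b) := mem_Cx.2 h1.symm
    exact ⟨⟨hu, h.clq ha hb hn.symm hc ha hu (mem_Cx.2 ((Commute.refl a).mul_right hc)) h2⟩,
      hu, h.clq ha hb hn.symm hc hb hu (mem_Cx.2 (hc.symm.mul_right (Commute.refl b))) h2⟩
  · rintro ⟨⟨hu, h1⟩, -, h2⟩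
    exact ⟨hu, h1.mul_left h2⟩

theorem nb (hd : IsConj (φ z) d) : ∃ f, IsConj (φ z) f ∧ f ∈ Cx d ∧ f ∈ Cx (φ z) := by
  obtain ⟨n, hw, h1, h2⟩ := exists_common_inv (K := ⊤) (h.ordD hd) (h.ord yy y_ne) (mem_top _)
    (mem_top _) fun k _ e => h.ny (e ▸ conjD hd k)
  set w := (d * φ y) ^ n
  rcases h.cls hw with h3 | h3
  · obtain ⟨p, hp, ep⟩ := h.cy h3 (mem_Cx.2 h2.symm)
    exact ⟨w, h3, mem_Cx.2 h1.symm, ep ▸ mem_H p⟩
  obtain ⟨c, ec⟩ := isConj_iff.1 h3.symm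
  obtain ⟨p0, hp0, e0⟩ := h.cy (conjD hd c) (ec ▸ conj_mem_Cx.2 (mem_Cx.2 h1))
  set y1 := c * φ y * c⁻¹ with hy1
  have h4 : y1 ∈ Cx (φ y) := ec ▸ conj_mem_Cx.2 (mem_Cx.2 h2)
  have h5 : y1 * y1 = 1 := by rw [hy1, conj_mul, ← map_mul, yy, map_one, mul_one, mul_inv_cancel]
  have hP : ∀ i, IsP (pt i) := fun i => (isP_iff _).2 ⟨i, rfl⟩
  have h6 : ∀ i, ∃ j, φ (pt j) = y1 * φ (pt i) * y1⁻¹ := fun i => by
    obtain ⟨p, hp, ep⟩ := h.cy (conjD (h.P_D (hP i)) y1) (mul_mem (mul_mem h4 (map_mem_Cx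
      (A_comm _ (P_A _ (hP i)) y (by decide +kernel)))) (inv_mem h4))
    obtain ⟨j, rfl⟩ := (isP_iff p).1 hp
    exact ⟨j, ep⟩
  choose σ hσ using h6
  have h7 : ∀ i, σ (σ i) = i := fun i => pt_inj (h.inj (by
    rw [hσ, hσ]
    calc _ = (y1 * y1) * φ (pt i) * (y1 * y1)⁻¹ := by group
      _ = _ := by rw [h5]; group))
  obtain ⟨i, hi⟩ := Equiv.Perm.exists_fixed_point_of_prime (p := 2) (n := 1)
    (σ := Involutive.toPerm σ h7) (by decide) (Equiv.ext h7)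
  have h8 : φ (pt i) ∈ Cx y1 := Cx_comm.1 (mem_Cx'.2 (by rw [← hσ i]; exact congrArg _ (congrArg _ hi)))
  have h9 : IsConj (φ z) (c⁻¹ * φ (pt i) * c⁻¹⁻¹) := conjD (h.P_D (hP i)) _
  have e1 : c * (c⁻¹ * φ (pt i) * c⁻¹⁻¹) * c⁻¹ = φ (pt i) := by group
  obtain ⟨p, hp, ep⟩ := h.cy h9 (conj_mem_Cx.1 (e1.symm ▸ h8))
  exact ⟨_, h9, conj_mem_Cx.1 (e1.symm ▸ e0 ▸ mem_Cx.2 (pt_comm (hP i) hp0)), ep ▸ mem_H p⟩

theorem threeH (hd : IsConj (φ z) d) (hz : d ∈ Cx (φ z)) : (d * φ s) ^ 2 = 1 ∨ (d * φ s) ^ 3 = 1 := by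
  have hsD := h.P_D P_s
  by_cases h0 : d = φ z
  · exact .inl (sq_of_comm (sqD hd) (sqD hsD) (h0 ▸ (mem_Cx.1 (mem_H s)).symm))
  obtain ⟨c, hc, rfl⟩ := h.toS hd hz h0
  obtain ⟨a, ha, ea⟩ := h.imgQ hc (x := y) (by decide +kernel)
  obtain ⟨b, hb, eb⟩ := h.imgQ hc (x := y') (by decide +kernel)
  have ez : Cm φ c z z := cm_fix.2 hc
  have h1 : ∀ m0 m, Cm φ c m0 m → s * m0 = m0 * s → ¬ Md 1 m0 → InQ m → InA m →
      (c * φ s * c⁻¹ * φ s) ^ 2 = 1 := fun m0 m e h1 h2 h3 h4 => by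
    obtain ⟨p, hp, r, hr, hn, rfl⟩ := (by decide +kernel : ∀ m, InA m → InQ m → ¬ Md 1 m →
      ∃ p, IsP p ∧ ∃ r, IsP r ∧ p ≠ r ∧ p * r = m) m h4 h3 (fun h5 => h2 (h5.imp
        (e.ne_one h.inj).1 fun h5 => by
          rw [one_mul] at h5 ⊢; exact (e.eq_iff h.inj ez).1 h5))
    refine sq_of_comm (sqD hd) (sqD hsD) (h.clq (h.P_D hp) (h.P_D hr) (h.inj.ne hn) (pt_comm hp hr)
      hd hsD ?_ ?_) <;> rw [← map_mul]
    · rw [e]; exact conj_mem_Cx.2 (map_mem_Cx h1)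
    · exact map_mem_Cx (A_comm s (P_A s P_s) _ h4)
  by_cases h2 : InA a
  · exact .inl (h1 _ _ ea (by decide +kernel) (by decide +kernel) ha h2)
  by_cases h3 : InA b
  · exact .inl (h1 _ _ eb (by decide +kernel) (by decide +kernel) hb h3)
  by_cases h4 : InA (a * b)
  · exact .inl (h1 _ _ (ea.mul eb) (by decide +kernel) (by decide +kernel) (Q.mul_mem ha hb) h4)
  set d := c * φ s * c⁻¹ with hdd
  have h5 : ∀ {x}, InQ x → Ac φ d x (R a b x) := fun {x} hx => by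
    obtain ⟨x0, hx0, e0⟩ := h.imgQ (inv_mem hc) hx
    have e1 : Cm φ c x0 x := by simpa using e0.symm
    have e2 : Cm φ c (R0 y y' x0) (R0 a b x) := by
      refine (e1.mul ?_).mul ?_
      · rw [if_congr (e1.comm h.inj eb) rfl rfl]
        split_ifs
        exacts [Cm.one, ea]
      · rw [if_congr (e1.comm h.inj ea) rfl rfl]
        split_ifs
        exacts [Cm.one, eb]
    obtain ⟨r, m, e3⟩ := (s_act x0 hx0).img hc e2
    refine ⟨r, R_eq a b x ▸ m, ?_⟩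
    simpa only [hdd, mul_assoc] using (e0.trans (Cm.self s x0)).trans e3
  have hQy : InQ y := by decide +kernel
  have hQy' : InQ y' := by decide +kernel
  have h6 : ∀ {x}, InQ x → Ac φ (d * φ s) x (R a b (R y y' x)) ∧ InQ (R a b (R y y' x)) :=
    fun hx => ⟨(ac_s hx).trans (h5 (R_mem hQy hQy' hx)) hz, R_mem ha hb (R_mem hQy hQy' hx)⟩
  have h7 := mul_mem hz (mem_H s)
  have h8 : (d * φ s * (d * φ s * (d * φ s))) ^ 4 = 1 := by
    refine h.centQ (mul_mem h7 (mul_mem h7 h7)) fun i hi => ?_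
    have hx : InQ (o (2 * 2 ^ i)) := (by decide +kernel : ∀ i < 6, InQ (o (2 * 2 ^ i))) i hi
    obtain ⟨r, m, e⟩ := ((h6 hx).1.trans (h6 (h6 hx).2).1 h7).trans (h6 (h6 (h6 hx).2).2).1 h7
    exact ⟨r, (six a ((ea.sq h.inj).2 yy) ha h2 b ((eb.sq h.inj).2 (by decide +kernel)) hb h3
      ((ea.comm h.inj eb).2 (by decide +kernel)) h4 i hi).trans m, e⟩
  rw [← pow_three, ← pow_mul] at h8
  rcases h.odd hd hsD with h9 | h9
  · exact .inr (orderOf_dvd_iff_pow_eq_one.1 (Nat.Coprime.dvd_of_dvd_mul_right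
      (Nat.Coprime.pow_right 2 (Odd.coprime_two_right h9)) (orderOf_dvd_of_pow_eq_one h8)))
  · exact .inl (h9 ▸ pow_orderOf_eq_one _)

theorem three (hd : IsConj (φ z) d) (he : IsConj (φ z) e) : (d * e) ^ 2 = 1 ∨ (d * e) ^ 3 = 1 := by
  have key : ∀ g : G, (g * d * g⁻¹ * (g * e * g⁻¹)) ^ 2 = 1 ∨ (g * d * g⁻¹ * (g * e * g⁻¹)) ^ 3 = 1 →
      (d * e) ^ 2 = 1 ∨ (d * e) ^ 3 = 1 := fun g => Or.imp (pow_of_conj g) (pow_of_conj g)
  obtain ⟨k, ek⟩ := isConj_iff.1 he.symm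
  obtain ⟨f, hf, h1, h2⟩ := h.nb (conjD hd k)
  obtain ⟨l, el⟩ := isConj_iff.1 hf.symm
  have h3 : l * (k * d * k⁻¹) * l⁻¹ ∈ Cx (φ z) := el ▸ conj_mem_Cx.2 (Cx_comm.1 h1)
  have h4 : l * φ z * l⁻¹ ∈ Cx (φ z) := by
    have := (conj_mem_Cx (g := l)).2 (Cx_comm.1 h2)
    rwa [el] at this
  by_cases h5 : l * φ z * l⁻¹ = φ z
  · refine key (l * k) (.inl (sq_of_comm (sqD (conjD hd _)) (sqD (conjD he _)) ?_))
    have e1 : l * k * e * (l * k)⁻¹ = φ z := by rw [← h5, ← ek]; group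
    have e2 : l * k * d * (l * k)⁻¹ = l * (k * d * k⁻¹) * l⁻¹ := by group
    rw [e1, e2]
    exact mem_Cx.1 h3
  obtain ⟨c, hc, ec⟩ := h.toS (conjD (IsConj.refl _) l) h4 h5
  refine key (c⁻¹ * l * k) ?_
  have e1 : c⁻¹ * l * k * e * (c⁻¹ * l * k)⁻¹ = φ s := by
    calc _ = c⁻¹ * (l * (k * e * k⁻¹) * l⁻¹) * c := by group
      _ = _ := by rw [ek, ← ec]; group
  rw [e1]
  refine h.threeH (conjD hd _) ?_
  have e2 : c⁻¹ * l * k * d * (c⁻¹ * l * k)⁻¹ = c⁻¹ * (l * (k * d * k⁻¹) * l⁻¹) * c := by group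
  rw [e2]
  exact mul_mem (mul_mem (inv_mem hc) h3) hc

theorem solv : Group.IsSolvable
    (closure {x : G | x ∈ conjugatesOf (φ z) ∧ x ≠ φ z ∧ Commute (φ z) x}) := by
  have hN : (Q.map (res φ)).Normal := h.hc.normal (h.core (h.ord zz z_ne))
  set π := QuotientGroup.mk' (Q.map (res φ)) with hπ
  set ψ := π.comp (res φ) with hψ
  have hk : ∀ x, ψ x = 1 ↔ InQ x := fun x => (QuotientGroup.eq_one_iff _).trans
    (mem_map_iff_mem h.res_top.inj)
  have hS : IsSylowIn 2 ψ.range ⊤ := by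
    rw [hψ, MonoidHom.range_comp]
    exact CFun.sylIn_map_top h.res_top.syl (QuotientGroup.mk'_surjective _)
  set ρ := QuotientGroup.mk' (pPrimeCore 2 (Cx (φ z) ⧸ Q.map (res φ))) with hρ
  have hss : ψ s * ψ s = 1 := by rw [← map_mul, ss, map_one]
  have h1 : ⊤ ≤ (Cx (ρ (ψ s))).comap ρ := by
    refine le_of_weaklyClosed hS (z := ψ s) ⟨s, rfl⟩ (fun k _ ⟨x, e⟩ => ?_) ?_ ?_
    · have h2 : InQ (x * x) := (hk _).1 (by rw [map_mul, e, conj_mul, hss, mul_one, mul_inv_cancel])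
      rcases (by decide +kernel : ∀ x : TU, InQ (x * x) → InQ x ∨ InQ (x * s)) x h2 with h3 | h3
      · rw [(hk x).2 h3, eq_comm, mul_inv_eq_one, mul_eq_left, hk] at e
        exact absurd e (by decide +kernel)
      · have h4 := (hk _).2 h3
        rw [map_mul, e, ← hss] at h4
        exact mul_right_cancel h4
    · rw [opOf_top]
      intro u hu
      rw [mem_comap, show ρ u = 1 from (QuotientGroup.eq_one_iff u).2 hu]
      exact one_mem _
    · exact fun u hu => map_mem_Cx (mem_Cx.1 hu.2)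
  have : Group.IsSolvable π.ker := by
    rw [hπ, QuotientGroup.ker_mk']
    have := ((two.to_subgroup Q).map (res φ)).isNilpotent
    infer_instance
  have : Group.IsSolvable ρ.ker := by
    rw [hρ, QuotientGroup.ker_mk']
    exact FT.odd_order_solvable (Nat.coprime_two_right.1 (Core.coprime_card_pPrimeCore _ _))
  have := Core.isSolvable_comap ρ (zpowers (ρ (ψ s)))
  have := Core.isSolvable_comap π ((zpowers (ρ (ψ s))).comap ρ)
  have := Core.isSolvable_map (Cx (φ z)).subtype (((zpowers (ρ (ψ s))).comap ρ).comap π)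
  refine Core.isSolvable_of_le (K := (((zpowers (ρ (ψ s))).comap ρ).comap π).map (Cx (φ z)).subtype)
    ((closure_le _).2 fun x ⟨h2, h3, h4⟩ => ?_)
  obtain ⟨c, hc, rfl⟩ := h.toS h2 (mem_Cx.2 h4.symm) h3
  refine ⟨⟨c, hc⟩ * res φ s * ⟨c, hc⟩⁻¹, ?_, rfl⟩
  have h5 := mem_Cx'.1 (h1 (mem_top (π ⟨c, hc⟩)))
  change ρ (π _) ∈ zpowers _
  rw [map_mul, map_mul, map_inv, map_mul, map_mul, map_inv]
  exact h5.symm ▸ mem_zpowers _

end S5

open CfsgLib.Classical CfsgLib.Unitary in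
theorem s0513 {F : Type*} [Field F] [Fintype F] (hF : Fintype.card F = 4) (S : Sylow 2 G)
    (P : Sylow 2 (PSU 5 F 2)) (hS : Nonempty ((S : Subgroup G) ≃* (P : Subgroup (PSU 5 F 2)))) :
    Nonempty (G ≃* PSU 5 F 2) := by
  obtain ⟨ε⟩ := hS
  obtain ⟨φ, h⟩ := exists_S5 hF S P ε
  have hc : commutator G = ⊤ := (commutator_normal ⊤ ⊤).eq_bot_or_eq_top.resolve_left fun e =>
    h.ncomm ⟨⟨fun a b => commutatorElement_eq_one_iff_mul_comm.1
      (e.le (commutator_mem_commutator (mem_top a) (mem_top b)))⟩⟩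
  have hd : 1024 ∣ Nat.card G := card_T ▸ card_dvd_of_injective φ h.inj
  have hD : IsThreeTranspositionClass (conjugatesOf (φ z)) := by
    refine ⟨⟨fun d hd => h.ordD hd, fun d hd e he => h.three hd he⟩, ⟨_, IsConj.refl _, rfl⟩, ?_⟩
    have hn : (closure (conjugatesOf (φ z))).Normal := by
      have : closure (conjugatesOf (φ z)) = normalClosure {φ z} := by
        simp [normalClosure, Group.conjugatesOfSet]
      rw [this]; infer_instance
    exact hn.eq_bot_or_eq_top.resolve_left fun e =>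
      ne_one_of_ord (h.ord zz z_ne) (e.le (subset_closure (IsConj.refl _)))
  obtain ⟨⟨e⟩⟩ | ⟨⟨e⟩⟩ | ⟨F', _, _, hF', ⟨⟨e⟩⟩ | ⟨⟨e⟩⟩⟩ := Cfsg.Agent.S1614.result
    (fun N hN hs => hN.eq_bot_or_eq_top.resolve_right fun e => h.ncomm (by
      subst e
      exact ⟨⟨IsSimpleGroup.comm_iff_isSolvable.2 (Core.isSolvable_of_mulEquiv topEquiv)⟩⟩))
    (by rw [hc]; exact hc) hD _ (IsConj.refl _) h.solv
  · rw [Nat.card_congr e.toEquiv, Nat.card_perm] at hd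
    simp [Nat.factorial] at hd
  · rw [Nat.card_congr e.toEquiv, Nat.card_perm] at hd
    simp [Nat.factorial] at hd
  · have h6 := card_PSU (n := 4) (q := 2) hF' (by norm_num)
    simp only [Finset.prod_range_succ, Finset.prod_range_zero] at h6
    norm_num at h6
    rw [Nat.card_congr e.toEquiv] at hd
    omega
  · exact ⟨e.trans (psuMapEquiv (FiniteField.ringEquivOfCardEq (hF'.trans hF.symm)))⟩

end CfsgLib.SylT.TU
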