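import Cfsg.Agent.Lib.SylT.L5g

/-!
# Sylow 2-subgroup of type `L₅(2)`: the completion of the signalizer functor
(plans/S0512.md, B1 to B7)
-/

set_option autoImplicit false
set_option Elab.async false
set_option linter.unusedSectionVars false
set_option synthInstance.maxSize 100000
set_option maxRecDepth 100000

namespace CfsgLib.SylT.TL

open Subgroup Cfsg CfsgLib.Tech CfsgLib.PComp CfsgLib.W2 CfsgLib.Held Function TG

variable {G X : Type*} [Group G] [Finite G] [Group X] {φ ψ : TL →* G} {M W Y : Subgroup G}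
  {π : M →* X} {E : Emb X} {g k : G} {x y u : TL} {S : Subgroup TL}

namespace SL

variable (h : SL φ)
include h

theorem pair (ha : InA y) (hb : InB y) (e : Cm φ k y z) : ∃ g, Cm φ g y z ∧
    (∀ a, AB a → ∃ t, AB t ∧ Cm φ g a t) ∧ ∀ a, AB a → ∃ t, AB t ∧ Cm φ g t a := by
  obtain ⟨g, e1, h1⟩ := h.extz e
  have h2 : cj g (A.map φ) ≠ cj g (B.map φ) := fun e2 =>
    absurd (show InB x23 from (map_injective h.inj (cj_injective g e2)).le
      (show InA x23 by decide +kernel)) (by decide +kernel)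
  refine ⟨g, e1, ?_⟩
  rcases h.e64 (.inl rfl) fun r hr => h1 r (A_comm r hr y ha) with a | a <;>
    rcases h.e64 (.inr rfl) fun r hr => h1 r (B_comm r hr y hb) with b | b
  · exact absurd (a.trans b.symm) h2
  · exact ⟨fun x hx => hx.elim (fun hx => ((cj_cm a).1 x hx).imp fun _ => And.imp_left .inl)
      fun hx => ((cj_cm b).1 x hx).imp fun _ => And.imp_left .inr,
      fun x hx => hx.elim (fun hx => ((cj_cm a).2 x hx).imp fun _ => And.imp_left .inl)
      fun hx => ((cj_cm b).2 x hx).imp fun _ => And.imp_left .inr⟩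
  · exact ⟨fun x hx => hx.elim (fun hx => ((cj_cm a).1 x hx).imp fun _ => And.imp_left .inr)
      fun hx => ((cj_cm b).1 x hx).imp fun _ => And.imp_left .inl,
      fun x hx => hx.elim (fun hx => ((cj_cm b).2 x hx).imp fun _ => And.imp_left .inr)
      fun hx => ((cj_cm a).2 x hx).imp fun _ => And.imp_left .inl⟩
  · exact absurd (a.trans b.symm) h2

theorem not_z (hy : y = t0 ∨ y = rep 6) : ¬ Cm φ k y z := fun e => by
  have h0 : InA y ∧ InB y := by rcases hy with rfl | rfl <;> decide +kernel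
  obtain ⟨g, e1, -, h1⟩ := h.pair h0.1 h0.2 e
  obtain ⟨a, ha, e2⟩ := h1 x13 (by decide +kernel)
  obtain ⟨b, hb, e3⟩ := h1 x35 (by decide +kernel)
  have h2 := (((e2.mul e3).mul (e2.mul e3)).eq_iff h.inj e1).1 (by decide +kernel)
  rcases hy with rfl | rfl
  exacts [(sq_ne a ha b hb).1 h2, (sq_ne a ha b hb).2 h2]

theorem of_x24 (e : Cm φ k x24 z) : ∃ g, Cm φ g x14 z ∨ Cm φ g x25 z := by
  obtain ⟨g, e1, h1, -⟩ := h.pair (by decide +kernel) (by decide +kernel) e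
  obtain ⟨a, ha, e2⟩ := h1 x23 (by decide +kernel)
  obtain ⟨b, hb, e3⟩ := h1 x34 (by decide +kernel)
  obtain ⟨c, hc, e4⟩ := h1 (x34 * x35) (by decide +kernel)
  have e5 := (e2.mul e4).mul (e2.mul e4)
  have e7 := (e5.symm.trans (Cm.of_eq (t := x45) (q := x24) (by decide +kernel))).trans e
  rcases sq_mem a ha ⟨b, hb, (((e2.mul e3).mul (e2.mul e3)).eq_iff h.inj e1).2 (by decide +kernel)⟩
    c hc with (e8 | e8) | (e8 | e8) | e8 | e8
  · exact absurd ((e7.ne_one h.inj).2 e8) z_ne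
  · exact absurd ((e5.eq_iff h.inj e1).1 (e8.trans (one_mul z))) (by decide +kernel)
  · exact ⟨_, .inl (e8 ▸ e7)⟩
  · exact ⟨_, .inl ((Cm.of_eq (t := x45) (by decide +kernel)).trans (e8 ▸ e7))⟩
  · exact ⟨_, .inr (e8 ▸ e7)⟩
  · exact ⟨_, .inr ((Cm.of_eq (t := x12) (by decide +kernel)).trans (e8 ▸ e7))⟩

theorem ext64 (hS : S = A ∨ S = B) (hu : u ∈ S) (e : Cm φ k u z) :
    ∃ g S', (S' = A ∨ S' = B) ∧ Cm φ g u z ∧ cj g (S.map φ) = S'.map φ := by
  obtain ⟨g, e1, h1⟩ := h.extz e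
  rcases h.e64 hS fun r hr => h1 r (comm_AB hS r hr u hu) with e2 | e2
  exacts [⟨g, _, .inl rfl, e1, e2⟩, ⟨g, _, .inr rfl, e1, e2⟩]

end SL

namespace Lf

section

variable (h : Lf φ M π E)
include h

theorem comp_eq : π.comp (res φ h.mem) = ofEmb E := MonoidHom.ext h.eq

theorem lift {c : X} (e : c * E.ι (code x) * c⁻¹ = E.ι (code y)) : ∃ m ∈ M, Cm φ m x y := by
  have : Finite X := Finite.of_surjective π h.surj
  obtain ⟨g, rfl⟩ := h.surj c
  obtain ⟨k, -, e1⟩ := cm_lift (h.res_top h.mem).syl (h.comp_eq ▸ (SL_ofEmb E).inj) h.odd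
    (x := x) (y := y) (g := g) (h.comp_eq ▸ e.symm)
  exact ⟨_, (k * g).2, cm_res.1 e1⟩

theorem lift' {c : X} {a b : ℕ} (ha : inP mT a = true) (hb : inP mT b = true)
    (e : c * E.ι a * c⁻¹ = E.ι b) : ∃ m ∈ M, Cm φ m (uc a) (uc b) :=
  h.lift (by rwa [code_uc ha, code_uc hb])

theorem conj_rp {n : ℕ} (hn : inP mT n = true) (h0 : cls n ≠ 0) :
    ∃ m ∈ M, Cm φ m (uc n) (rep (cls n)) :=
  let ⟨_, _, e⟩ := E.cls_conj hn h0; h.lift' hn (rp_T (cls_spec hn).1) e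

theorem conj_rep (hx : x * x = 1) : ∃ m ∈ M, Cm φ m x (rep (kl x)) := by
  have := h.conj_rp (code_T x).1 ((cls_spec (code_T x).1).2.1
    (by rw [← code_mul, hx]; decide +kernel))
  rwa [(code_T x).2] at this

theorem mem_of [Finite X] {N : Subgroup M} (h1 : π.ker ≤ N) (h2 : ∀ x, ⟨φ x, h.mem x⟩ ∈ N) {g : M}
    (hg : π g ∈ E.P mT) : g ∈ N := by
  obtain ⟨x, e⟩ := (range_ofEmb E).ge hg
  refine (mul_mem_cancel_left (inv_mem (h2 x))).1 (h1 ?_)
  rw [MonoidHom.mem_ker, map_mul, map_inv, h.eq, ← ofEmb_apply, e, inv_mul_cancel]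

theorem of_c (hy : y = x24 * x13 ∨ y = x24 * x35) (e : Cm φ k y z) :
    ∃ g, Cm φ g x14 z ∨ Cm φ g x25 z := by
  obtain ⟨v, t, hv, h1, h2, h3, h4⟩ : ∃ v t, (v = x14 ∨ v = x25) ∧ t * (y * v) * t⁻¹ = y ∧
      y * v * y = y * (y * v) ∧ y * v ≠ y ∧ y * v * y = v := by
    rcases hy with rfl | rfl
    exacts [⟨x14, x34, by decide +kernel⟩, ⟨x25, x23, by decide +kernel⟩]
  obtain ⟨g, e1, h5⟩ := h.extz e
  obtain ⟨n, e2⟩ := h5 _ h2
  have e3 := (e2.symm.trans (Cm.of_eq h1)).trans e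
  have h6 := (e3.sq h.inj).1 zz
  obtain ⟨m, -, e4⟩ := h.conj_rep h6
  obtain rfl | rfl | e5 | e5 | ⟨s, -, e5⟩ := kl_or n h6
  · exact absurd ((e3.ne_one h.inj).2 rfl) z_ne
  · exact absurd ((e2.eq_iff h.inj e1).1 rfl) h3
  · rw [e5, show rep 3 = x24 by decide +kernel] at e4
    exact h.of_x24 (e4.symm.trans e3)
  · exact absurd ((e5 ▸ e4).symm.trans e3) (h.not_z (.inr rfl))
  · have e6 := ((h4 ▸ e2.mul e1).trans (Cm.of_eq e5).symm).trans e3
    rcases hv with rfl | rfl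
    exacts [⟨_, .inl e6⟩, ⟨_, .inr e6⟩]

theorem zv [IsSimpleGroup G] : ∃ g, Cm φ g x14 z ∨ Cm φ g x25 z := by
  obtain ⟨u, hu, e⟩ := zstar_T h.ncomm h.syl h.inj zz z_ne
  obtain ⟨g, e⟩ := Cm.of_isConj e
  have h1 := (e.sq h.inj).1 zz
  obtain ⟨m, -, e1⟩ := h.conj_rep h1
  replace e1 := e1.symm.trans e
  obtain rfl | rfl | h2 := kl_cases u h1
  · exact absurd ((e.ne_one h.inj).2 rfl) z_ne
  · exact absurd rfl hu
  simp only [List.mem_cons, List.not_mem_nil, or_false] at h2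
  rcases h2 with h2 | h2 | h2 | h2 | h2 | h2 | h2 <;> rw [h2] at e1
  exacts [h.of_x24 e1, ⟨_, .inr e1⟩, ⟨_, .inl e1⟩, absurd e1 (h.not_z (.inr rfl)),
    absurd e1 (h.not_z (.inl rfl)), h.of_c (.inl rfl) e1, h.of_c (.inr rfl) e1]

theorem exists_E [IsSimpleGroup G] : ∃ (v : TL) (S R : Subgroup TL), (S = A ∨ S = B) ∧ R ≤ S ∧
    Nat.card R = 8 ∧ z ∈ R ∧ v ∈ R ∧ v ≠ 1 ∧ v ≠ z ∧ v ∈ A ∧ v ∈ B ∧
      ∀ x ∈ R, x ≠ 1 → ∃ g, Cm φ g x z := by
  have h1 : ∀ {v : TL} {k : G}, Cm φ k v z → ∀ x, x * x = 1 → x = 1 ∨ x = z ∨ rep (kl x) = v →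
      x ≠ 1 → ∃ g, Cm φ g x z := fun e x hx h1 h2 => by
    obtain rfl | rfl | rfl := h1
    · exact absurd rfl h2
    · exact ⟨_, Cm.refl _⟩
    · exact let ⟨_, _, e1⟩ := h.conj_rep hx; ⟨_, e1.trans e⟩
  obtain ⟨g, e | e⟩ := h.zv
  · exact ⟨x14, A, EA, .inl rfl, fun x hx => (EA_spec x hx).1, card_EA,
      show In 1012 z by decide +kernel, show In 1012 x14 by decide +kernel, by decide +kernel,
      by decide +kernel, show InA x14 by decide +kernel, show InB x14 by decide +kernel,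
      fun x hx => h1 e x (A_sq x (EA_spec x hx).1) (EA_spec x hx).2⟩
  · exact ⟨x25, B, EB, .inr rfl, fun x hx => (EB_spec x hx).1, card_EB,
      show In 954 z by decide +kernel, show In 954 x25 by decide +kernel, by decide +kernel,
      by decide +kernel, show InA x25 by decide +kernel, show InB x25 by decide +kernel,
      fun x hx => h1 e x (B_sq x (EB_spec x hx).1) (EB_spec x hx).2⟩

end

variable {π : Cx (φ z) →* X} (h : Lf φ (Cx (φ z)) π E) (hk : π.ker = pPrimeCore 2 (Cx (φ z)))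
include h

theorem comm_z (c : Cx (φ z)) : π c * E.z = E.z * π c := by
  rw [← ofEmb_z, ofEmb_apply, ← h.eq, ← map_mul, ← map_mul]
  exact congrArg π (Subtype.ext (mem_Cx.1 c.2))

include hk

theorem oi0 (hS : S = A ∨ S = B) (hY : Y ≤ Cx (φ z)) (ho : Odd (Nat.card Y))
    (hn : S.map φ ≤ normalizer (Y : Set G)) : Y ≤ opOf 2 (Cx (φ z)) := fun y hy => by
  have : Finite X := Finite.of_surjective π h.surj
  have h0 : ∀ c : Cx (φ z), c.1 ∈ Y → ∀ j, π c ^ 2 ^ j = 1 → π c = 1 := fun c hc j e =>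
    orderOf_eq_one_iff.1 (Nat.eq_one_of_dvd_coprimes ((Nat.coprime_two_left.2 ho).pow_left j)
      (orderOf_dvd_of_pow_eq_one e) ((orderOf_map_dvd π c).trans
        (orderOf_coe c ▸ orderOf_dvd_natCard Y hc)))
  obtain ⟨n, hn1, e⟩ := E.surj (h.comm_z ⟨y, hY hy⟩)
  have h1 : ∀ f ∈ S, inP mQ (code f) = true → cm n (code f) = true := fun f hf hq => by
    have q2 : E.ι (code f) ∈ E.P mQ := (Emb.ι_mem_P (V_code f)).2 hq
    have q3 := (mem_normalizer_iff.1 (Emb.C_le_normalizer (bs := [1, 2, 3, 4, 11, 16, 21])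
      (by decide +kernel) (by decide +kernel) (E.comm_z hn1)) _).1 q2
    obtain ⟨j, hj⟩ := isPGroup_iff_mem.1 (Emb.isPGroup_P (E := E) (m := mQ) (by decide)) _
      (mul_mem q3 (inv_mem q2))
    rw [← E.comm_iff hn1 (V_code f), ← mul_inv_eq_iff_eq_mul, ← mul_inv_eq_one]
    rw [e, ← h.eq, ← map_inv, ← map_inv, ← map_mul, ← map_mul, ← map_mul] at hj ⊢
    refine h0 _ ?_ j hj
    simpa [mul_assoc] using mul_mem hy
      (conj_mem_of_mem_normalizer (hn (mem_map_of_mem φ hf)) (inv_mem hy))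
  have h2 := (imp_iff _ _).1 (allC_sound cent_two hn1) (by
    simp only [Bool.or_eq_true, Bool.and_eq_true]
    rcases hS with rfl | rfl
    · exact .inl ⟨h1 x13 (show InA x13 by decide +kernel) (by decide +kernel),
        h1 x14 (show InA x14 by decide +kernel) (by decide +kernel)⟩
    · exact .inr ⟨h1 x35 (show InB x35 by decide +kernel) (by decide +kernel),
        h1 x25 (show InB x25 by decide +kernel) (by decide +kernel)⟩)
  have h4 := hn1.mul hn1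
  have h5 := h4.mul h4
  rw [beq_iff, sq_eq, sq_eq, sq_eq, ← E.sq_eq_one h5, E.map_mul h4 h4, E.map_mul hn1 hn1, e] at h2
  refine (mem_opOf_iff (x := ⟨y, hY hy⟩)).2 (hk.le (h0 _ hy 3 ?_))
  rw [← h2, show 2 ^ 3 = 8 from rfl]; simp only [pow_succ, pow_zero, one_mul, mul_assoc]

theorem oi (hS : S = A ∨ S = B) (hu : u ∈ S) (e : Cm φ k u z) (hY : Y ≤ Cx (φ u))
    (ho : Odd (Nat.card Y)) (hn : S.map φ ≤ normalizer (Y : Set G)) : Y ≤ opOf 2 (Cx (φ u)) := by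
  obtain ⟨g, S', h1, e1, e2⟩ := h.ext64 hS hu e
  rw [← cj_le_cj_iff g, cj_opOf_Cx, ← e1]
  exact h.oi0 hk h1 (by rw [e1, ← cj_Cx]; exact cj_mono g hY) (by rwa [card_cj])
    (by rw [← e2, ← cj_normalizer]; exact cj_mono g hn)

end Lf

/-- `W` is the largest odd order subgroup normalised by `A` or by `B` -/
structure Mx (φ : TL →* G) (W : Subgroup G) : Prop where
  odd : Odd (Nat.card W)
  mem : ∀ x, φ x ∈ normalizer (W : Set G)
  max : ∀ {S : Subgroup TL} {Y : Subgroup G}, S = A ∨ S = B → Odd (Nat.card Y) →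
    S.map φ ≤ normalizer (Y : Set G) → Y ≤ W
  inf : W ⊓ Cx (φ z) = opOf 2 (Cx (φ z))

theorem Mx.mem_of (h : SL φ) (hW : Mx φ W) (hS : S = A ∨ S = B)
    (hg : cj g (S.map φ) ≤ normalizer (W : Set G)) : g ∈ normalizer (W : Set G) := by
  obtain ⟨m, hm, e⟩ := (h.syl.of_le (grange_le hW.mem) le_top).exists_cj_le
    (isPGroup_cj g (h.syl.pgroup.to_le (map_le_range φ S))) hg
  rw [← cj_mul] at e
  have h1 : cj (m * g) (S.map φ) ≤ normalizer (cj (m * g) W : Set G) := by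
    rw [← cj_normalizer]; exact cj_mono _ (gmap_le fun x _ => hW.mem x)
  refine (mul_mem_cancel_left hm).1 (mem_normalizer_of_cj_le ?_)
  rcases h.e64 hS fun r hr => cj_le_iff.1 e _ (mem_map_of_mem φ hr) with e1 | e1
  exacts [hW.max (.inl rfl) (card_cj _ W ▸ hW.odd) (e1 ▸ h1),
    hW.max (.inr rfl) (card_cj _ W ▸ hW.odd) (e1 ▸ h1)]

namespace Lf

variable {π : Cx (φ z) →* X} (h : Lf φ (Cx (φ z)) π E) (hk : π.ker = pPrimeCore 2 (Cx (φ z)))
include h hk

theorem exists_Mx [IsSimpleGroup G] : ∃ W, Mx φ W := by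
  obtain ⟨v, S, R, hS, hR, h8, hz, hv, v1, v2, vA, vB, h1⟩ := h.exists_E
  have hc : ∀ x ∈ S, ∀ y ∈ R, φ x ∈ Cx (φ y) := fun x hx y hy =>
    map_mem_Cx (comm_AB hS x hx y (hR hy))
  have hN : ∀ {S : Subgroup TL} {Y : Subgroup G} {u : TL}, S = A ∨ S = B → u ∈ S →
      S.map φ ≤ normalizer (Y : Set G) → S.map φ ≤ normalizer ((Y ⊓ Cx (φ u) : Subgroup G) : Set G) :=
    fun hS hu hn => Coprime.le_normalizer_inf hn
      ((gmap_le fun x hx => map_mem_Cx (comm_AB hS x hx _ hu)).trans le_normalizer)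
  have ho' : ∀ {Y : Subgroup G} (K : Subgroup G), Odd (Nat.card Y) → Odd (Nat.card (Y ⊓ K : Subgroup G)) :=
    fun K ho => ho.of_dvd_nat (card_dvd_of_le inf_le_left)
  obtain ⟨ho, hW⟩ := sft_opOf (A := R.map φ) (K := ⊤) le_top
    (by rintro _ ⟨a, ha, rfl⟩ _ ⟨b, hb, rfl⟩; exact mem_Cx.1 (hc a (hR ha) b hb))
    (by rintro _ ⟨a, ha, rfl⟩; rw [← map_mul, sq_AB hS a (hR ha), map_one])
    (by rw [card_map_of_injective h.inj, h8]) (by
      rintro _ ⟨a, ha, rfl⟩ - _ ⟨b, hb, rfl⟩ h2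
      simp only [top_inf_eq]
      obtain ⟨g, e⟩ := h1 b hb fun e => h2 (e ▸ map_one φ)
      exact h.oi hk hS (hR hb) e inf_le_right (ho' _ (odd_card_opOf _))
        (hN hS (hR hb) ((gmap_le fun x hx => hc x hx a ha).trans (le_normalizer_opOf _))))
  simp only [top_inf_eq] at ho hW
  set W := Wsup (R.map φ) fun a => opOf 2 (Cx a)
  have h2 : ∀ {S : Subgroup TL} {Y : Subgroup G}, S = A ∨ S = B → Odd (Nat.card Y) →
      S.map φ ≤ normalizer (Y : Set G) → Y ≤ W := fun {S Y} hS hY hn => by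
    have h3 : ∀ u ∈ S, u ∈ R → u ≠ 1 → Y ⊓ Cx (φ u) ≤ W := fun u a b c =>
      let ⟨_, e⟩ := h1 u b c
      (h.oi hk hS a e inf_le_right (ho' _ hY) (hN hS a hn)).trans
        (le_Wsup (fun a => opOf 2 (Cx a)) (mem_map_of_mem φ b) (map_one φ ▸ h.inj.ne c))
    have h4 : z ∈ S ∧ v ∈ S := by
      rcases hS with rfl | rfl
      exacts [⟨show InA z by decide +kernel, vA⟩, ⟨show InB z by decide +kernel, vB⟩]
    exact le_of_four hY (h.ord zz z_ne) (h.ord (A_sq v vA) v1) (h.inj.ne v2.symm)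
      (mem_Cx.1 (mem_H v)).symm (hn (mem_map_of_mem φ h4.1)) (hn (mem_map_of_mem φ h4.2))
      (h3 z h4.1 hz z_ne) (h3 v h4.2 hv v1) (map_mul φ z v ▸ h3 _ (mul_mem h4.1 h4.2)
        (mul_mem hz hv) fun e => v2 (mul_left_cancel (e.trans zz.symm)))
  have h3 : S.map φ ≤ normalizer (W : Set G) := gmap_le fun x hx => mem_normalizer_Wsup
    (by rintro _ ⟨a, ha, rfl⟩; rw [mem_Cx'.1 (hc x hx a ha)]; exact mem_map_of_mem φ ha)
    fun a _ _ => (cj_opOf_Cx _ a).le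
  refine ⟨W, ho, fun t => mem_normalizer_of_cj_le (h2 hS (by rwa [card_cj]) ?_), h2,
    hW _ (mem_map_of_mem φ hz) (ne_one_of_ord (h.ord zz z_ne))⟩
  rw [← cj_normalizer, ← mem_normalizer_iff_cj.1 (gnorm (φ := φ) (p := t) (X := S) (by
    rcases hS with rfl | rfl
    exacts [A_conj t, B_conj t]))]
  exact cj_mono _ h3

theorem cent_le (hW : Mx φ W) : Cx (φ z) ≤ normalizer (W : Set G) := fun c hc => by
  have : Finite X := Finite.of_surjective π h.surj
  have h1 : π.ker ≤ (normalizer (W : Set G)).subgroupOf _ := fun x hx =>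
    le_normalizer (hW.inf.ge (mem_opOf_iff.2 (hk.le hx))).1
  have h2 : ∀ {m : ℕ} [Fact (Trs m)] {S : Subgroup TL} {g : Cx (φ z)}, m ||| mT = mT →
      S = A ∨ S = B → (∀ x ∈ S, inP m (code x) = true) → π g ∈ normalizer (E.P m : Set X) →
      g.1 ∈ normalizer (W : Set G) := fun {m _ S g} h2 hS h3 h4 =>
    hW.mem_of h.toSL hS (cj_le_iff.2 (by
      rintro _ ⟨x, hx, rfl⟩
      refine h.mem_of h1 hW.mem (g := g * ⟨φ x, h.mem x⟩ * g⁻¹) (Emb.P_mono h2 ?_)
      rw [map_mul, map_mul, map_inv, h.eq]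
      exact conj_mem_of_mem_normalizer h4 ((Emb.ι_mem_P (V_code x)).2 (h3 x hx))))
  have h3 := Emb.mem_of_comm (S := ((normalizer (W : Set G)).subgroupOf _).map π) (fun i => by
    obtain ⟨g, e⟩ := h.surj (E.ι (lc i))
    refine ⟨g, ?_, e⟩
    by_cases hi : i = 4
    · exact h2 (by decide) (.inr rfl) (by decide +kernel : ∀ x, InB x → inP mA2 (code x) = true)
        (e ▸ Emb.lc_mem_normalizer bits_A2 (l := [4]) (by decide +kernel) fun _ => by simp [hi])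
    · exact h2 (by decide) (.inl rfl) (by decide +kernel : ∀ x, InA x → inP mA1 (code x) = true)
        (e ▸ Emb.N1_lc hi)) (h.comm_z ⟨c, hc⟩)
  rwa [← mem_comap, comap_map_eq, sup_eq_left.2 h1] at h3

theorem nb (hW : Mx φ W) : Emb.NB (normalizer (W : Set G)) (φ z) := fun g hg => by
  have h0 := h.cent_le hk hW
  obtain ⟨m, hm, p, e⟩ := (h.syl.of_le (grange_le hW.mem) le_top).exists_conj_mem hg
    (isPGroup_zpowers_of_pow (k := 1) (by
      simp only [pow_succ, pow_zero, one_mul, mul_assoc, mul_inv_cancel_left]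
      rw [← mul_assoc (φ z), zz']; simp))
  have e1 : Cm φ (m * g⁻¹) z p := e.trans (by group)
  have h1 := (e1.sq h.inj).2 zz
  obtain ⟨c, hc, e2⟩ := h.conj_rep h1
  obtain ⟨S, hS, h2⟩ : ∃ S, (S = A ∨ S = B) ∧ rep (kl p) ∈ S :=
    (rep_AB p h1).elim (fun a => ⟨_, .inl rfl, a⟩) fun a => ⟨_, .inr rfl, a⟩
  obtain ⟨n, S', -, e3, e4⟩ := h.ext64 hS h2 (e1.trans e2).symm
  have h3 := hW.mem_of h.toSL hS (e4.le.trans (gmap_le fun x _ => hW.mem x))
  exact inv_mem_iff.1 ((mul_mem_cancel_left hm).1 ((mul_mem_cancel_left (h0 hc)).1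
    ((mul_mem_cancel_left h3).1 (h0 (cm_fix.1 ((e1.trans e2).trans e3))))))

end Lf

end CfsgLib.SylT.TL
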