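import Cfsg.Agent.Lib.SylT.J2b
import Cfsg.Agent.Lib.LieModel.Unit
import Cfsg.Agent.Lib.Unitary.Order
import Cfsg.Agent.Lib.Unitary.SU2

/-!
# The Sylow 2-subgroup of `U₅(2)` as a table group `2^(1+6) : Q₈` (plans/SYLTYPE.md, U5)

The bits of the number of an element belong to the letters `z, y, y', q₁, q₂, t₁, t₂, s, k₁, k₂`.
-/

set_option autoImplicit false
set_option Elab.async false
set_option linter.unusedSectionVars false
set_option synthInstance.maxSize 100000
set_option maxRecDepth 100000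

namespace CfsgLib.SylT

open Subgroup Cfsg CfsgLib.Tech CfsgLib.PComp CfsgLib.W2 Function TG

section dec

variable {n : ℕ} {m : ℕ → ℕ → ℕ} {i : ℕ → ℕ} {h : TOk n m i}

/-- `R` holds exactly for the elements `f k`, `k < l` -/
def Lst (R : TG h → Prop) (f : ℕ → ℕ) (l : ℕ) : Prop :=
  (∀ x, R x → anyN (fun k => Nat.beq (f k) x.v) l = true) ∧ ∀ k < l, R (o (f k))

noncomputable instance (R : TG h → Prop) [DecidablePred R] (f : ℕ → ℕ) (l : ℕ) :
    Decidable (Lst R f l) := by unfold Lst; infer_instance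

theorem Lst.ex {R : TG h → Prop} {f : ℕ → ℕ} {l : ℕ} (H : Lst R f l) {x : TG h} (hx : R x) :
    ∃ k < l, o (f k) = x :=
  let ⟨k, hk, e⟩ := anyN_iff.1 (H.1 x hx); ⟨k, hk, by rw [Nat.eq_of_beq_eq_true e, o_v]⟩

/-- a loop over the listed elements -/
noncomputable def Lst.all {R : TG h → Prop} {f : ℕ → ℕ} {l : ℕ} (H : Lst R f l) (P : TG h → Prop)
    [DecidablePred P] : Decidable (∀ x, R x → P x) :=
  decidable_of_bool (allN (fun k => decide (P (o (f k)))) l) (by
    simp only [allN_iff, decide_eq_true_eq]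
    exact ⟨fun a x hx => let ⟨k, hk, e⟩ := H.ex hx; e ▸ a k hk, fun a k hk => a _ (H.2 k hk)⟩)

/-- a loop over the listed elements -/
noncomputable def Lst.any {R : TG h → Prop} {f : ℕ → ℕ} {l : ℕ} (H : Lst R f l) (P : TG h → Prop)
    [DecidablePred P] : Decidable (∃ x, R x ∧ P x) :=
  decidable_of_bool (anyN (fun k => decide (P (o (f k)))) l) (by
    simp only [anyN_iff, decide_eq_true_eq]
    exact ⟨fun ⟨k, hk, a⟩ => ⟨_, H.2 k hk, a⟩, fun ⟨x, hx, a⟩ =>
      let ⟨k, hk, e⟩ := H.ex hx; ⟨k, hk, e ▸ a⟩⟩)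

end dec

/-- multiplication of `2^(1+6)` -/
noncomputable def mQ7 (x y : ℕ) : ℕ := Nat.xor (Nat.xor x y) (tab2 1 1 64 0x996699669966996699669966996699669966996699669966996699669966996669966996699669966996699669966996699669966996699669966996699669969696969696969696969696969696969696969696969696969696969696969696666666666666666666666666666666666666666666666666666666666666666655aa55aa55aa55aa55aa55aa55aa55aa55aa55aa55aa55aa55aa55aa55aa55aaa55aa55aa55aa55aa55aa55aa55aa55aa55aa55aa55aa55aa55aa55aa55aa55a5a5a5a5a5a5a5a5a5a5a5a5a5a5a5a5a5a5a5a5a5a5a5a5a5a5a5a5a5a5a5a5aaaaaaaaaaaaaaaaaaaaaaaaaaaaaaaaaaaaaaaaaaaaaaaaaaaaaaaaaaaaaaaaa33cc33cc33cc33cc33cc33cc33cc33cc33cc33cc33cc33cc33cc33cc33cc33ccc33cc33cc33cc33cc33cc33cc33cc33cc33cc33cc33cc33cc33cc33cc33cc33c3c3c3c3c3c3c3c3c3c3c3c3c3c3c3c3c3c3c3c3c3c3c3c3c3c3c3c3c3c3c3c3cccccccccccccccccccccccccccccccccccccccccccccccccccccccccccccccccff00ff00ff00ff00ff00ff00ff00ff00ff00ff00ff00ff00ff00ff00ff00ff000ff00ff00ff00ff00ff00ff00ff00ff00ff00ff00ff00ff00ff00ff00ff00ff0f0f0f0f0f0f0f0f0f0f0f0f0f0f0f0f0f0f0f0f0f0f0f0f0f0f0f0f0f0f0f0f00000000000000000000000000000000000000000000000000000000000000000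 (Nat.div x 2) (Nat.div y 2))

/-- multiplication of `Q₈` -/
noncomputable def mQ8 : ℕ → ℕ → ℕ := tab2 3 7 8 0x21a977053b3e4c8fa5681decb3721397e05ade54c1fac688

/-- the action of `Q₈` on `2^(1+6)` -/
noncomputable def actU : ℕ → ℕ → ℕ := tab2 7 127 128 0xd1a756bd9b776fcb933e6c3831e2fffbefcf7ebcf8e5cf871eddfa75af5aad4a74a8d0b76acd8bf7aedc81061438916347993674f912654b46890a04e992a45eb96ac56a94a86ad1bb662c19b272e1dba7af1fbe3874f1f3064d1b22409922a50b96142c4091c3c60d0e182840608080dfbb6ecd7ab4e8c58f061cd9f265f1e7d7bf9f7f7febd3bf6e3c39f2a74a8d0af5aad4bf7aedcb76acd889163478106143912654b993674f42811a24a913a65ab17ae52a15aa6ed9ab466c98b076e9cb87ef9ebc3874f1f3064d1b22409922a50b96142c4091c3c60d0e182840608080efdbaf4e7cb8f0f1e7d7bf9f7f7fcb933e6c3831e2d5af469ddbf66d810614389163479f3a6cc972a4c8a74a8d0af5aad4b976f5fb166d5b5ab17ae52a15aa46890a04e992a47ef9ebc76e9cb862c19b26ad1bb6346cc193c7ce1d2854b172044913122058a1a3078e0e182840608080e1c7973e9d7b77fffbefcf7ebcf8c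58f061cd9f265dbb37eed3a35ea89163478106143972a4c89f3a6ccaf5aad4a74a8d0b166d5bb976f5f5eb96ac56a94a842811a24a913a67af1fbe72e1dba66c98b06ed9ab4346cc193c7ce1d2854b172044913122058a1a3078e0e182840608080cb933e6c3831e2dfbb6ecd7ab4e8e1c7973e9d7b77f5efc79fdffe7d972a4c89f3a6cc81061438916347bf7aedcb76acd8a956b57a1469536ed9ab466c98b07af1fbe72e1dba46890a04e992a452a15aa5ab17ae3260d9a3a70f9e244c8112c5ca15183470f102450b0e182840608080c58f061cd9f265d1a756bd9b776fefdbaf4e7cb8f0fbf3ffef3e3dfa9f3a6cc972a4c889163478106143b76acd8bf7aedca146953a956b576ad1bb662c19b27ef9ebc76e9cb842811a24a913a656a94a85eb96ac3260d9a3a70f9e244c8112c5ca15183470f102450b0e182840608080f1e7d7bf9f7f7fe1c7973e9d7b77d1a756bd9b776fc187163c997367b76acd8bf7aedca74a8d0af5aad4972a4c89f3a6cc870a0c08f1a2c47af1fbe72e1dba6ad1bb662c19b25ab17ae52a15aa4a913a642811a23e78e9c3668c982e58a9426488901e3868c16284880e182840608080fffbefcf7ebcf8efdbaf4e7cb8f0dfbb6ecd7ab4e8cf9b2e4c78b0e0bf7aedcb76acd8af5aad4a74a8d09f3a6cc972a4c88f1a2c4870a0c07ef9ebc76e9cb86ed9ab466c98b05eb96ac56a94a84e992a446890a03e78e9c3668c982e58a9426488901e3868c16284880e182840608080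

theorem okU : TOk 1024 (sdm 128 mQ7 mQ8 actU) (tab1 10 1023 0xdbb6fdb76cdaf6ada369d8f62d8361d9b67d9764de778deb7bdf37ddff7edd774ddb77dc371dcf72d4f52d4351d5f56d5355d7f5ed735dd6f5ad6359d1345d1f46d0341d0f42d2748d2b4bd374cd3b4fc8720c8f22c9325c9b27cb72ccbf2eca329cab2bcdf36cd734ccb33cc331ceb3bce339cff3ecf73cc771cc7f1ec6718c6f1ac4311c4b13c5315c5b17c2f0ac2708c3f0ec370cc1f06c1704c0f02c0700fa7e8fabebfb3edfbfeef93e5f9fe6f87e0f8be3ffbffff7fcfeffafe3f9fcbf3fc7f0fdff6fd3f5f5fd6f53d5f4fd2f43d1f6fdaf63d9f7fdef73ddf03c1f0fc2f13c5f1fc6f37ccf3bcff27c8f2bcbe8fa2e87a0e9ba7e93a5ebfaeeb7aceababea3a9ed7b4edfb6ec3b1ecbb3ee3b9eebbbef7bceffbee779ce7f9ee6798e6f9ae4391e4b93e5395e5b97e2f8ae2788e3f8ee378ce1f86e1784e0f82e07809c6709ca739d2759de769fa7f9f67c9ee7a9e27998e629826199a67996649b66c9ba6f9a2699ae6a9124591e469024190e4292e4a9224993e4e9324d95e569525594e52942519665896a5b9765c97a5f8be2e8b62c8aa2b8a2298862088e228922589a278f63c8fe3e8e2398ea3b8ca338c2318de368d63486e1a8661887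e1e8761c8561485e168461084e128220982a0b8320d83a0f81e068160480e0280600bdaf7bd6f4bcef2bc2f1be6f8beafbbf2fdbfefeb92e5b9ee6b86e0b8ae3baaebba6e8bbeeebb2edb02c1b0ec2b12c5b1ec6b3eceb32cdb2ecab22c9b4ed2b42d1b5ed6b52d5b76dcb7adfb66d8b6adbab6acabeaeaa2a9aaaaba8ea2a86a0a9aa7a92a5afebeaf6bcaeabbae2b9ac2b1acab3ad6b4adeb6a6e9aa6698a7e9ea769ca5694a5e96a4690a4e92a2289a2a8ba328da3a8fa1e86a1684a0e82a068058d625816159967595645a5685a96b5b16d5bd6e5d9775d5745cd725c1715f57c5f97f5e1795ed7a53d4e5314d52d4a521495114551d465014150d4256d5a5615957d5e5715d545505495355554559574d5344dd364c1314c9334fd3e4f53c4e93b4e1394852048d2249125499274a92b4a1294bd2e4b52c461194691b4711d4791f44d124451045d16455144350c43d0e4250842d0a41d064150440d0240500791e579de6785e0789e37b9ef7b5ec7adea7a1e97c5f07c9f37d1f57ddf67e9fb7e5f87fdfe7f1fd72dca721c973dce731cd701c170dc2711c571dc677dde771dd76dda761d9755d4759d7745d0749d36ddb66d5b46c9b36c1b16f5bc6fdbe6e1b96e9bb68da2685a0699a7691a56a1a96a9ab6b5ac6bdae66199669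9b6719d6799f64d926459065d96655946358c63d8e6258862d8a61d866158460d82605803e4f83e8fb3f0fd3fcfe3c4f03c8f33d0f53dcf63a4e83a8eb3b0ed3bcee380e138ce2394e4398e736cda360d937cde370dd34cd2340d135cd6350d532cca320c933cce330cd308c3304c0318c7314c42f4bc2fcbe2e0b92e8bb2d4b42dcb62c0b12c8b32b4ac2bcae2a0a92a8ab290a5298a7284a028ca22789f2709d2689b26099258972509524893240912388f2308d2288b2208921c862148420c82204801f87f1f47c1ec7a1e0791d8771d4741cc721c0711b86f1b46c1ac6a1a06919c6619065188631846017c5e1705d16c5a1605915c561505514c521405113c4e1304d12c4a12049118471144410843104400fc3e0f43c0e83b0e0390dc360d4340c8330c0310bc2e0b42c0a82b0a029098270902508c22084200781f0701d0681b06019058170501504813040110380f0300d0280b0200901c060140400c0200400) :=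
  ((SOk.of_light (n := 128) (gs := [2, 4, 8, 16, 32, 64]) (D := 4) (by decide +kernel)).sd
    (SOk.of_light (n := 8) (gs := [2, 4]) (D := 4) (by decide +kernel)) (by decide +kernel)).tok
      (by decide +kernel)

/-- the Sylow 2-subgroup of `U₅(2)` -/
abbrev TU : Type := TG okU

noncomputable section

namespace TU

def z : TU := o 1
def y : TU := o 2
def y' : TU := o 4
def s : TU := o 128
/-- the five transvections `z, s, s y, s y', s y y' z` -/
def pt (i : Fin 5) : TU := o (tab1 8 255 0x8784828001 i)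
/-- involutions of `Q` outside `A` (`0 < e < 4`) -/
def tt (e : ℕ) : TU := o (32 * e)
/-- the elements of `Q₈` -/
def kk (i : Fin 8) : TU := o (128 * i)

/-- `2^(1+6)` -/
abbrev InQ (x : TU) : Prop := x.v < 128
/-- `⟨z, y, y', s⟩` -/
abbrev InA (x : TU) : Prop := Nat.land x.v 888 = 0
/-- one of the five transvections -/
abbrev IsP (x : TU) : Prop := bit 0x9500000000000000000000000000000002 x.v = true
abbrev Md (x r : TU) : Prop := r = x ∨ r = x * z

theorem lstQ : Lst InQ id 128 := by decide +kernel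
theorem lstA : Lst InA (fun k => k % 8 + 128 * (k / 8)) 16 := by decide +kernel
theorem lstP : Lst IsP (tab1 8 255 0x8784828001) 5 := by decide +kernel
theorem lstI : Lst (fun x : TU => x * x = 1) (tab1 8 255 0x87868584838281807d7c7b7a757473726d6c6b6a676661605f5e5b5a575653524f4e4b4a454441403f3e3d3c373635342f2e2d2c232221200706050403020100) 64 := by decide +kernel

/-! short loops for `∀ x, InQ x → ..`, `∃ x, InQ x ∧ ..`, and the same for `InA`, `IsP`, `x * x = 1` -/
section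
variable (P : TU → Prop) [DecidablePred P]
instance : Decidable (∀ x, InQ x → P x) := lstQ.all P
instance : Decidable (∃ x, InQ x ∧ P x) := lstQ.any P
instance : Decidable (∀ x, InA x → P x) := lstA.all P
instance : Decidable (∃ x, InA x ∧ P x) := lstA.any P
instance : Decidable (∀ x, IsP x → P x) := lstP.all P
instance : Decidable (∃ x, IsP x ∧ P x) := lstP.any P
instance : Decidable (∀ x : TU, x * x = 1 → P x) := lstI.all P
instance : Decidable (∃ x : TU, x * x = 1 ∧ P x) := lstI.any P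
end

def Q : Subgroup TU := sub InQ (by decide +kernel)
def A : Subgroup TU := sub InA (by decide +kernel)

theorem card_T : Nat.card TU = 1024 := card_eq
theorem card_Q : Nat.card Q = 128 := (card_sub _ _).trans (by decide +kernel)
theorem card_A : Nat.card A = 16 := (card_sub _ _).trans (by decide +kernel)
theorem zc : ∀ x, x * z = z * x := by decide +kernel
theorem zz : z * z = 1 := by decide +kernel
theorem z_ne : z ≠ 1 := by decide +kernel
theorem ss : s * s = 1 := by decide +kernel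
theorem yy : y * y = 1 := by decide +kernel
theorem y_ne : y ≠ 1 := by decide +kernel
theorem gen4 : genB [tt 1, tt 2, kk 2, kk 4] 6 = true := by decide +kernel
theorem center_eq : ∀ x : TU, x * tt 1 = tt 1 * x → x * tt 2 = tt 2 * x → x * kk 2 = kk 2 * x →
    x * kk 4 = kk 4 * x → x = 1 ∨ x = z := by decide +kernel
theorem isP_iff : ∀ x, IsP x ↔ ∃ i, pt i = x := by decide +kernel
theorem pt_inj : Injective pt := by decide +kernel
theorem P_z : IsP z := by decide +kernel
theorem P_s : IsP s := by decide +kernel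
theorem P_sy : IsP (s * y) := by decide +kernel
theorem P_A : ∀ x, IsP x → InA x := by decide +kernel
theorem P_sq : ∀ x, IsP x → x * x = 1 ∧ x ≠ 1 := by decide +kernel
theorem P_Q : ∀ x, IsP x → InQ x → x = z := by decide +kernel
theorem P_conj : ∀ x, IsP x → x ≠ z → ∃ c, InQ c ∧ c * s * c⁻¹ = x := by decide +kernel
theorem conj_P : ∀ x, IsP x → ∀ c, IsP (c * x * c⁻¹) := by decide +kernel
theorem A_comm : ∀ x, InA x → ∀ r, InA r → x * r = r * x := by decide +kernel
theorem A_sq : ∀ x, InA x → x * x = 1 := by decide +kernel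
theorem invol : ∀ x : TU, x * x = 1 → InA x ∨ InQ x := by decide +kernel
theorem Q_sq : ∀ x, InQ x → x * x = 1 ∨ x * x = z := by decide +kernel
theorem Q_comm : ∀ x, InQ x → ∀ r, InQ r → Md (r * x) (x * r) := by decide +kernel
theorem Q_cent : ∀ x, (∀ r, InQ r → r * x = x * r) ↔ Md 1 x := by decide +kernel
theorem Q_conj : ∀ c, ∀ x ∈ Q, c * x * c⁻¹ ∈ Q := ind_of_genB gen4 (by simp) fun a ha g hg x hx => by
  simpa only [mul_assoc, mul_inv_rev] using ha _ ((by decide +kernel : ∀ g ∈ [tt 1, tt 2, kk 2, kk 4],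
    ∀ x, InQ x → InQ (g * x * g⁻¹)) g hg x hx)
theorem A_conj : ∀ c, ∀ x ∈ A, c * x * c⁻¹ ∈ A := (by decide +kernel : ∀ c x, InA x → InA (c * x * c⁻¹))

instance : Fact (Nat.Prime 2) := Nat.fact_prime_two

theorem two : IsPGroup 2 TU := IsPGroup.of_card (n := 10) card_T

theorem inj_of {G : Type*} [Group G] {φ : TU →* G} (h : φ z ≠ 1) : Injective φ := by
  rw [← MonoidHom.ker_eq_bot_iff]
  by_contra hn
  have := two.isNilpotent
  obtain ⟨c, h1, h2, h3⟩ := PGroup.exists_mem_center_of_normal φ.ker hn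
  have h4 := fun s => (mem_center_iff.1 h2 s).symm
  rcases center_eq c (h4 _) (h4 _) (h4 _) (h4 _) with e | e
  exacts [h3 e, h (e ▸ h1)]

/-- the polycyclic generators -/
def pg (i : ℕ) : TU := o (512 / 2 ^ i)
/-- the power relations -/
def psq (i : ℕ) : List ℕ := [[2], [2], [], [], [], [9], [9]].getD i []
/-- the conjugate relations -/
def pcj (i j : ℕ) : List ℕ := ([[[], [1, 2], [2], [3, 6, 5, 7, 8], [5, 7, 4], [5, 8, 9], [6, 7, 8]],
  [[], [], [2], [3, 5, 7, 8], [6, 7, 4], [5, 7, 9], [6, 8, 9]], [[], [], [], [3, 7], [4, 8]],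
  [[], [], [], [], [4], [5], [6], [7], [8, 9]], [[], [], [], [], [], [5], [6], [7, 9]],
  [[], [], [], [], [], [], [6, 9]]].getD i []).getD j [j]

open CfsgLib.Classical LieModel in
/-- the matrices of the generators -/
def pm (i : ℕ) : Matrix (Fin 5) (Fin 5) GF4 := Matrix.of fun a b => (cd4 0 (finIdx 5)).fK
  (tab1 2 3 (tab1 50 0x3ffffffffffff 0x40040040010110011415144544004a068f13d105100104390b428400430ec2d0013c1a2d0b14004507c64185000404001001541e06c004005a0f83b001001 i) (5 * a + b))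

open CfsgLib.Classical LieModel CfsgLib.Unitary Matrix in
theorem exists_U5 : ∃ φ : TU →* PSU 5 GF4 2, Injective φ ∧ IsSylowIn 2 φ.range ⊤ := by
  have h1 : ∀ i < 10, pm i * pm i * (pm i * pm i) = 1 ∧ (pm i)ᵀ * (pm i).map (fun x => x ^ 2) = 1 := by
    decide +kernel
  have h2 : ∀ i < 10, (pm i).det = 1 := fun i hi =>
    (by decide +kernel : ∀ x : GF4, x * x * (x * x) = 1 → x = 1) _ (by
      simpa only [det_mul, det_one] using congrArg det (h1 i hi).1)
  let x (i : ℕ) : SU 5 GF4 2 := if h : i < 10 then suOf card_GF4 (pm i) (h2 i h) (h1 i h).2 else 1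
  have hx : ∀ i < 10, suMat 5 GF4 2 (x i) = pm i := fun i hi => by simp only [x, dif_pos hi]; rfl
  have hi : Injective (suMat 5 GF4 2) := fun _ _ e => Subtype.ext (Subtype.ext e)
  have e : ∀ l : List ℕ, (∀ k ∈ l, k < 10) → suMat 5 GF4 2 (ew x l) = (l.map pm).prod := fun l hl => by
    rw [ew, map_list_prod, List.map_map]
    exact congrArg _ (List.map_congr_left fun k hk => hx k (hl k hk))
  have hl : PcOk 10 psq pcj := by decide
  have h3 : ∀ i < 10, pm i * pm i = ((psq i).map pm).prod ∧ ∀ j < 10, i < j →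
      pm i * pm j = ((pcj i j).map pm).prod * pm i := by decide +kernel
  obtain ⟨φ, hφ⟩ := exists_hom_pc (x := x) (g := pg) hl (fun i h => ⟨hi (by
      rw [map_mul, hx i h, e _ fun k hk => ((hl i h).1 k hk).2, (h3 i h).1]), fun j hj hij => hi (by
      rw [map_mul, map_mul, hx i h, hx j hj, e _ fun k hk => ((hl i h).2 j hj hij k hk).2,
        (h3 i h).2 j hj hij])⟩) (by decide +kernel) card_T.ge
    fun S hS => eq_top_of_genB gen4 (by
      simp only [List.forall_mem_cons]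
      exact ⟨hS 4 (by norm_num), hS 3 (by norm_num), hS 1 (by norm_num), hS 0 (by norm_num), by simp⟩)
  have h4 : Injective ((QuotientGroup.mk' (center (SU 5 GF4 2))).comp φ) := inj_of fun h => by
    have h5 := (QuotientGroup.eq_one_iff _).1 h
    rw [card_eq_one.1 (card_center_SU (n := 5) (q := 2) card_GF4 (by norm_num)), mem_bot] at h5
    have h6 := hx 9 (by norm_num)
    rw [← hφ 9 (by norm_num), show pg 9 = z from rfl, h5, map_one] at h6
    exact absurd h6 (by decide +kernel)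
  refine ⟨_, h4, ?_⟩
  set ψ := (QuotientGroup.mk' (center (SU 5 GF4 2))).comp φ
  have hc : Nat.card ψ.range = 2 ^ 10 := by
    rw [← Nat.card_congr (MonoidHom.ofInjective h4).toEquiv, card_T]; rfl
  refine ⟨le_top, IsPGroup.of_card hc, ?_⟩
  have h5 := ψ.range.card_mul_index
  have h6 := card_PSU (n := 5) (q := 2) card_GF4 (by norm_num)
  simp only [Finset.prod_range_succ, Finset.prod_range_zero] at h6
  norm_num at h6
  rw [hc, show Nat.card (PSU 5 GF4 2) = 13685760 by omega] at h5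
  rw [relIndex_top_right]; omega

/-- `φ` is an isomorphism onto a Sylow 2-subgroup -/
structure S5 {G : Type*} [Group G] (φ : TU →* G) : Prop where
  inj : Injective φ
  syl : IsSylowIn 2 φ.range ⊤

open CfsgLib.Classical CfsgLib.Unitary in
theorem exists_S5 {G F : Type*} [Group G] [Finite G] [Field F] [Fintype F] (hF : Fintype.card F = 4)
    (S : Sylow 2 G) (P : Sylow 2 (PSU 5 F 2)) (e : (S : Subgroup G) ≃* (P : Subgroup (PSU 5 F 2))) :
    ∃ φ : TU →* G, S5 φ := by
  let ε := psuMapEquiv (n := 5) (q := 2) (FiniteField.ringEquivOfCardEq (card_GF4.trans hF.symm))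
  obtain ⟨ψ, h1, h2⟩ := exists_U5
  have h3 : IsSylowIn 2 (ε.toMonoidHom.comp ψ).range ⊤ := by
    rw [MonoidHom.range_comp]; exact CFun.sylIn_map_top h2 ε.surjective
  let e' : TU ≃* (S : Subgroup G) := ((MonoidHom.ofInjective (f := ε.toMonoidHom.comp ψ)
    (ε.injective.comp h1)).trans (h3.toSylowTop.equiv P)).trans e.symm
  have h4 : ((S : Subgroup G).subtype.comp e'.toMonoidHom).range = S := by
    rw [MonoidHom.range_comp, MonoidHom.range_eq_top.2 e'.surjective, ← MonoidHom.range_eq_map,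
      range_subtype]
  exact ⟨_, Subtype.val_injective.comp e'.injective, by rw [h4]; exact IsSylowIn.of_sylow_top S⟩

end TU

end

end CfsgLib.SylT
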