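import Cfsg.Agent.Lib.SylT.L5d
import Cfsg.Agent.Lib.W2.Fpf

/-!
# Sylow 2-subgroup of type `L₅(2)`: fusion of the central involution and odd signalizers
(plans/S0512.md, B0 to B3)
-/

set_option autoImplicit false
set_option Elab.async false
set_option linter.unusedSectionVars false
set_option synthInstance.maxSize 100000
set_option maxRecDepth 100000

namespace CfsgLib.SylT.TL

open Subgroup Cfsg CfsgLib.Tech CfsgLib.PComp CfsgLib.W2 CfsgLib.Held Function TG

noncomputable section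

/-- the class number in the centraliser -/
def kl (x : TL) : ℕ := cls (code x)

/-- the class representatives -/
def rep (k : ℕ) : TL := uc (rp k)

/-- the union of the two elementary abelian subgroups of order 64 -/
abbrev AB (x : TL) : Prop := InA x ∨ InB x

theorem lstAB : Lst AB (fun k => cond (Nat.blt k 64) k
    (k % 8 + 16 * (k / 8 % 2) + 64 * (k / 16 % 2) + 512 * (k / 32 % 2))) 128 := by decide +kernel

instance (P : TL → Prop) [DecidablePred P] : Decidable (∀ x, AB x → P x) := lstAB.all P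
instance (P : TL → Prop) [DecidablePred P] : Decidable (∃ x, AB x ∧ P x) := lstAB.any P

theorem rp_T {k : ℕ} (hk : k < 10) : inP mT (rp k) = true := by revert k; decide +kernel

theorem kl_lt (x : TL) : kl x < 10 := (cls_spec (code_T x).1).1

theorem rep_AB : ∀ x : TL, x * x = 1 → AB (rep (kl x)) := by decide +kernel

theorem sq_ne : ∀ a, AB a → ∀ b, AB b → a * b * (a * b) ≠ t0 ∧ a * b * (a * b) ≠ rep 6 := by
  decide +kernel

theorem sq_mem : ∀ a, AB a → (∃ b, AB b ∧ a * b * (a * b) = z) → ∀ c, AB c →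
    Md 1 (a * c * (a * c)) ∨ Md x14 (a * c * (a * c)) ∨ Md x25 (a * c * (a * c)) := by
  decide +kernel

theorem kl_or : ∀ x : TL, x * x = 1 → x = 1 ∨ x = z ∨ kl x = 3 ∨ kl x = 6 ∨
    ∃ t, InQ t ∧ t * x * t⁻¹ = x * z := by decide +kernel

theorem kl_cases : ∀ x : TL, x * x = 1 → x = 1 ∨ x = z ∨ rep (kl x) ∈
    [x24, x25, x14, rep 6, t0, x24 * x13, x24 * x35] := by decide +kernel

theorem cent_two : allC (fun n => imp (cm n ci && cm n cl || cm n ck && cm n cu)
    (Nat.beq (Held.sq (Held.sq (Held.sq n))) one)) = true := by decide +kernel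

theorem card_t0 : Nat.card (⊤ ⊓ Cx t0 : Subgroup TL) = 512 :=
  (card_subgroup _ (fun x => x * t0 = t0 * x) fun _ => by simp [mem_Cx]).trans (by decide +kernel)

/-- `⟨z, x₁₄, x₁₃⟩` -/
def EA : Subgroup TL := sm 1012 [z, x14, x13] (by decide +kernel)
/-- `⟨z, x₂₅, x₃₅⟩` -/
def EB : Subgroup TL := sm 954 [z, x25, x35] (by decide +kernel)

theorem card_EA : Nat.card EA = 8 := (card_subgroup _ (In 1012) fun _ => .rfl).trans (by decide +kernel)
theorem card_EB : Nat.card EB = 8 := (card_subgroup _ (In 954) fun _ => .rfl).trans (by decide +kernel)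
theorem EA_spec : ∀ x, In 1012 x → InA x ∧ (x = 1 ∨ x = z ∨ rep (kl x) = x14) := by decide +kernel
theorem EB_spec : ∀ x, In 954 x → InB x ∧ (x = 1 ∨ x = z ∨ rep (kl x) = x25) := by decide +kernel

variable {G X : Type*} [Group G] [Group X] {φ ψ : TL →* G} {M : Subgroup G} {π : M →* X}
  {E : Emb X} {g k : G} {x y u : TL} {S : Subgroup TL}

/-- `φ` lifts the Sylow subgroup of `E` over the odd kernel of `π : M → X` -/
structure Lf (φ : TL →* G) (M : Subgroup G) (π : M →* X) (E : Emb X) : Prop extends SL φ where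
  mem : ∀ x, φ x ∈ M
  surj : Surjective π
  odd : Odd (Nat.card π.ker)
  eq : ∀ x, π ⟨φ x, mem x⟩ = E.ι (code x)

theorem cj_cm {S' : Subgroup TL} (e : cj g (S.map φ) = S'.map φ) :
    (∀ a ∈ S, ∃ t ∈ S', Cm φ g a t) ∧ ∀ a ∈ S', ∃ t ∈ S, Cm φ g t a :=
  ⟨fun _ ha => e.le (conj_mem_cj.2 (mem_map_of_mem φ ha)), fun _ ha => by
    obtain ⟨_, ⟨t, ht, rfl⟩, e1⟩ := e.ge (mem_map_of_mem φ ha)
    exact ⟨t, ht, e1.symm⟩⟩

theorem comm_AB (hS : S = A ∨ S = B) : ∀ x ∈ S, ∀ y ∈ S, x * y = y * x := by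
  rcases hS with rfl | rfl
  exacts [A_comm, B_comm]

theorem sq_AB (hS : S = A ∨ S = B) : ∀ x ∈ S, x * x = 1 := by
  rcases hS with rfl | rfl
  exacts [A_sq, B_sq]

variable [Finite G]

theorem SL.exists_Lf (h : SL φ) (hs : Surjective π)
    (ho : Odd (Nat.card π.ker)) (E : Emb X) : ∃ ψ, Lf ψ M π E := by
  have : Finite X := Finite.of_surjective π hs
  obtain ⟨ψ, h1, h2⟩ := exists_lift hs ho (SL_ofEmb E).syl
  have h3 : Injective (M.subtype.comp ψ) := Subtype.val_injective.comp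
    (Injective.of_comp (f := π) (by rw [← MonoidHom.coe_comp, h1]; exact (SL_ofEmb E).inj))
  refine ⟨M.subtype.comp ψ, ⟨h3, h.syl.of_card_le ?_ le_top ?_⟩, fun x => (ψ x).2, hs, ho,
    fun x => DFunLike.congr_fun h1 x⟩
  · rw [MonoidHom.range_comp]; exact h2.pgroup.map _
  · rw [← Nat.card_congr (MonoidHom.ofInjective h.inj).toEquiv,
      ← Nat.card_congr (MonoidHom.ofInjective h3).toEquiv]

theorem SL.conj_z (h : SL φ) (h' : SL ψ) (hM : ∀ x, φ x ∈ M) (hM' : ∀ x, ψ x ∈ M) :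
    ∃ m ∈ M, m * ψ z * m⁻¹ = φ z := by
  obtain ⟨m, hm, e⟩ := (h'.syl.of_le (grange_le hM') le_top).exists_cj_eq
    (h.syl.of_le (grange_le hM) le_top)
  obtain ⟨t, ht⟩ := e.le (conj_mem_cj.2 ⟨z, rfl⟩)
  have h1 : ∀ s, t * s = s * t := fun s => h.inj (by
    obtain ⟨_, ⟨r, rfl⟩, e1⟩ := e.ge ⟨s, rfl⟩
    rw [map_mul, map_mul, ht, ← e1]
    exact (mem_Cx.1 (conj_mem_Cx.2 (mem_H r))).symm)
  refine ⟨m, hm, ?_⟩
  rcases center_eq t (h1 _) (h1 _) (h1 _) (h1 _) with rfl | rfl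
  · exact absurd (by simpa using ht.symm) (ne_one_of_ord (h'.ord zz z_ne))
  · exact ht.symm

end

end CfsgLib.SylT.TL
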