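import Cfsg.Agent.Lib.SylT.L5b
import Cfsg.Agent.Lib.Gold.Loc2
import Cfsg.Agent.Lib.Gold.Cor1
import Cfsg.Agent.Lib.W2.Tools

/-! No component, hence `A` is normal (plans/SYLTYPE.md, L5); S3169 and S3170 modulo Goldschmidt. -/

set_option autoImplicit false

namespace CfsgLib.SylT.L5

open Subgroup Cfsg CfsgLib.Tech CfsgLib.Gold CfsgLib.PComp CfsgLib.Abel2
open scoped commutatorElement

universe u

variable {G : Type u} [Group G] [Finite G] {A L : Subgroup G}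

theorem ac_cj (hL : AC A ⊤ L) {g : G} (hg : g ∈ normalizer (A : Set G)) : AC A ⊤ (cj g L) := by
  have := hL.cj g
  rwa [mem_normalizer_iff_cj.1 hg, cj_top] at this

theorem conj_mem_cbar (hL : AC A ⊤ L) {g a : G} (hg : g ∈ normalizer (A : Set G))
    (hn : g ∉ normalizer (L : Set G)) (ha : a ∈ L) : g * a * g⁻¹ ∈ cbar L :=
  tc_le_cbar_of_ne hL.tc (ac_cj hL hg).tc (fun e => hn (mem_normalizer_iff_cj.2 e.symm))
    (conj_mem_cj.2 ha)

theorem Hyp.inf_eq_bot (H : Hyp G) (hA : Big A) (h : Gold.Loc A ⊤) (hL : AC A ⊤ L) :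
    A ⊓ L ⊓ cbar L = ⊥ := by
  by_contra hz
  obtain ⟨-, t, ht, h2, -, h3, h4, h5⟩ := h.ctr hL hz
  obtain ⟨a, ha, e⟩ := H.m3 (h2.to_sup_of_normal_right' hA.two (zpowers_le.2 ht.2)) hA
    le_sup_right (mem_sup_left (mem_zpowers t)) h4
  exact h5 (e ▸ (h3 a ha).2)

theorem sq_mem_normalizer (h : Gold.Loc A ⊤) (hL : AC A ⊤ L) {x t : G}
    (hx : x ∈ normalizer (A : Set G)) (e : x * x = t)
    (hc : ∀ a ∈ A, x * (t * a * t⁻¹ * a⁻¹) = t * a * t⁻¹ * a⁻¹ * x) :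
    t ∈ normalizer (L : Set G) := by
  by_contra hn
  have ht : t ∈ normalizer (A : Set G) := e ▸ mul_mem hx hx
  have h1 : x ∉ normalizer (L : Set G) := fun h1 => hn (e ▸ mul_mem h1 h1)
  refine hL.2 ((h.le_sup hL).trans (sup_le (fun a ha => ?_) inf_le_right))
  have h2 := conj_mem_cbar hL hx h1 ha.2
  have h3 := conj_mem_cbar hL (inv_mem hx) (fun h => h1 (inv_mem_iff.1 h)) ha.2
  have h4 := conj_mem_cbar hL ht hn ha.2
  have h5 := mul_mem h2 (inv_mem h3)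
  have e2 : x * a * x⁻¹ * (x⁻¹ * a * x⁻¹⁻¹)⁻¹ = x⁻¹ * (t * a * t⁻¹ * a⁻¹ * x) := by
    rw [← e]
    group
  rw [e2, ← hc a ha.1, inv_mul_cancel_left] at h5
  exact inv_mem_iff.1 ((mul_mem_cancel_left h4).1 h5)

theorem mem_normalizer_of_two (h : Gold.Loc A ⊤) (hL : AC A ⊤ L) {u t : G}
    (hu : u ∈ normalizer (A : Set G)) (ht : t ∈ normalizer (L : Set G)) (h2 : Two A u t) :
    u ∈ normalizer (L : Set G) := by
  by_contra hn
  obtain ⟨p, q, a, ha, hq, h3⟩ := h2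
  have htc := normalizer_le_normalizer_cbar L ht
  have h4 : ∀ b ∈ A, ∃ v ∈ A, b * (u * v * u⁻¹ * v⁻¹) ∈ cbar L := fun b hb => by
    obtain ⟨v, hv, h5⟩ := h.exists_mul hL hb
    refine ⟨v, hv.1, ?_⟩
    have h6 := mul_mem h5 (conj_mem_cbar hL hu hn hv.2)
    rwa [h.mul_comm (inv_mem hv.1) hb, mul_assoc,
      h.mul_comm (inv_mem hv.1) (conj_mem_of_mem_normalizer hu hv.1)] at h6
  have h5 : q ∈ cbar L := by
    obtain ⟨v, hv, h5⟩ := h4 a ha
    have h6 := mul_mem (conj_mem_of_mem_normalizer htc h5) (inv_mem h5)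
    have e : t * (a * (u * v * u⁻¹ * v⁻¹)) * t⁻¹ =
        t * a * t⁻¹ * (t * (u * v * u⁻¹ * v⁻¹) * t⁻¹) := by group
    rw [e, (h3 v hv).1] at h6
    convert h6 using 1
    rw [hq]
    group
  have h6 : ∀ b ∈ A, b ∉ cbar L → b * p ∈ cbar L := fun b hb hb' => by
    obtain ⟨v, hv, h6⟩ := h4 b hb
    rcases (h3 v hv).2 with e | e | e | e <;> rw [e] at h6
    · exact absurd (by simpa using h6) hb'
    · exact h6
    · exact absurd ((mul_mem_cancel_right h5).1 h6) hb'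
    · rwa [← mul_assoc, mul_mem_cancel_right h5] at h6
  obtain ⟨b, hb, hb'⟩ := SetLike.not_le_iff_exists.1 hL.2
  have h7 : (A ⊓ cbar L).relIndex A ∣ 2 := by
    refine relIndex_dvd_two_iff.2 ⟨b⁻¹, inv_mem hb, fun c hc => ?_⟩
    by_cases hc' : c ∈ cbar L
    · exact Or.inr ⟨hc, hc'⟩
    · refine Or.inl (mem_inf.2 ⟨mul_mem hc (inv_mem hb), ?_⟩)
      simpa only [mul_inv_rev, mul_assoc, mul_inv_cancel_left] using
        mul_mem (h6 c hc hc') (inv_mem (h6 b hb hb'))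
  have h8 := card_mul_relIndex' (inf_le_left : A ⊓ cbar L ≤ A)
  have h9 := h.four_mul_le hL
  have h10 := Nat.mul_le_mul_left (Nat.card ↥(A ⊓ cbar L)) (Nat.le_of_dvd two_pos h7)
  have : 0 < Nat.card ↥(A ⊓ cbar L) := Nat.card_pos
  omega

theorem comm_of_pow {Γ : Type*} [Group Γ] {u w g : Γ} {i j : ℕ} (hu : u * u = 1) (hw : w * w = 1)
    (h1 : u * g * u⁻¹ = g ^ i) (h2 : w * g * w⁻¹ = g ^ j) :
    u * w * (u * w) * g = g * (u * w * (u * w)) := by
  have h3 : u * w * g * (u * w)⁻¹ = w * u * g * (w * u)⁻¹ := by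
    calc u * w * g * (u * w)⁻¹ = u * (w * g * w⁻¹) * u⁻¹ := by group
      _ = w * (u * g * u⁻¹) * w⁻¹ := by
        rw [h1, h2, ← conj_pow, ← conj_pow, h1, h2, ← pow_mul, ← pow_mul, mul_comm i j]
      _ = _ := by group
  have h4 : w * u = (u * w)⁻¹ := by
    rw [mul_inv_rev, inv_eq_of_mul_eq_one_right hu, inv_eq_of_mul_eq_one_right hw]
  rw [h4] at h3
  calc u * w * (u * w) * g = u * w * (u * w * g * (u * w)⁻¹) * (u * w) := by group
    _ = _ := by rw [h3]; group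

theorem Hyp.not_ac (H : Hyp G) (hA : Big A) (h : Gold.Loc A ⊤) (hL : AC A ⊤ L) : False := by
  obtain ⟨S, u, w, t, hS, hAS, hu, hw, hu2, hw2, e, hc, hz, h1, h2⟩ := H.exists_uw hA
  have hSA := H.le_norm hS hA hAS
  have ht := sq_mem_normalizer h hL (hSA (mul_mem hu hw)) e hc
  have huL := mem_normalizer_of_two h hL (hSA hu) ht h1
  have hwL := mem_normalizer_of_two h hL (hSA hw) ht h2
  have h0 := H.inf_eq_bot hA h hL
  obtain ⟨g, hg, hs⟩ := h.exists_sing hL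
  have hN : ∀ {s : G}, s ∈ normalizer (A : Set G) → s ∈ normalizer (L : Set G) →
      s ∈ normalizer ((A ⊓ L : Subgroup G) : Set G) := fun h1 h2 =>
    mem_normalizer_iff_cj.2 (by rw [cj_inf, mem_normalizer_iff_cj.1 h1, mem_normalizer_iff_cj.1 h2])
  have hgN := hN hs.norm (le_normalizer hg)
  let ρ := (A ⊓ L).normalizerMonoidHom
  have h3 : ∀ {s : G} (h1 : s ∈ normalizer (A : Set G)) (h2 : s ∈ normalizer (L : Set G)),
      ∃ k : ℕ, ρ ⟨s, hN h1 h2⟩ * ρ ⟨g, hgN⟩ * (ρ ⟨s, hN h1 h2⟩)⁻¹ = ρ ⟨g, hgN⟩ ^ k := by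
    intro s h1 h2
    have h4 := hs.cj s
    rw [cj_inf, Gold.cj_cbar, mem_normalizer_iff_cj.1 h1, mem_normalizer_iff_cj.1 h2] at h4
    obtain ⟨k, hk⟩ := h.sing_unique hL hg (conj_mem_of_mem_normalizer h2 hg) hs h4
    refine ⟨k, ?_⟩
    rw [← map_inv, ← map_mul, ← map_mul, ← map_pow]
    ext v
    have h5 := hN h1 h2
    exact mul_inv_eq_one.1 (mem_bot.1 (h0.le (mem_inf.2 ⟨mul_mem (conj_mem_of_mem_normalizer
      (mul_mem (mul_mem h5 hgN) (inv_mem h5)) v.2) (inv_mem (conj_mem_of_mem_normalizer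
        (pow_mem hgN k) v.2)), (hk v v.2.1).2⟩)))
  obtain ⟨i, hi⟩ := h3 (hSA hu) huL
  obtain ⟨j, hj⟩ := h3 (hSA hw) hwL
  have h4 := comm_of_pow (by rw [← map_mul]; exact (congrArg ρ (Subtype.ext hu2)).trans ρ.map_one)
    (by rw [← map_mul]; exact (congrArg ρ (Subtype.ext hw2)).trans ρ.map_one) hi hj
  have htN : t ∈ normalizer ((A ⊓ L : Subgroup G) : Set G) :=
    hN (e ▸ hSA (mul_mem (mul_mem hu hw) (mul_mem hu hw))) ht
  have h5 : ∀ (k : ℕ), ∀ v ∈ A ⊓ L,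
      t * (g ^ k * v * (g ^ k)⁻¹) * t⁻¹ = g ^ k * (t * v * t⁻¹) * (g ^ k)⁻¹ := fun k v hv => by
    have h6 : ρ ⟨t, htN⟩ * ρ ⟨g, hgN⟩ = ρ ⟨g, hgN⟩ * ρ ⟨t, htN⟩ := by
      subst e
      simp only [← map_mul] at h4 ⊢
      exact h4
    have h7 := (Commute.pow_right h6 k).eq
    rw [← map_pow] at h7
    exact congrArg Subtype.val (DFunLike.congr_fun h7 ⟨v, hv⟩)
  have h6 : A ⊓ L ≤ ⁅A, zpowers g⁆ := fun v hv => by
    have hle : ⁅A, zpowers g⁆ ≤ A ⊓ L := le_inf hs.commutator_le (h.commutator_le_of_mem hL hg)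
    have h7 : v ∈ A ⊓ cbar L ⊔ ⁅A, zpowers g⁆ := (hs.sup_eq h.two).ge hv.1
    obtain ⟨c, hc, y, hy, rfl⟩ := (Core.mem_sup_of_le_normalizer_left (fun y hy =>
      centralizer_le_normalizer _ (mem_centralizer_iff.2 fun c (hc : c ∈ A ⊓ cbar L) =>
        h.mul_comm hc.1 (hle hy).1))).1 h7
    rwa [mem_bot.1 (h0 ▸ ⟨(mul_mem_cancel_right (hle hy)).1 hv, hc.2⟩ : c ∈ ⊥), one_mul]
  have h7 : A ⊓ L ≠ ⊥ := fun h7 =>
    hL.2 ((h.le_sup hL).trans (sup_le (h7.le.trans bot_le) inf_le_right))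
  obtain ⟨z, hz1, hz2⟩ := (bot_or_exists_ne_one _).resolve_left
    (Core.inf_centralizer_ne_bot_of_isPGroup (h.two.to_le inf_le_left) (hS.to_le inf_le_left)
      (inf_le_right : S ⊓ normalizer ((A ⊓ L : Subgroup G) : Set G) ≤ _) h7)
  have hzu := mem_centralizer_iff.1 hz1.2 u ⟨hu, hN (hSA hu) huL⟩
  have hzw := mem_centralizer_iff.1 hz1.2 w ⟨hw, hN (hSA hw) hwL⟩
  have hzt := mem_centralizer_iff.1 hz1.2 t ⟨e ▸ mul_mem (mul_mem hu hw) (mul_mem hu hw), htN⟩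
  obtain ⟨a, ha, e2⟩ := hz z hz1.1.1 hzu.symm hzw.symm
  obtain ⟨v, hv, h8⟩ := h.exists_mul hL ha
  have h9 : t * v * t⁻¹ = v := by
    by_cases hv1 : v = 1
    · simp [hv1]
    obtain ⟨k, rfl⟩ := hs.trans z (h6 hz1.1) hz2 v (h6 hv) hv1
    rw [h5 k z hz1.1, hzt, mul_inv_cancel_right]
  have h10 := mul_mem (conj_mem_of_mem_normalizer (normalizer_le_normalizer_cbar L ht) h8)
    (inv_mem h8)
  refine hz2 (mem_bot.1 (h0 ▸ ⟨hz1.1, ?_⟩))
  have e3 : t * (v⁻¹ * a) * t⁻¹ * (v⁻¹ * a)⁻¹ = (t * v * t⁻¹)⁻¹ * (t * a * t⁻¹ * a⁻¹ * v) := by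
    group
  rwa [e3, h9, ← e2, h.mul_comm hz1.1.1 hv.1, inv_mul_cancel_left] at h10

theorem Hyp.normal (hG : Cor.GS.{u}) (H : Hyp G) (hO : pPrimeCore 2 G = ⊥) (hA : Big A) :
    A.Normal := by
  have h : Gold.Loc A ⊤ := ⟨H.sc hA, hA.comm, hG _⟩
  exact normalizer_eq_top_iff.1 (top_le_iff.1 (h.le_of_forall (by rw [opOf_top, hO]; exact bot_le)
    inf_le_right fun L hL => (H.not_ac hA h hL).elim))

theorem s3169 (hG : Cor.GS.{u}) (hO : oddCore G = ⊥) (S : Sylow 2 G) (P : Sylow 2 M24)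
    (hS : Nonempty ((S : Subgroup G) ≃* ((P : Subgroup M24) ⧸ center (P : Subgroup M24))))
    (A : Subgroup G) (hAc : IsMulCommutative A) (hA64 : Nat.card A = 64) : A.Normal := by
  obtain ⟨e⟩ := hS
  obtain ⟨f⟩ := (exists_equiv P).1
  refine Hyp.normal hG ⟨(S : Subgroup G).subtype.comp (f.trans e.symm).toMonoidHom,
    Subtype.val_injective.comp (f.trans e.symm).injective, ?_⟩ hO ⟨hAc, hA64⟩
  rw [MonoidHom.range_comp, MonoidHom.range_eq_top.2 (f.trans e.symm).surjective,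
    ← MonoidHom.range_eq_map, range_subtype]
  exact IsSylowIn.of_sylow_top S

theorem s3170 (hG : Cor.GS.{u}) (hO : oddCore G = ⊥) (T : Sylow 2 G) (P : Sylow 2 M24)
    (hT : Nonempty ((T : Subgroup G) ≃* (P : Subgroup M24)))
    (hZ : ∀ z ∈ (T : Subgroup G), (∀ t ∈ (T : Subgroup G), z * t = t * z) → z ∈ center G)
    (E : Subgroup G) (hE : E ≤ T) (hEn : (E.subgroupOf (T : Subgroup G)).Normal)
    (hEx : IsExtraspecial 2 E) (hE7 : Nat.card E = 2 ^ 7) : E.Normal := by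
  obtain ⟨e⟩ := hT
  obtain ⟨⟨f⟩, h2⟩ := exists_equiv P
  let Z := (center E).map E.subtype
  have hZE : Z ≤ E := map_subtype_le _
  have hZ2 : Nat.card Z = 2 := (card_map_of_injective E.subtype_injective).trans hEx.2
  have hZc : Z ≤ center G := by
    rintro _ ⟨z, hz, rfl⟩
    refine hZ _ (hE z.2) fun t ht => ?_
    have hn := (normal_subgroupOf_iff_le_normalizer hE).1 hEn ht
    by_cases h1 : z = 1
    · simp [h1]
    obtain ⟨y, -, hy⟩ := (Nat.card_eq_two_iff' (1 : center E)).1 hEx.2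
    have h3 : E.normalizerMonoidHom ⟨t, hn⟩ z ∈ center E :=
      (characteristic_iff_le_comap.1 inferInstance (E.normalizerMonoidHom ⟨t, hn⟩)) hz
    have h4 := (hy ⟨_, h3⟩ fun h => h1 ((MulEquiv.map_eq_one_iff _).1
      (congrArg Subtype.val h))).trans (hy ⟨z, hz⟩ fun h => h1 (congrArg Subtype.val h)).symm
    have h5 : t * z * t⁻¹ = z := congrArg (fun x : center E => ((x : E) : G)) h4
    exact (mul_inv_eq_iff_eq_mul.1 h5).symm
  have : Z.Normal := ⟨fun z hz g => by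
    rwa [mem_center_iff.1 (hZc hz) g, mul_inv_cancel_right]⟩
  let π := QuotientGroup.mk' Z
  have hπ : π.ker = Z := QuotientGroup.ker_mk' Z
  let ψ : (P : Subgroup M24) →* G ⧸ Z := π.comp ((T : Subgroup G).subtype.comp e.symm.toMonoidHom)
  have hk : ψ.ker = center (P : Subgroup M24) := by
    have h3 : ψ.ker = (Z.subgroupOf T).map e.toMonoidHom := by
      rw [map_equiv_eq_comap_symm']
      ext x
      exact QuotientGroup.eq_one_iff _
    refine eq_of_le_of_card_ge ?_ ?_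
    · rw [h3]
      rintro _ ⟨x, hx, rfl⟩
      refine mem_center_iff.2 fun y => ?_
      obtain ⟨y, rfl⟩ := e.surjective y
      exact (map_mul e y x).symm.trans ((congrArg e (Subtype.ext (mem_center_iff.1 (hZc hx) y))).trans
        (map_mul e x y))
    · rw [h3, card_map_of_injective e.injective, h2,
        Nat.card_congr (subgroupOfEquivOfLe (hZE.trans hE)).toEquiv, hZ2]
  let θ := QuotientGroup.lift (center (P : Subgroup M24)) ψ hk.ge
  have H : Hyp (G ⧸ Z) := by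
    refine ⟨θ.comp f.toMonoidHom, ((QuotientGroup.injective_lift_iff _ _ hk.ge).2 hk.symm).comp
      f.injective, ?_⟩
    have h3 : (θ.comp f.toMonoidHom).range = (T : Subgroup G).map π := by
      ext y
      refine ⟨?_, ?_⟩
      · rintro ⟨x, rfl⟩
        obtain ⟨x', hx⟩ := QuotientGroup.mk_surjective (f x)
        exact ⟨e.symm x', (e.symm x').2, (congrArg θ hx)⟩
      · rintro ⟨x, hx, rfl⟩
        exact ⟨f.symm (QuotientGroup.mk (e ⟨x, hx⟩)), by simp [θ, ψ]⟩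
    rw [h3]
    exact IsSylowIn.of_sylow_top (T.mapSurjective (QuotientGroup.mk'_surjective Z))
  have h3 : pPrimeCore 2 (G ⧸ Z) = ⊥ := by
    have h3 := W2.comap_pPrimeCore_le_of_central (p := 2) π (hπ.le.trans hZc)
    rw [show pPrimeCore 2 G = ⊥ from hO, bot_sup_eq] at h3
    rw [← map_comap_eq_self_of_surjective (QuotientGroup.mk'_surjective Z) (pPrimeCore 2 (G ⧸ Z))]
    exact (Subgroup.map_eq_bot_iff _).2 h3
  have h4 : Big (E.map π) := by
    refine ⟨⟨⟨?_⟩⟩, ?_⟩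
    · rintro ⟨_, a, ha, rfl⟩ ⟨_, b, hb, rfl⟩
      refine Subtype.ext (commutatorElement_eq_one_iff_mul_comm.1 ?_)
      rw [← map_commutatorElement]
      refine (QuotientGroup.eq_one_iff _).2 ⟨⁅(⟨a, ha⟩ : E), ⟨b, hb⟩⁆, ?_, rfl⟩
      exact hEx.1.2.2 ▸ commutator_mem_commutator (mem_top _) (mem_top _)
    · have h4 := card_mul_relIndex' hZE
      rw [← hπ, relIndex_ker, hπ, hZ2, hE7] at h4
      omega
  have h5 := (H.normal hG h3 h4).comap π
  rwa [comap_map_eq, hπ, sup_eq_left.2 hZE] at h5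

end CfsgLib.SylT.L5
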