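import Cfsg.Agent.Lib.SylT.U5a
import Cfsg.Agent.Lib.SylT.HSb
import Cfsg.Agent.Lib.SylT.L5c
import Cfsg.Agent.Lib.Held.X5

/-!
# The Sylow 2-subgroup of `L₅(2)` as a table group `2⁶ : (2 × D₈)`

The bits of the number of an element belong to the root elements
`x₁₅, x₁₄, x₂₅, x₁₃, x₂₄, x₂₃, x₃₅, x₁₂, x₄₅, x₃₄`.
-/

set_option autoImplicit false
set_option Elab.async false
set_option linter.unusedSectionVars false
set_option synthInstance.maxSize 100000
set_option maxRecDepth 100000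

namespace CfsgLib.SylT

open Subgroup Cfsg CfsgLib.Tech CfsgLib.PComp CfsgLib.W2 Function TG

/-- multiplication of `2 × D₈` -/
noncomputable def mK5 : ℕ → ℕ → ℕ := tab2 4 15 16 0x1032456798bacdef0123547689abdcfe32106745ba98efcd23017654ab89fedc54760123dcfe89ab45671032cdef98ba76542301fedcab8967453210efcdba9889abcdef0123456798badcfe10325476ab89efcd23016745ba98fedc32107654cdef89ab45670123dcfe98ba54761032efcdab8967452301fedcba9876543210

/-- the action on `2⁶` -/
noncomputable def act5 : ℕ → ℕ → ℕ := tab2 6 63 64 0x8218e29649a7aaba68beeb2ddf6d35cb3c70f7cfbfe39efa69b6587de71d4114d255459734c38f2092ca1c61050830409259e68608a3beeb2daaba68cf2c31db7d74e39efaf7cfbf6da61979f75c4114d255459730d3ce24828b1c6105083040a29aeab2dbee8a38609a7964f3dffee39efadb7d74cb3c706196da71d7de49345059755430d3ce2092ca187144083040b6cbafa68aab9a79648a3860e78ebbf7cfbfcb3c70db7d7465869b75c79f49345059755434c38f24828b1871440830408218a39649e6aeaa68bafb2dcb3c31df6d74e78efaf3dfbf7de75c69b61951559745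04d234c3ce20928b1871050c20409259a78608e2bafb2daeaa68db7d35cf2c70f3dfbfe78efa79f71d6da6585155974504d230d38f2482ca1871050c2040a29aabb2dbaf8e28609e6964e39ebbf3dfbfcf2c70df6d7471d79f61969b5d65544d245030d38f20928b1c61440c2040b6cbeea68aea9e69648e2860f7cffee78efadf6d74cf2c7075c7de6586da5d65544d245034c3ce2482ca1c61440c2040d35df6c70cb3f7cfbfe39efa8e28219a7964aaba68beeb2d65869b71d7de4114d255459738f34c2ca2091c6105083040c31cf2d74db7e39efaf7cfbf9e69258a3860beeb2daaba686196da75c79f4114d25545973ce30d28b2481c6105083040ffef3defae39db7d74cb3c70aeaa29beeb2d8a38609a79646da6197de71d4934505975543ce30d2ca209187144083040ebbe78fbff7ccb3c70db7d74bafb6caaba689a79648a386069b65879f75c49345059755438f34c28b248187144083040c31cb3d74df6e78efaf3dfbf8a38219e6964aeaa68bafb2d75c7de61969b5155974504d23ce34c28b2091871050c2040d35db7c70cf2f3dfbfe78efa9a79258e2860bafb2daeaa6871d79f6586da5155974504d238f30d2ca2481871050c2040ebbe39fbff3dcf2c70df6d74aaba29bafb2d8e28609e696479f71d69b6195d65544d245038f30d28b2091c61440c2040ffef7cefae78df6d74cf2c70beeb6caeaa689e69648e28607de75c6da6585d65544d24503ce34c2ca2481c61440c2040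

/-- inversion -/
noncomputable def inv5 (p : ℕ) : ℕ := MOrb.frc (tab1 4 15 0xefcdba9876543210 (Nat.div p 64)) fun k =>
  Nat.add (act5 k (Nat.mod p 64)) (Nat.mul 64 k)

theorem okL : TOk 1024 (sdm 64 Nat.xor mK5 act5) inv5 :=
  (L5.okA.sd (SOk.of_light (n := 16) (gs := [2, 4, 8]) (D := 4) (by decide +kernel))
    (by decide +kernel)).tok (by decide +kernel)

/-- the Sylow 2-subgroup of `L₅(2)` -/
abbrev TL : Type := TG okL

/-- A Sylow 2-subgroup lifts over a normal subgroup of odd order. -/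
theorem exists_lift {G K T : Type*} [Group G] [Finite G] [Group K] [Group T] {π : G →* K}
    (hs : Surjective π) (ho : Odd (Nat.card π.ker)) {ψ : T →* K}
    (hS : IsSylowIn 2 ψ.range ⊤) :
    ∃ φ : T →* G, π.comp φ = ψ ∧ IsSylowIn 2 φ.range ⊤ := by
  have : Finite K := Finite.of_surjective π hs
  obtain ⟨S⟩ : Nonempty (Sylow 2 G) := inferInstance
  obtain ⟨k, -, hk⟩ := (CFun.sylIn_map_top (IsSylowIn.of_sylow_top S) hs).exists_cj_le hS.pgroup le_top
  obtain ⟨g, rfl⟩ := hs k
  have h0 := (IsSylowIn.of_sylow_top S).cj_of_mem (mem_top g⁻¹)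
  set P := cj g⁻¹ (S : Subgroup G)
  have h1 : ψ.range ≤ P.map π := fun x hx => by
    obtain ⟨s, hs, e⟩ := hk (conj_mem_cj.2 hx)
    exact ⟨_, conj_mem_cj.2 hs, by simp [e, mul_assoc]⟩
  have h2 : Injective (π.subgroupMap P) := (injective_iff_map_eq_one _).2 fun x hx => by
    obtain ⟨n, hn⟩ := h0.pgroup x
    have h3 := orderOf_dvd_natCard π.ker (x := x) (congrArg Subtype.val hx)
    rw [orderOf_coe] at h3
    exact orderOf_eq_one_iff.1 (Nat.eq_one_of_dvd_coprimes
      ((Nat.coprime_two_left.2 ho).pow_left n) (orderOf_dvd_of_pow_eq_one hn) h3)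
  let e := MulEquiv.ofBijective _ ⟨h2, π.subgroupMap_surjective P⟩
  let φ : T →* G := P.subtype.comp (e.symm.toMonoidHom.comp (ψ.codRestrict _ fun x => h1 ⟨x, rfl⟩))
  have h3 : ∀ x, π (φ x) = ψ x := fun x => congrArg Subtype.val (e.apply_symm_apply _)
  refine ⟨φ, MonoidHom.ext h3, ?_⟩
  have h4 := hS.eq_of_le (h0.pgroup.map π) h1 le_top
  rwa [show φ.range = P from le_antisymm (grange_le fun x => (e.symm _).2) fun x hx => by
    obtain ⟨y, hy⟩ := h4.le (mem_map_of_mem π hx)
    exact ⟨y, congrArg Subtype.val (h2 (a₁ := ⟨_, (e.symm _).2⟩) (a₂ := ⟨x, hx⟩)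
      (Subtype.ext ((h3 y).trans hy)))⟩]

noncomputable section

namespace TL

def z : TL := o 1
def x14 : TL := o 2
def x25 : TL := o 4
def x13 : TL := o 8
def x24 : TL := o 16
def x23 : TL := o 32
def x35 : TL := o 64
def x12 : TL := o 128
def x45 : TL := o 256
def x34 : TL := o 512
/-- `x₁₄ x₂₅` -/
def t0 : TL := o 6

/-- the bits of the mask `m` vanish -/
abbrev In (m : ℕ) (x : TL) : Prop := Nat.land x.v m = 0
/-- `2^(1+6)` -/
abbrev InQ (x : TL) : Prop := In 560 x
/-- the first elementary abelian subgroup of order 64 -/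
abbrev InA (x : TL) : Prop := In 960 x
/-- the second elementary abelian subgroup of order 64 -/
abbrev InB (x : TL) : Prop := In 424 x
abbrev Md (x r : TL) : Prop := r = x ∨ r = x * z

theorem lstQ : Lst InQ (fun k => k % 16 + 64 * (k / 16)) 128 := by decide +kernel
theorem lstA : Lst InA id 64 := by decide +kernel
theorem lstB : Lst InB (fun k => k % 8 + 16 * (k / 8 % 2) + 64 * (k / 16 % 2) + 512 * (k / 32)) 64 := by
  decide +kernel
theorem lstI : Lst (fun x : TL => x * x = 1) (tab1 10 1023 0xb7edeb76dcb0ec2b06c0a6e9aa6698a0e82a068095e569565494e529465091e469164490e429064085e168561484e128461081e068160480e0280600735cc72dca71dc6705c063d8e6258861d86605805fd7e5ed7a5d5745c57053d4e52d4a51544505404b52c4a52849524485204350c42508415044050033cce334cc30cc2304c022c8a2248820c822048015c561545414c521445011c461144410c42104400fc3e0f43c0ec3a0e4380dc360d4340cc320c4300bc2e0b42c0ac2a0a42809c260942408c220842007c1e0741c06c1a0641805c160541404c120441003c0e0340c02c0a0240801c060140400c0200400)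 192 := by decide +kernel

/-! short loops -/
section
variable (P : TL → Prop) [DecidablePred P]
instance : Decidable (∀ x, InQ x → P x) := lstQ.all P
instance : Decidable (∃ x, InQ x ∧ P x) := lstQ.any P
instance : Decidable (∀ x, InA x → P x) := lstA.all P
instance : Decidable (∃ x, InA x ∧ P x) := lstA.any P
instance : Decidable (∀ x, InB x → P x) := lstB.all P
instance : Decidable (∃ x, InB x ∧ P x) := lstB.any P
instance : Decidable (∀ x : TL, x * x = 1 → P x) := lstI.all P
instance : Decidable (∃ x : TL, x * x = 1 ∧ P x) := lstI.any P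
end

theorem gen4 : genB [x12, x23, x34, x45] 6 = true := by decide +kernel

/-- the subgroup of a mask -/
def sm (m : ℕ) (gs : List TL) (h : (∀ x, In m x ↔ bit (sp gs 6) x.v = true) ∧
    ∀ g ∈ gs, ∀ x, In m x → In m (x * g)) : Subgroup TL := Held.subOf
  { carrier := {x | In m x}
    one_mem' := Nat.zero_and m
    mul_mem' := fun {a _} ha hb => sp_ind (P := fun b => In m (a * b)) (by rwa [mul_one])
      (fun _ hb g hg => mul_assoc a _ g ▸ h.2 g hg _ hb) ((h.1 _).1 hb) }

def Q : Subgroup TL := sm 560 [x12, x13, x14, x25, x35, x45] (by decide +kernel)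
def A : Subgroup TL := sm 960 [z, x14, x25, x13, x24, x23] (by decide +kernel)
def B : Subgroup TL := sm 424 [z, x14, x25, x24, x35, x34] (by decide +kernel)

theorem card_T : Nat.card TL = 1024 := card_eq
theorem card_Q : Nat.card Q = 128 := (card_subgroup _ InQ fun _ => .rfl).trans (by decide +kernel)
theorem card_A : Nat.card A = 64 := (card_subgroup _ InA fun _ => .rfl).trans (by decide +kernel)
theorem card_B : Nat.card B = 64 := (card_subgroup _ InB fun _ => .rfl).trans (by decide +kernel)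
theorem zc : ∀ x, x * z = z * x := by decide +kernel
theorem zz : z * z = 1 := by decide +kernel
theorem z_ne : z ≠ 1 := by decide +kernel
theorem center_eq : ∀ x : TL, x * x12 = x12 * x → x * x23 = x23 * x → x * x34 = x34 * x →
    x * x45 = x45 * x → x = 1 ∨ x = z := by decide +kernel
theorem A_sq : ∀ x, InA x → x * x = 1 := by decide +kernel
theorem B_sq : ∀ x, InB x → x * x = 1 := by decide +kernel
theorem A_comm : ∀ x, InA x → ∀ r, InA r → x * r = r * x := by decide +kernel
theorem B_comm : ∀ x, InB x → ∀ r, InB r → x * r = r * x := by decide +kernel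

theorem conj_of_gen {X : Subgroup TL}
    (h : ∀ g ∈ [x12, x23, x34, x45], ∀ x, x ∈ X → g * x * g⁻¹ ∈ X) : ∀ c, ∀ x ∈ X, c * x * c⁻¹ ∈ X :=
  ind_of_genB gen4 (by simp) fun a ha g hg x hx => by
    simpa only [mul_assoc, mul_inv_rev] using ha _ (h g hg x hx)

theorem Q_conj : ∀ c, ∀ x ∈ Q, c * x * c⁻¹ ∈ Q := conj_of_gen
  (by decide +kernel : ∀ g ∈ [x12, x23, x34, x45], ∀ x, InQ x → InQ (g * x * g⁻¹))
theorem A_conj : ∀ c, ∀ x ∈ A, c * x * c⁻¹ ∈ A := conj_of_gen
  (by decide +kernel : ∀ g ∈ [x12, x23, x34, x45], ∀ x, InA x → InA (g * x * g⁻¹))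
theorem B_conj : ∀ c, ∀ x ∈ B, c * x * c⁻¹ ∈ B := conj_of_gen
  (by decide +kernel : ∀ g ∈ [x12, x23, x34, x45], ∀ x, InB x → InB (g * x * g⁻¹))

/-- an involution commuting with 64 elements of order at most two lies in `A` or `B` -/
theorem big : ∀ x : TL, x * x = 1 → 64 ≤ cnt (fun r : TL => r * r = 1 ∧ r * x = x * r) →
    InA x ∨ InB x := by decide +kernel

theorem two : IsPGroup 2 TL := IsPGroup.of_card (n := 10) card_T

theorem inj_of {G : Type*} [Group G] {φ : TL →* G} (h : φ z ≠ 1) : Injective φ := by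
  rw [← MonoidHom.ker_eq_bot_iff]
  by_contra hn
  have := two.isNilpotent
  obtain ⟨c, h1, h2, h3⟩ := PGroup.exists_mem_center_of_normal φ.ker hn
  have h4 := fun s => (mem_center_iff.1 h2 s).symm
  rcases center_eq c (h4 _) (h4 _) (h4 _) (h4 _) with e | e
  exacts [h3 e, h (e ▸ h1)]

/-! ### the codes of `Lib/Held` -/

open CfsgLib.Held

/-- the code of an element -/
def code (x : TL) : ℕ := MOrb.frc x.v fun v => mul
  (Nat.xor one (Nat.lor (Nat.lor (Nat.shiftLeft (Nat.land v 1) 1) (Nat.shiftLeft (Nat.land v 2) 3))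
    (Nat.lor (Nat.lor (Nat.shiftLeft (Nat.land v 16) 10) (Nat.shiftLeft (Nat.land v 32) 8))
      (Nat.lor (Nat.land v 8) (Nat.shiftLeft (Nat.land v 4) 9)))))
  (Nat.xor one (Nat.lor (Nat.lor (Nat.shiftLeft (Nat.land v 576) 10) (Nat.shiftRight (Nat.land v 128) 5))
    (Nat.shiftLeft (Nat.land v 256) 13)))

/-- the element of a code -/
def uc (n : ℕ) : TL := MOrb.frc n fun n =>
  o (n / 65536 % 2 * 64 + n / 2097152 % 2 * 256 + n / 524288 % 2 * 512) *
    o (n / 2 % 2 + n / 16 % 2 * 2 + n / 2048 % 2 * 4 + n / 8 % 2 * 8 + n / 16384 % 2 * 16 +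
      n / 8192 % 2 * 32) * o (n / 4 % 2 * 128)

theorem code_T : ∀ x, inP mT (code x) = true ∧ uc (code x) = x := by decide +kernel

theorem code_uc {n : ℕ} (h : inP mT n = true) : code (uc n) = n :=
  (beq_iff _ _).1 (bits_T.all (f := fun n => Nat.beq (code (uc n)) n) (by decide +kernel) h)

theorem V_code (x : TL) : V (code x) := V_of_T (code_T x).1

theorem code_mul (x y : TL) : code (x * y) = mul (code x) (code y) :=
  ind_of_genB gen4 (P := fun y => ∀ x, code (x * y) = mul (code x) (code y))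
    (fun x => by rw [mul_one, show code 1 = one by decide +kernel, mul_one' (V_code x).1])
    (fun y ih g hg x => by
      have h : ∀ g ∈ [x12, x23, x34, x45], ∀ a, code (a * g) = mul (code a) (code g) := by
        decide +kernel
      rw [← mul_assoc, h g hg, ih, h g hg, mul_assoc']) y x

theorem uc_mul {a b : ℕ} (ha : inP mT a = true) (hb : inP mT b = true) :
    uc (mul a b) = uc a * uc b := by
  rw [← (code_T (uc a * uc b)).2, code_mul, code_uc ha, code_uc hb]

variable {G : Type*} [Group G]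

/-- `φ` is an isomorphism onto a Sylow 2-subgroup -/
structure SL (φ : TL →* G) : Prop where
  inj : Injective φ
  syl : IsSylowIn 2 φ.range ⊤

/-- the Sylow subgroup of the centraliser -/
def ofEmb (E : Emb G) : TL →* G := MonoidHom.mk' (fun x => E.ι (code x)) fun x y => by
  rw [code_mul, E.map_mul (V_code x) (V_code y)]

theorem ofEmb_apply (E : Emb G) (x : TL) : ofEmb E x = E.ι (code x) := rfl

theorem ofEmb_uc (E : Emb G) {n : ℕ} (h : inP mT n = true) : ofEmb E (uc n) = E.ι n := by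
  rw [ofEmb_apply, code_uc h]

theorem ofEmb_z (E : Emb G) : ofEmb E z = E.z := congrArg E.ι (by decide +kernel)

theorem range_ofEmb [Finite G] (E : Emb G) : (ofEmb E).range = E.P mT :=
  le_antisymm (grange_le fun x => ⟨_, V_code x, (code_T x).1, rfl⟩)
    (by rintro _ ⟨n, -, h, rfl⟩; exact ⟨_, ofEmb_uc E h⟩)

theorem SL_ofEmb [Finite G] (E : Emb G) : SL (ofEmb E) :=
  ⟨inj_of (ofEmb_z E ▸ E.z_ne), range_ofEmb E ▸ IsSylowIn.of_sylow_top E.T⟩

theorem SL.equiv [Finite G] {φ : TL →* G} (h : SL φ) (P : Sylow 2 G) :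
    Nonempty (TL ≃* (P : Subgroup G)) :=
  ⟨(MonoidHom.ofInjective h.inj).trans (h.syl.toSylowTop.equiv P)⟩

theorem SL.of_equiv [Finite G] (S : Sylow 2 G) (e : TL ≃* (S : Subgroup G)) : ∃ φ : TL →* G, SL φ := by
  have h4 : ((S : Subgroup G).subtype.comp e.toMonoidHom).range = S := by
    rw [MonoidHom.range_comp, MonoidHom.range_eq_top.2 e.surjective, ← MonoidHom.range_eq_map,
      range_subtype]
  exact ⟨_, Subtype.val_injective.comp e.injective, by rw [h4]; exact IsSylowIn.of_sylow_top S⟩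

theorem equiv_M24 (P : Sylow 2 M24) : Nonempty (TL ≃* (P : Subgroup M24)) := by
  obtain ⟨e, -⟩ := Mathieu.cent2A_equiv s0 rfl
  obtain ⟨E, -⟩ := exists_emb s0 rfl Mathieu.orderOf_z2A e
  exact (SL_ofEmb E).equiv P

theorem equiv_SL5 (P : Sylow 2 SL5) : Nonempty (TL ≃* (P : Subgroup SL5)) := by
  obtain ⟨E, -⟩ := exists_emb s0 rfl orderOf_s0 (MulEquiv.refl _)
  exact (SL_ofEmb E).equiv P

/-- the graph automorphism -/
def gm (x : TL) : TL := uc (tr (code x⁻¹))

/-- the graph automorphism -/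
def γ : TL →* TL := homOf gen4 gm (by decide +kernel) (by decide +kernel)

theorem γ_apply (x : TL) : γ x = gm x := rfl

theorem gm_gm : ∀ x, gm (gm x) = x := by decide +kernel

theorem γ_z : γ z = z := (by decide +kernel : gm z = z)

theorem SL.tw {φ : TL →* G} (h : SL φ) : SL (φ.comp γ) :=
  ⟨h.inj.comp (LeftInverse.injective gm_gm), by
    rw [MonoidHom.range_comp, γ.range_eq_top.2 fun x => ⟨_, gm_gm x⟩,
      ← MonoidHom.range_eq_map]; exact h.syl⟩

theorem cm_tw {φ : TL →* G} {g : G} {x y : TL} : Cm (φ.comp γ) g x y ↔ Cm φ g (gm x) (gm y) := .rfl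

variable {φ : TL →* G} {g k : G} {x y : TL}

theorem zz' : φ z * φ z = 1 := by rw [← map_mul, zz, map_one]
theorem mem_H (x : TL) : φ x ∈ Cx (φ z) := map_mem_Cx (zc x)
theorem cm_z (x : TL) : Cm φ (φ x) z z := cm_fix.2 (mem_H x)

/-- restriction to a subgroup -/
def res (φ : TL →* G) {M : Subgroup G} (h : ∀ x, φ x ∈ M) : TL →* M := φ.codRestrict _ h

theorem cm_res {M : Subgroup G} {h : ∀ x, φ x ∈ M} {g : M} : Cm (res φ h) g x y ↔ Cm φ g x y :=
  Subtype.ext_iff

variable [Finite G]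

namespace SL

variable (h : SL φ)
include h

theorem ord (h1 : x * x = 1) (h2 : x ≠ 1) : orderOf (φ x) = 2 := ord_map h.inj h1 h2

theorem ncomm : ¬ IsMulCommutative G := fun hc =>
  absurd (h.inj (by simpa using hc.is_comm.comm (φ x12) (φ x23) : φ (x12 * x23) = φ (x23 * x12)))
    (by decide +kernel)

theorem res_top {M : Subgroup G} (hM : ∀ x, φ x ∈ M) : SL (res φ hM) := by
  refine ⟨fun _ _ e => h.inj (congrArg Subtype.val e), ?_⟩
  have h1 := h.syl.of_le (grange_le hM) le_top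
  have := IsSylowIn.of_sylow_top h1.toSylow
  rwa [h1.coe_toSylow, show φ.range.subgroupOf _ = (res φ hM).range by
    ext x; exact ⟨fun ⟨p, e⟩ => ⟨p, Subtype.ext e⟩, fun ⟨p, e⟩ => ⟨p, congrArg Subtype.val e⟩⟩] at this

theorem map {G' : Type*} [Group G'] {f : G →* G'} (hf : Surjective f)
    (ho : Odd (Nat.card f.ker)) : SL (f.comp φ) := by
  refine ⟨inj_of fun e => ne_one_of_ord (h.ord zz z_ne)
    (LargeExtra.eq_one_of_odd_of_mul_self ho e zz'), ?_⟩
  rw [MonoidHom.range_comp, ← map_top_of_surjective f hf]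
  exact CFun.sylIn_map h.syl f

theorem extz (e : Cm φ k x z) : ∃ g, Cm φ g x z ∧ ∀ r, r * x = x * r → ∃ t, Cm φ g r t :=
  ext_T h.syl zc e.isConj

theorem cnt_le {P P' : TL → Prop} [DecidablePred P] [DecidablePred P']
    (hP : ∀ r, P r → ∃ t, Cm φ g r t ∧ P' t) : cnt P ≤ cnt P' := by
  rw [← card_subtype, ← card_subtype]; exact card_le_of_cm h.inj hP

/-- the image of an element of an elementary abelian subgroup of order 64 -/
theorem img_big {P : TL → Prop} [DecidablePred P] (h1 : 64 ≤ cnt P)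
    (h2 : ∀ r, P r → r * r = 1 ∧ r * x = x * r ∧ ∃ t, Cm φ g r t) (hx : x * x = 1) (e : Cm φ g x y) :
    InA y ∨ InB y :=
  big y ((e.sq h.inj).2 hx) (h1.trans (h.cnt_le fun r hr =>
    let ⟨a, b, t, c⟩ := h2 r hr; ⟨t, c, (c.sq h.inj).2 a, (c.comm h.inj e).2 b⟩))

/-- the elementary abelian subgroups of order 64 -/
theorem e64 {X : Subgroup TL} (hX : X = A ∨ X = B) (hg : ∀ r ∈ X, ∃ t, Cm φ g r t) :
    cj g (X.map φ) = A.map φ ∨ cj g (X.map φ) = B.map φ := by
  have h1 : ∀ r ∈ X, ∀ t, Cm φ g r t → t ∈ A ∨ t ∈ B := fun r hr t e => by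
    rcases hX with rfl | rfl
    · exact h.img_big (P := InA) (by decide +kernel)
        (fun s hs => ⟨A_sq s hs, A_comm s hs r hr, hg s hs⟩) (A_sq r hr) e
    · exact h.img_big (P := InB) (by decide +kernel)
        (fun s hs => ⟨B_sq s hs, B_comm s hs r hr, hg s hs⟩) (B_sq r hr) e
  have h2 : ∀ {Y : Subgroup TL}, Nat.card Y = 64 → (∀ r ∈ X, ∀ t, Cm φ g r t → t ∈ Y) →
      cj g (X.map φ) = Y.map φ := fun hY h2 => eq_of_le_of_card_ge (cj_le_iff.2 (by
      rintro _ ⟨r, hr, rfl⟩
      obtain ⟨t, e⟩ := hg r hr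
      exact ⟨t, h2 r hr t e, e⟩)) (by
    rw [card_cj, card_map_of_injective h.inj, card_map_of_injective h.inj, hY]
    rcases hX with rfl | rfl
    exacts [card_A.ge, card_B.ge])
  by_contra! hn
  obtain ⟨r, hr, t, e, h3⟩ : ∃ r ∈ X, ∃ t, Cm φ g r t ∧ t ∉ A := by
    by_contra! h3; exact hn.1 (h2 card_A h3)
  obtain ⟨r', hr', t', e', h4⟩ : ∃ r ∈ X, ∃ t, Cm φ g r t ∧ t ∉ B := by
    by_contra! h3; exact hn.2 (h2 card_B h3)
  rcases h1 _ (mul_mem hr hr') _ (e.mul e') with h5 | h5
  · exact h3 ((mul_mem_cancel_right ((h1 _ hr' _ e').resolve_right h4)).1 h5)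
  · exact h4 ((mul_mem_cancel_left ((h1 _ hr _ e).resolve_left h3)).1 h5)

end SL

end TL

end

end CfsgLib.SylT
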