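import Cfsg.Agent.Lib.SylT.J2b
import Cfsg.Agent.Lib.W2.HSMain

/-!
# The Sylow 2-subgroup of `HS` as a table group `4³ : D₈` (plans/SYLTYPE.md, HS)

The element number `i + 4 j + 16 k + 64 e + 128 f + 256 g` is `c^i a^j b^k p^e q^f s^g`.
-/

set_option autoImplicit false
set_option Elab.async false
set_option linter.unusedSectionVars false
set_option synthInstance.maxSize 100000

namespace CfsgLib.SylT

open Subgroup Cfsg CfsgLib.Tech CfsgLib.PComp CfsgLib.W2 Function TG

/-- addition in `4³` -/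
noncomputable def mB (x y : ℕ) : ℕ :=
  Nat.add (Nat.land (Nat.add (Nat.land x 51) (Nat.land y 51)) 51)
    (Nat.land (Nat.add (Nat.land x 12) (Nat.land y 12)) 12)

/-- multiplication of `D₈` -/
noncomputable def mD8 : ℕ → ℕ → ℕ := tab2 3 7 8 0x213b3705a97e681fa54c8dec977053b3e21ade54c1fac688

/-- the action of `D₈` on `4³` -/
noncomputable def actH : ℕ → ℕ → ℕ := tab2 6 63 64 0x69b619d76df4411493ffcf7e1051878e086238f30da6aae8cb3c3175e7dce39ebb5d4556b2dbaf2c824a9a79250420c0cf0c72515597e7aef879f71d30d38f8628e0187105ae8a6a65a6d8fbff3d4d0452d35db79a79252c824ab2dbaf0420c0e39ebbf3dfbfc31cb3d35db7becb6e8e08629e4966ae8a6a49341159751569b61979f71d1461c424a2c834e3cc0420c04d04527dc75e6d865a5d45569669e48628e0b6ebeca6aae8ef8e7adf4d76cf0c72ffcf7e34e3cc24a2c81461c40420c05d6554cb1c3375c7dee3beb930f38daeaa681851078608e2d74df6413491ffef7c69961bbadb2f2482ca9279a50c2040d37db56586dafbdf3f4d2450107185a68aea38d30f8e2860517595e78efa79d71fcf2c709279a52482cabadb2f0c204079d71f49141359551769961b9649e6a68aeab6cbee8608e2f3ffbdc33cb1d37db5e3beb91c61442ca2483ce34c0c2040ffef7cefae78df6d74cf2c70beeb6caeaa689e69648e28607de75c6da6585d65544d24503ce34c2ca2481c61440c2040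

theorem okH : TOk 512 (sdm 64 mB mD8 actH) (tab1 9 511 0xc8e432792de6ff7dbdcde6b3398db6d769b7c261f0d85d1e8b43a0c7637198fd4ea357aaddeeb73b8cb6572997d8ec367b2ce67f3d9dd76b759afc4e23178ad269f4da5c1e0b0380fd7e7f1fbeff7bbbdcf87cfe5f1eaf53afd6e673f9dcdf0f83c7e2e371789c7f5fabd3e8e9747a1d3fbfdbebf4ec76fb5d9feff3fffef279fcde5e4f2397caf77b7d9efe1f0b83c0ac56eb559aa55ead55a854ea551ae57ebd5db2d92cf66b0d82c762b6db2df6eb4da2d76ab95c6e173bf5f6f97fbd5e6f17bbb5d6e977a7d3a9b4ca5d2a9348a3d1a8b44a1d0a834098cc267329acd26f369cce2773a9ecf27f3e97cba5b2c91c8a432093c9a4b2495caa53288cc62371a8ec723f1e88c4227128ac522f1683c1a0b0485c2a130887c3a1b0c81c0a03007ebf9fefc6934da0d17bbd1eaf66c365b4db623158cc774ba9d6e86733d98cd71b81c2e26fb71bade783c5e4f36ab59aed47d3edf0f97339dc8e565b2192ca763b5dcef60b0986c04e2753c9f5dae172ba4b25d289558ac966b0462351c8f55aa152aa4321d088550a8946a05e2f57cbf4da61329a5b2dd68b548a492690562b55caf45a21128a5329d48a540a0906803b1dce875391cce0713f1fcf87d3d1ecf079379b0da6e359a0d26a33990ca6631980c2622a154ac5728144a4532e174bc5f2c164b45b269389e4c249289648229188e442090886400a8582e140c86836180e8783e1c088482610128984e24148a85628168b85e2c1088846201a8d86e341c8e876381e8f87e3c188c86630028180e04048281608068381e0c008080600)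 :=
  ((SOk.of_light (n := 64) (gs := [1, 4, 16]) (D := 4) (by decide +kernel)).sd
    (SOk.of_light (n := 8) (gs := [2, 4]) (D := 4) (by decide +kernel)) (by decide +kernel)).tok
      (by decide +kernel)

/-- the Sylow 2-subgroup of `HS` -/
abbrev TH : Type := TG okH

noncomputable section

namespace TH

def c : TH := o 1
def z : TH := o 2
def a : TH := o 4
def vv : TH := o 8
def b : TH := o 16
def w : TH := o 32
def p : TH := o 64
def u : TH := o 68
def q : TH := o 128
def s : TH := o 256

/-- `⟨c⟩` -/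
abbrev InC (x : TH) : Prop := x.v < 4
/-- `⟨z, v⟩` -/
abbrev InW (x : TH) : Prop := Nat.land x.v 501 = 0
/-- `⟨z, v, w⟩` -/
abbrev InV (x : TH) : Prop := Nat.land x.v 469 = 0
/-- `⟨z, v, p⟩` -/
abbrev InE (x : TH) : Prop := Nat.land x.v 437 = 0
/-- `⟨c, v, w⟩` -/
abbrev InL (x : TH) : Prop := Nat.land x.v 468 = 0
/-- `⟨c, a, b⟩` -/
abbrev InB (x : TH) : Prop := x.v < 64
/-- `⟨c, v, w, p, q⟩` -/
abbrev InR (x : TH) : Prop := Nat.land x.v 276 = 0
/-- `⟨c, v, w, a p, b q⟩` -/
abbrev InF (x : TH) : Prop := Nat.land (Nat.xor x.v (Nat.xor (Nat.land x.v 64 / 16) (Nat.land x.v 128 / 8))) 276 = 0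
/-- `⟨c, a, b, p, q⟩ = C(c)` -/
abbrev InU (x : TH) : Prop := x.v < 256
abbrev Md (x y : TH) : Prop := y = x ∨ y = x * z

def C : Subgroup TH := sub InC (by decide +kernel)
def W : Subgroup TH := sub InW (by decide +kernel)
def V : Subgroup TH := sub InV (by decide +kernel)
def E : Subgroup TH := sub InE (by decide +kernel)
def L : Subgroup TH := sub InL (by decide +kernel)
def B : Subgroup TH := sub InB (by decide +kernel)
def R : Subgroup TH := sub InR (by decide +kernel)
def F : Subgroup TH := sub InF (by decide +kernel)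

theorem inU_iff : ∀ x : TH, InU x ↔ x * c = c * x := by decide +kernel

/-- `C(c)` -/
abbrev U : Subgroup TH := Cx c

theorem mem_U {x : TH} : x ∈ U ↔ InU x := mem_Cx.trans (inU_iff x).symm

/-- the second point of the line through `p` -/
def qh (e : Bool) : TH := o (cond e 136 128)
/-- points on the five lines -/
def rr (i : Fin 5) : TH := o (tab1 7 127 0x6ac522008 i)
/-- the line through a point of `R` outside `C` -/
def ln (e : Bool) (x : TH) : Fin 5 := Fin.ofNat 5 (tab1 3 7 (cond e
  0x4920006db0000000000000002490009240000000000000009240004920000000000000002490006db0000000000000009240006db000000000000000492000249000000000000000000000000000000000000000000000000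
  0x6db0004920000000000000009240002490000000000000004920009240000000000000006db0002490000000000000009240006db000000000000000492000249000000000000000000000000000000000000000000000000) x.v)

theorem card_T : Nat.card TH = 512 := card_eq
theorem card_C : Nat.card C = 4 := (card_sub _ _).trans (by decide +kernel)
theorem card_V : Nat.card V = 8 := (card_sub _ _).trans (by decide +kernel)
theorem card_E : Nat.card E = 8 := (card_sub _ _).trans (by decide +kernel)
theorem card_L : Nat.card L = 16 := (card_sub _ _).trans (by decide +kernel)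
theorem card_R : Nat.card R = 64 := (card_sub _ _).trans (by decide +kernel)
theorem card_F : Nat.card F = 64 := (card_sub _ _).trans (by decide +kernel)
theorem card_U : Nat.card U = 256 :=
  (card_subgroup _ InU fun _ => mem_U).trans (by decide +kernel)
theorem zc : ∀ x, x * z = z * x := by decide +kernel
theorem zz : z * z = 1 := by decide +kernel
theorem z_ne : z ≠ 1 := by decide +kernel
theorem cc : c * c = z := by decide +kernel
theorem center_eq : ∀ x : TH, x * b = b * x → x * q = q * x → x * s = s * x → x = 1 ∨ x = z := by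
  decide +kernel
theorem gen3 : genB [b, q, s] 6 = true := by decide +kernel
theorem inB_iff : ∀ x : TH, InB x ↔ x * vv = vv * x ∧ x * w = w * x := by decide +kernel
theorem B_comm : ∀ x, InB x → ∀ y, InB y → x * y = y * x := by decide +kernel
theorem V_B : ∀ x, InV x → InB x := by decide +kernel
theorem V_sq : ∀ x, InV x → x * x = 1 := by decide +kernel
theorem V_root : ∀ x, InV x → ∃ y, InB y ∧ y * y = x := by decide +kernel
theorem sq_U : ∀ x : TH, InU (x * x) := by decide +kernel
theorem V_conj : ∀ t x, InV x → InV (t * x * t⁻¹) := by decide +kernel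
theorem mul_z : ∀ x : TH, x * x = 1 → x ≠ 1 → x ≠ z → ∃ t, t * x * t⁻¹ = x * z := by decide +kernel
theorem cnt16 : ∀ y : TH, y * y * (y * y) = 1 → ¬ InV (y * y) →
    cnt (fun r => r * y = y * r) ≤ 16 := by decide +kernel

instance : Fact (Nat.Prime 2) := Nat.fact_prime_two

theorem two : IsPGroup 2 TH := IsPGroup.of_card (n := 9) card_T

theorem inj_of {G : Type*} [Group G] {φ : TH →* G} (h : φ z ≠ 1) : Injective φ := by
  rw [← MonoidHom.ker_eq_bot_iff]
  by_contra hn
  have := two.isNilpotent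
  obtain ⟨c, h1, h2, h3⟩ := PGroup.exists_mem_center_of_normal φ.ker hn
  have h4 := fun s => (mem_center_iff.1 h2 s).symm
  rcases center_eq c (h4 _) (h4 _) (h4 _) with e | e
  exacts [h3 e, h (e ▸ h1)]

/-- the polycyclic generators `s, q, p, b, a, c, w, v, z` -/
def pg (i : ℕ) : TH := o (tab1 9 511 0x2040800204081010100 i)
/-- the power relations -/
def psq (i : ℕ) : List ℕ := [[], [], [], [6], [7], [8]].getD i []
/-- the conjugate relations -/
def pcj (i j : ℕ) : List ℕ := ([[[], [1, 2], [2], [3, 4, 6, 7, 8], [4], [5, 8], [6, 7]],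
  [[], [], [2], [3, 6], [4, 5, 6, 7, 8], [5], [6], [7, 8]],
  [[], [], [], [3, 5, 6, 7], [4, 7], [5], [6, 8]]].getD i []).getD j [j]
/-- the generators in the permutation model -/
def pw (i : ℕ) : List ℕ := [[12], [8], [6], [4], [2], [0], [18], [2, 2], [0, 0]].getD i []

open scoped Pointwise in
theorem exists_HS : ∃ φ : TH →* Cfsg.Spor.HS, Injective φ ∧ IsSylowIn 2 φ.range ⊤ := by
  have e : ∀ l : List ℕ, ew (fun i => CosetEnum.ev HS.gX (pw i)) l =
      CosetEnum.ev HS.gX (l.flatMap pw) := fun l => by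
    induction l with
    | nil => rfl
    | cons a l ih => rw [List.flatMap_cons, CosetEnum.ev_append, ← ih]; rfl
  have k : ∀ l₁ l₂ : List ℕ, (∀ l ∈ l₁, l < 20) ∧ (∀ l ∈ l₂, l < 20) ∧
      Comput.eqChk (Comput.stepT 176 8 Leech.CHS.W) (Comput.idTab 176 8)
        (l₁.map (Comput.nth 0 HS.us), l₂.map (Comput.nth 0 HS.us)) = true →
      CosetEnum.ev HS.gX l₁ = CosetEnum.ev HS.gX l₂ := fun l₁ l₂ h => by
    rw [HS.ev_gX h.1, HS.ev_gX h.2.1]; exact HS.wmX.holds h.2.2
  obtain ⟨φ, hφ⟩ := exists_hom_pc (x := fun i => CosetEnum.ev HS.gX (pw i)) (g := pg) (n := 9)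
    (sq := psq) (cj := pcj) (by decide) (fun i hi => ⟨by
      rw [e, ← CosetEnum.ev_append]
      exact k _ _ (by revert i; decide +kernel), fun j hj hij => by
      rw [e, ← CosetEnum.ev_append, ← CosetEnum.ev_append]
      exact k _ _ (by revert j; revert i; decide +kernel)⟩) (by decide +kernel) card_T.ge
    fun S hS => eq_top_of_genB gen3 (by
      simp only [List.forall_mem_cons]
      exact ⟨hS 3 (by norm_num), hS 1 (by norm_num), hS 0 (by norm_num), by simp⟩)
  have hm : ∀ x, φ x ∈ Comput.cl HS.pg Leech.CHS.top := fun x => by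
    rw [← HS.genX]
    refine map_mem_of_sp φ (gs := [pg 3, pg 1, pg 0]) (D := 6) ?_
      ((by decide +kernel : ∀ x, bit (sp [pg 3, pg 1, pg 0] 6) (TG.v x) = true) x)
    simp only [List.forall_mem_cons, hφ 3 (by norm_num), hφ 1 (by norm_num), hφ 0 (by norm_num)]
    exact ⟨CosetEnum.ev_mem_gen _ (by decide), CosetEnum.ev_mem_gen _ (by decide),
      CosetEnum.ev_mem_gen _ (by decide), by simp⟩
  have hz : φ z ≠ 1 := fun h => by
    obtain ⟨i, hi, e⟩ : ∃ i < 176, Nat.testBit (Comput.actL (Comput.stepN Leech.CHS.W)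
      ((pw 8).map (Comput.nth 0 HS.us)) (1 <<< i)) i = false := by decide +kernel
    have := Leech.CHS.M.sem_actL ((pw 8).map (Comput.nth 0 HS.us)) (1 <<< i)
    rw [← HS.ev_gX (by decide), ← hφ 8 (by norm_num), show pg 8 = z from rfl, h, one_smul] at this
    have h1 := (Leech.CHS.M.mem_sem (S := 1 <<< i) hi).2 (by simp [Nat.testBit_shiftLeft])
    rw [← this, Leech.CHS.M.mem_sem hi, e] at h1
    exact absurd h1 (by decide)
  obtain ⟨ε⟩ := MultC.isoHS
  have h1 : Injective (ε.symm.toMonoidHom.comp (φ.codRestrict _ hm)) :=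
    inj_of fun h => hz (congrArg Subtype.val (ε.symm.injective (h.trans (map_one _).symm)))
  refine ⟨_, h1, ?_⟩
  set ψ := ε.symm.toMonoidHom.comp (φ.codRestrict _ hm)
  have hc : Nat.card ψ.range = 2 ^ 9 := by
    rw [← Nat.card_congr (MonoidHom.ofInjective h1).toEquiv, card_T]; rfl
  refine ⟨le_top, IsPGroup.of_card hc, ?_⟩
  have h3 := ψ.range.card_mul_index
  rw [hc, Nat.card_congr ε.toEquiv, Leech.CHS.card_perm] at h3
  rw [relIndex_top_right]; omega

/-- `φ` is an isomorphism onto a Sylow 2-subgroup -/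
structure SH {G : Type*} [Group G] (φ : TH →* G) : Prop where
  inj : Injective φ
  syl : IsSylowIn 2 φ.range ⊤

theorem exists_SH {G : Type*} [Group G] [Finite G] (S : Sylow 2 G) (P : Sylow 2 Cfsg.Spor.HS)
    (e : (S : Subgroup G) ≃* (P : Subgroup Cfsg.Spor.HS)) : ∃ φ : TH →* G, SH φ := by
  obtain ⟨ε⟩ := MultC.isoHS
  have : Finite Cfsg.Spor.HS := Finite.of_equiv _ ε.symm.toEquiv
  obtain ⟨ψ, h1, h2⟩ := exists_HS
  let e' : TH ≃* (S : Subgroup G) :=
    ((MonoidHom.ofInjective h1).trans (h2.toSylowTop.equiv P)).trans e.symm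
  have h3 : ((S : Subgroup G).subtype.comp e'.toMonoidHom).range = S := by
    rw [MonoidHom.range_comp, MonoidHom.range_eq_top.2 e'.surjective, ← MonoidHom.range_eq_map,
      range_subtype]
  exact ⟨_, Subtype.val_injective.comp e'.injective, by rw [h3]; exact IsSylowIn.of_sylow_top S⟩

end TH

end

end CfsgLib.SylT
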