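import Cfsg.Agent.Lib.W2.Tab
import Cfsg.Agent.Lib.Tech.SylowIn
import Cfsg.Agent.S3171

/-! The group `T / Z(T)`, `T` a Sylow 2-subgroup of `M₂₄`, as `2⁶ ⋊ D₈` (plans/SYLTYPE.md, L5). -/

set_option autoImplicit false
set_option Elab.async false
set_option synthInstance.maxSize 100000

namespace CfsgLib.SylT.L5

open Subgroup Cfsg CfsgLib.W2 CfsgLib.W2.TG CfsgLib.Mathieu Cfsg.Agent.S3171

theorem okA : SOk 64 Nat.xor := SOk.of_light (gs := [1, 2, 4, 8, 16, 32]) (D := 1) (by decide +kernel)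

/-- multiplication of `D₈` -/
noncomputable def mD : ℕ → ℕ → ℕ := tab2 3 7 8 0x873157a3a31e4c1de5688fac15787331ea3ade54c1fac688

theorem okD : SOk 8 mD := SOk.of_light (gs := [1, 2]) (D := 4) (by decide +kernel)

/-- the action of `D₈` on `2⁶` -/
noncomputable def actD : ℕ → ℕ → ℕ := tab2 6 63 64 0x9628e48669e0b6aaeca6ebe8f7aefce7eff8d72cf4c76df05524d44565d075a6dc65e7d834a2cc24e3c81420c40461c09e28648e6960beaa6caeeb68df2c74cf6d70ffae7cefef787da65c6de7585d24544d65503ca24c2ce3481c20440c6140e7eefcf7aff8c76cf4d72df08668e49629e0a6eaecb6abe84564d45525d065e6dc75a7d824e2cc34a3c80460c41421c0cf6c74df2d70efee7cffaf788e68649e2960aeea6cbeab686de65c7da7584d64545d25502ce24c3ca3480c60441c2140a6abecb6eae88629e49668e0c72df4d76cf0e7affcf7eef84525d45564d065a7dc75e6d824a3cc34e2c80421c41460c0aeab6cbeea688e29649e6860efaf7cffee78cf2d74df6c706da75c7de6584d25545d64502ca34c3ce2480c21441c6040d76df4c72cf0f7effce7aef8b6ebeca6aae89669e48628e05565d44524d075e7dc65a6d834e3cc24a2c81461c40420c0ffef7cefae78df6d74cf2c70beeb6caeaa689e69648e28607de75c6da6585d65544d24503ce34c2ca2481c61440c2040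

theorem okM : TOk 512 (sdm 64 Nat.xor mD actD) (tab1 9 511 0x74ba9deec76bb9d6e870b89cee472b99c6e078bc9eef47abd9e6f07cbe9fefc7ebf9f6f868b49aed46ab59a6d06cb69bedc6eb79b6d864b299ecc66b3996c860b098ec462b1986c0d3e8b43a4d1e9b4ba0d7eab53acd5ebb5ba8dbecb63b4d9edb6bb0dfeeb73bcddefb7bb8cfe6b339ccde7b3b98cbe4b2394c9e5b2b90c7e2b138cc5e3b1b88c3e0b0384c1e1b0b80bcdfaf77cbedeaff78b8ddae774badcaef70b0d9ac764b2d8acf60b4dbad76cb6daadf68a8d5aa754aad4aaf50acd7ab75caed6abf58a4d3a974ca6d2a9f48a0d1a8744a2d0a8f4099cda63349bcca6b309dcfa733c9fcea7b3891c9a432493c8a4b2095cba532c97caa5b288dc7a331c8fc6a3b1889c5a23148bc4a2b1085c3a130c87c2a1b0881c1a030483c0a0b00f2f8bc7e4f0f9bcfe0f6fabd7ecf4fbbdfe8fefebf7fcfcffbfff8fafcbe7f4f8fdbeff0eaf4ba7d4e8f5bafd0eef6bb7dcecf7bbfd8e6f2b97cce4f3b9fc8e2f0b87c4e0f1b8fc055aa95aac57ab952a851a894aa453a9942a05dae97abc5faf972b859ac96ab45bad962b04da693a9c4fa79329849a492a944ba59229045a291a8c47a39128841a090a8443a1902803a9d8ee74389c8e6703e9f8fe7c3c9e8f678369b8de6c349a8d66832998ce6430988c6602a958ae5428948a6502e978be5c2c968b658269389e4c249289648229188e442090886401f8f87a3c1d8e872381b8d86a34198c86230178b85a2c158a85228138984a241188842200f8783a1c0d86832180b8582a14098482210078381a0c058281208038180a04018080200)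 :=
  (okA.sd okD (by decide +kernel)).tok (by decide +kernel)

/-- the model -/
abbrev M : Type := TG okM

/-- the normal subgroup of order 64 -/
abbrev InA (p : M) : Prop := p.v < 64

/-- the normal subgroup of order 64 -/
noncomputable def A0 : Subgroup M := sub InA (by decide +kernel)

/-- coset representatives -/
noncomputable def dd (i : Fin 8) : M := o (64 * i.val)

theorem card_A0' : Nat.card A0 = 64 := (card_sub _ _).trans (by decide +kernel)
theorem A_sq : ∀ a : M, InA a → a * a = 1 := by decide +kernel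
theorem A_comm : ∀ a : M, InA a → ∀ b : M, InA b → a * b = b * a := by decide +kernel
theorem A_conj : ∀ i, ∀ a : M, InA a → InA (dd i * a * (dd i)⁻¹) := by decide +kernel
theorem exists_dd : ∀ x : M, ∃ i, InA (x * (dd i)⁻¹) := by decide +kernel
theorem c16_dd : ∀ i, ¬ InA (dd i) → InA (dd i * dd i) →
    cnt (fun a : M => InA a ∧ a * dd i = dd i * a) = 16 := by decide +kernel
theorem m2_dd : ∀ i j, InA (dd i * dd i) → InA (dd j * dd i * (dd j)⁻¹ * (dd i)⁻¹) →
    ∀ a : M, InA a → dd j * (dd i * a * (dd i)⁻¹ * a⁻¹) * (dd j)⁻¹ = dd i * a * (dd i)⁻¹ * a⁻¹ := by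
  decide +kernel
theorem m3' : ∀ s : M, InA (s * s) → InA (o (s.v % 64)) ∧
    s * s = s * o (s.v % 64) * s⁻¹ * (o (s.v % 64))⁻¹ := by decide +kernel
theorem uw : dd 1 * dd 1 = 1 ∧ dd 2 * dd 2 = 1 ∧ dd 1 * dd 2 * (dd 1 * dd 2) = dd 4 := by
  decide +kernel
theorem t_comm : ∀ a : M, InA a →
    dd 1 * dd 2 * (dd 4 * a * (dd 4)⁻¹ * a⁻¹) = dd 4 * a * (dd 4)⁻¹ * a⁻¹ * (dd 1 * dd 2) := by
  decide +kernel
theorem z_mem : ∀ z : M, InA z → z * dd 1 = dd 1 * z → z * dd 2 = dd 2 * z →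
    ∃ a : M, InA a ∧ z = dd 4 * a * (dd 4)⁻¹ * a⁻¹ := by decide +kernel

/-- `[u, A] = ⟨p, q⟩` is centralised by `t`, and `q ∈ [t, A]` -/
def Two {G : Type*} [Group G] (A : Subgroup G) (u t : G) : Prop :=
  ∃ p q : G, ∃ a ∈ A, q = t * a * t⁻¹ * a⁻¹ ∧ ∀ b ∈ A, t * (u * b * u⁻¹ * b⁻¹) * t⁻¹ = u * b * u⁻¹ * b⁻¹ ∧
    (u * b * u⁻¹ * b⁻¹ = 1 ∨ u * b * u⁻¹ * b⁻¹ = p ∨ u * b * u⁻¹ * b⁻¹ = q ∨
      u * b * u⁻¹ * b⁻¹ = p * q)

theorem two_u : Two A0 (dd 1) (dd 4) :=
  ⟨o 2, o 8, o 32, show InA _ by decide +kernel, by decide +kernel,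
    show ∀ b, InA b → _ by decide +kernel⟩

theorem two_w : Two A0 (dd 2) (dd 4) :=
  ⟨o 16, o 4, o 1, show InA _ by decide +kernel, by decide +kernel,
    show ∀ b, InA b → _ by decide +kernel⟩

theorem conj_eq {x d a : M} (hx : x * d⁻¹ ∈ A0) (ha : d * a * d⁻¹ ∈ A0) :
    x * a * x⁻¹ = d * a * d⁻¹ := by
  have := A_comm _ hx _ ha
  calc x * a * x⁻¹ = x * d⁻¹ * (d * a * d⁻¹) * (x * d⁻¹)⁻¹ := by group
    _ = d * a * d⁻¹ := by rw [this, mul_inv_cancel_right]

instance : A0.Normal := ⟨fun a ha x => by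
  obtain ⟨i, hi⟩ := exists_dd x
  rw [conj_eq hi (A_conj i a ha)]
  exact A_conj i a ha⟩

theorem exists_dd' (x : M) : ∃ i, QuotientGroup.mk' A0 x = QuotientGroup.mk' A0 (dd i) ∧
    ∀ a ∈ A0, x * a * x⁻¹ = dd i * a * (dd i)⁻¹ := by
  obtain ⟨i, hi⟩ := exists_dd x
  refine ⟨i, ?_, fun a ha => conj_eq hi (A_conj i a ha)⟩
  rw [← mul_inv_eq_one, ← map_inv, ← map_mul]
  exact (QuotientGroup.eq_one_iff _).2 hi

theorem mem_A0 {x : M} : x ∈ A0 ↔ QuotientGroup.mk' A0 x = 1 := (QuotientGroup.eq_one_iff _).symm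

theorem c16 {b : M} (hb : b ∉ A0) (h2 : b * b ∈ A0) :
    Nat.card ↥(A0 ⊓ centralizer ({b} : Set M)) = 16 := by
  obtain ⟨i, e, h⟩ := exists_dd' b
  rw [mem_A0] at hb h2
  rw [e, ← mem_A0] at hb
  rw [map_mul, e, ← map_mul, ← mem_A0] at h2
  rw [← c16_dd i hb h2]
  refine card_subgroup _ _ fun a => and_congr_right fun ha => ?_
  show a ∈ centralizer ({b} : Set M) ↔ _
  rw [mem_centralizer_singleton_iff, eq_comm, ← mul_inv_eq_iff_eq_mul, h a ha,
    mul_inv_eq_iff_eq_mul, eq_comm]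

theorem m2 {b s a : M} (h2 : b * b ∈ A0) (hs : s * b * s⁻¹ * b⁻¹ ∈ A0) (ha : a ∈ A0) :
    s * (b * a * b⁻¹ * a⁻¹) * s⁻¹ = b * a * b⁻¹ * a⁻¹ := by
  obtain ⟨i, e, h⟩ := exists_dd' b
  obtain ⟨j, e', h'⟩ := exists_dd' s
  rw [mem_A0, map_mul, e, ← map_mul, ← mem_A0] at h2
  rw [mem_A0] at hs
  simp only [map_mul, map_inv, e, e'] at hs
  simp only [← map_mul, ← map_inv] at hs
  rw [h a ha, h' _ (A0.mul_mem (A_conj i a ha) (A0.inv_mem ha))]
  exact m2_dd i j h2 (mem_A0.2 hs) a ha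

/-- lifts of the generators -/
def lT : List ℕ := [971592882964418941354553515258775584, 980224387687010295957922729495201824, 965128854020860192151391391390468128, 5989235823820259689967313196876887, 133063281860353144099650130857936046, 723282428392214791379358104028253637, 984808092185701589051809676506104896, 984612649355406094121217942427387040, 984721978136738731986858641841030208]

/-- the product of the members of `l` given by the bits of a number -/
noncomputable def lift (l : List ℕ) : ℕ → ℕ :=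
  List.rec (fun _ => idc) (fun g _ ih v =>
    Bool.rec (ih (Nat.div v 2)) (comp g (ih (Nat.div v 2))) (Nat.beq (Nat.mod v 2) 1)) l

theorem has_lift {H : Subgroup P24} {l : List ℕ} (hl : ∀ a ∈ l, Has H a) (v : ℕ) :
    Has H (lift l v) := by
  induction l generalizing v with
  | nil => exact Has.one H
  | cons g l ih =>
    have h1 := ih (fun b hb => hl b (List.mem_cons_of_mem _ hb)) (Nat.div v 2)
    have e : lift (g :: l) v = Bool.rec (lift l (Nat.div v 2)) (comp g (lift l (Nat.div v 2)))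
      (Nat.beq (Nat.mod v 2) 1) := rfl
    rw [e]
    cases Nat.beq (Nat.mod v 2) 1
    · exact h1
    · exact (hl g List.mem_cons_self).comp h1

theorem has_lT : ∀ a ∈ lT, Has T a := has_of_words [[6, 7], [7, 8, 9], [8], [5, 9], [2, 4, 5, 8, 9], [0, 2, 3, 4, 7], [3, 4], [1], [4]] hasT (by decide +kernel)

theorem lift_mul : ∀ g ∈ ([o 1, o 32, o 64, o 128] : List M), ∀ a : M,
    lift lT (a * g).v = comp (lift lT a.v) (lift lT g.v) ∨
      lift lT (a * g).v = comp sylZ24 (comp (lift lT a.v) (lift lT g.v)) := by decide +kernel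

theorem lift_ker : ∀ a : M, lift lT a.v = idc ∨ lift lT a.v = sylZ24 → a = 1 := by decide +kernel

theorem exists_equiv_of {S : Type*} [Group S] {π : T →* S} (hs : Function.Surjective π)
    (hk : ∀ x, π x = 1 ↔ code x = idc ∨ code x = sylZ24) : Nonempty (M ≃* S) := by
  have h1 : ∀ a : M, ∃ x : T, code x = lift lT a.v := fun a => by
    obtain ⟨x, hx, e⟩ := has_lift has_lT a.v
    exact ⟨⟨x, hx⟩, e⟩
  choose f hf using h1
  let φ : M →* S := homOf (gs := [o 1, o 32, o 64, o 128]) (D := 4) (by decide +kernel)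
    (fun a => π (f a)) ((hk _).2 (Or.inl ((hf 1).trans (by decide +kernel)))) fun g hg a => by
      rw [← map_mul, eq_iff hk, Subgroup.coe_mul, code_mul, hf, hf, hf]
      exact lift_mul g hg a
  have h2 : Function.Injective φ := (injective_iff_map_eq_one φ).2 fun a ha =>
    lift_ker a (by rw [← hf]; exact (hk _).1 ha)
  have : Finite S := Nat.finite_of_card_ne_zero (by rw [card_S hs hk]; norm_num)
  exact ⟨MulEquiv.ofBijective φ (h2.bijective_of_nat_card_le (by rw [card_S hs hk, card_eq]))⟩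

theorem exists_equiv (P : Sylow 2 M24) :
    Nonempty (M ≃* ((P : Subgroup M24) ⧸ center (P : Subgroup M24))) ∧
      Nat.card (center (P : Subgroup M24)) = 2 := by
  obtain ⟨e⟩ := sylow24_equiv P
  let π : T →* _ := (QuotientGroup.mk' (center (P : Subgroup M24))).comp e.symm.toMonoidHom
  have hs : Function.Surjective π := (QuotientGroup.mk'_surjective _).comp e.symm.surjective
  have hk : ∀ x, π x = 1 ↔ code x = idc ∨ code x = sylZ24 := by
    intro x
    have h1 : π x = 1 ↔ ∀ t : T, t * x = x * t := by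
      refine (QuotientGroup.eq_one_iff _).trans (mem_center_iff.trans
        ⟨fun h t => e.symm.injective (by rw [map_mul, map_mul]; exact h _), fun h t => ?_⟩)
      apply e.injective
      simpa using h (e t)
    rw [h1]
    constructor
    · intro h
      by_cases h2 : (x : P24) = 1
      · exact Or.inl (code_eq_idc.2 h2)
      · exact Or.inr (code_eq_of_cenOK has_top_syl24 pcOK24 cenOK24 x.2 h2
          fun t ht => congrArg Subtype.val (h ⟨t, ht⟩))
    · rintro (h | h) t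
      · rw [show x = 1 from Subtype.ext (code_eq_idc.1 h), mul_one, one_mul]
      · have h2 : (x : P24) = z2A := code_injective (h.trans code_z2A.symm)
        exact Subtype.ext (by
          have := mem_centralizer_singleton_iff.1 (syl24_le_cent t.2).2
          rwa [← h2] at this)
  refine ⟨exists_equiv_of hs hk, ?_⟩
  have h1 := (center (P : Subgroup M24)).card_mul_index
  rw [Subgroup.index, card_S hs hk, Nat.card_congr e.toEquiv, card_syl24] at h1
  omega

theorem uniq (B : Subgroup M) (hB : IsMulCommutative B) (hc : Nat.card B = 64) : B = A0 := by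
  obtain ⟨P⟩ : Nonempty (Sylow 2 M24) := inferInstance
  obtain ⟨e⟩ := (exists_equiv P).1
  have hA : IsMulCommutative A0 := ⟨⟨fun a b => Subtype.ext (A_comm _ a.2 _ b.2)⟩⟩
  refine map_injective (f := e.toMonoidHom) e.injective ((Cfsg.Agent.S3171.result P).2.2 _ _
    inferInstance ?_ inferInstance ?_)
  · rw [card_map_of_injective e.injective, hc]
  · rw [card_map_of_injective e.injective, card_A0']

end CfsgLib.SylT.L5
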