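import Cfsg.Agent.Lib.SylT.L5a
import Cfsg.Agent.Lib.TwoGrp.Pres
import Cfsg.Agent.Lib.Gold.Tools

/-! The abelian subgroup of order 64 is strongly closed (plans/SYLTYPE.md, L5). -/

set_option autoImplicit false

namespace CfsgLib.SylT.L5

open Subgroup Cfsg CfsgLib.Tech CfsgLib.TwoGrp

universe u

variable {G : Type u} [Group G] [Finite G]

/-- the Sylow 2-subgroups are isomorphic to the model -/
def Hyp (G : Type u) [Group G] : Prop :=
  ∃ φ : M →* G, Function.Injective φ ∧ IsSylowIn 2 φ.range ⊤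

/-- abelian of order 64 -/
structure Big (A : Subgroup G) : Prop where
  comm : IsMulCommutative A
  card : Nat.card A = 64

variable {A A' B F P : Subgroup G}

omit [Finite G] in
theorem Big.two (h : Big A) : IsPGroup 2 A := IsPGroup.of_card (n := 6) h.card

omit [Finite G] in
theorem Big.cj (h : Big A) (g : G) : Big (cj g A) :=
  ⟨have := h.comm; inferInstance, (card_cj g A).trans h.card⟩

theorem Big.mul_comm (h : Big A) {a b : G} (ha : a ∈ A) (hb : b ∈ A) : a * b = b * a :=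
  Gold.mul_comm_of_comm h.comm ha hb

theorem Hyp.mod (H : Hyp G) (hP : IsPGroup 2 P) (hA : Big A) (h : A ≤ P) :
    ∃ φ : M →* G, Function.Injective φ ∧ P ≤ φ.range ∧ (∀ x, φ x ∈ A ↔ x ∈ A0) := by
  obtain ⟨φ, hi, hS⟩ := H
  obtain ⟨g, -, hg⟩ := hS.exists_cj_le hP le_top
  let ψ : M →* G := (MulAut.conj g⁻¹).toMonoidHom.comp φ
  have h1 : Function.Injective ψ := (MulAut.conj g⁻¹).injective.comp hi
  have h2 : P ≤ ψ.range := fun x hx => by
    obtain ⟨y, e⟩ := hg (conj_mem_cj.2 hx)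
    exact ⟨y, by simp [ψ, e, mul_assoc]⟩
  have h3 : A.comap ψ = A0 := by
    refine uniq _ (have := hA.comm; comap_injective_isMulCommutative A h1) ?_
    rw [← card_map_of_injective h1, map_comap_eq_self (h.trans h2), hA.card]
  exact ⟨ψ, h1, h2, fun x => by rw [← h3]; rfl⟩

theorem Hyp.uniq (H : Hyp G) (hP : IsPGroup 2 P) (hA : Big A) (hB : Big B) (h : A ≤ P)
    (h' : B ≤ P) : A = B := by
  obtain ⟨φ, hi, h1, h2⟩ := H.mod hP hA h
  have h3 : B.comap φ = A0 := by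
    refine L5.uniq _ (have := hB.comm; comap_injective_isMulCommutative B hi) ?_
    rw [← card_map_of_injective hi, map_comap_eq_self (h'.trans h1), hB.card]
  ext x
  refine ⟨fun hx => ?_, fun hx => ?_⟩
  · obtain ⟨y, rfl⟩ := h1 (h hx)
    exact (show y ∈ B.comap φ from h3 ▸ (h2 y).1 hx)
  · obtain ⟨y, rfl⟩ := h1 (h' hx)
    exact (h2 y).2 (h3 ▸ hx)

theorem Hyp.le_norm (H : Hyp G) (hP : IsPGroup 2 P) (hA : Big A) (h : A ≤ P) :
    P ≤ normalizer (A : Set G) := fun g hg =>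
  mem_normalizer_iff_cj.2 (H.uniq hP (hA.cj g) hA
    (cj_le_iff.2 fun _ hx => P.mul_mem (P.mul_mem hg (h hx)) (P.inv_mem hg)) h)

theorem Hyp.conj (H : Hyp G) {K : Subgroup G} (hA : Big A) (hB : Big B) (h : A ≤ K)
    (h' : B ≤ K) : ∃ k ∈ K, cj k A = B := by
  obtain ⟨T, hT, h1⟩ := exists_isSylowIn_ge hB.two h'
  obtain ⟨k, hk, h2⟩ := hT.exists_cj_le hA.two h
  exact ⟨k, hk, H.uniq hT.pgroup (hA.cj k) hB h2 h1⟩

theorem Hyp.sq (H : Hyp G) (hA : Big A) {a : G} (ha : a ∈ A) : a * a = 1 := by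
  obtain ⟨φ, -, h1, h2⟩ := H.mod hA.two hA le_rfl
  obtain ⟨y, rfl⟩ := h1 ha
  rw [← map_mul, A_sq y ((h2 y).1 ha), map_one]

theorem Hyp.c16 (H : Hyp G) (hP : IsPGroup 2 P) (hA : Big A) (h : A ≤ P) {b : G} (hb : b ∈ P)
    (h1 : b ∉ A) (h2 : b * b ∈ A) : Nat.card ↥(A ⊓ centralizer ({b} : Set G)) = 16 := by
  obtain ⟨φ, hi, h3, h4⟩ := H.mod hP hA h
  obtain ⟨y, rfl⟩ := h3 hb
  rw [← map_mul, h4] at h2
  rw [← L5.c16 (fun hy => h1 ((h4 y).2 hy)) h2, ← card_map_of_injective hi]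
  congr 2
  ext x
  refine ⟨fun hx => ?_, ?_⟩
  · obtain ⟨z, rfl⟩ := h3 (h hx.1)
    refine mem_map_of_mem φ ⟨(h4 z).1 hx.1, mem_centralizer_singleton_iff.2 (hi ?_)⟩
    rw [map_mul, map_mul]
    exact mem_centralizer_singleton_iff.1 hx.2
  · rintro ⟨z, hz, rfl⟩
    refine ⟨(h4 z).2 hz.1, mem_centralizer_singleton_iff.2 ?_⟩
    rw [← map_mul, ← map_mul, mem_centralizer_singleton_iff.1 hz.2]

theorem Hyp.m2 (H : Hyp G) (hP : IsPGroup 2 P) (hA : Big A) (h : A ≤ P) {b s a : G} (hb : b ∈ P)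
    (hs : s ∈ P) (h2 : b * b ∈ A) (h3 : s * b * s⁻¹ * b⁻¹ ∈ A) (ha : a ∈ A) :
    s * (b * a * b⁻¹ * a⁻¹) * s⁻¹ = b * a * b⁻¹ * a⁻¹ := by
  obtain ⟨φ, -, h4, h5⟩ := H.mod hP hA h
  obtain ⟨b, rfl⟩ := h4 hb
  obtain ⟨s, rfl⟩ := h4 hs
  obtain ⟨a, rfl⟩ := h4 (h ha)
  simp only [← map_mul, ← map_inv, h5] at h2 h3 ha ⊢
  rw [L5.m2 h2 h3 ha]

theorem Hyp.m3 (H : Hyp G) (hP : IsPGroup 2 P) (hA : Big A) (h : A ≤ P) {s : G} (hs : s ∈ P)
    (h2 : s * s ∈ A) : ∃ a ∈ A, s * s = s * a * s⁻¹ * a⁻¹ := by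
  obtain ⟨φ, -, h4, h5⟩ := H.mod hP hA h
  obtain ⟨s, rfl⟩ := h4 hs
  rw [← map_mul, h5] at h2
  refine ⟨φ _, (h5 _).2 (m3' s h2).1, ?_⟩
  simp only [← map_mul, ← map_inv]
  rw [← (m3' s h2).2]

omit [Finite G] in
theorem two_map (φ : M →* G) (h : A ≤ φ.range) (hA : ∀ x, φ x ∈ A ↔ x ∈ A0) {u t : M}
    (h2 : Two A0 u t) : Two A (φ u) (φ t) := by
  obtain ⟨p, q, a, ha, e, h3⟩ := h2
  refine ⟨φ p, φ q, φ a, (hA a).2 ha, by simp [e], fun b hb => ?_⟩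
  obtain ⟨b, rfl⟩ := h hb
  obtain ⟨h4, h5⟩ := h3 b ((hA b).1 hb)
  simp only [← map_mul, ← map_inv]
  refine ⟨congrArg φ h4, ?_⟩
  rcases h5 with h5 | h5 | h5 | h5 <;> simp [h5]

theorem Hyp.exists_uw (H : Hyp G) (hA : Big A) : ∃ (S : Subgroup G) (u w t : G),
    IsPGroup 2 S ∧ A ≤ S ∧ u ∈ S ∧ w ∈ S ∧ u * u = 1 ∧ w * w = 1 ∧ u * w * (u * w) = t ∧
      (∀ a ∈ A, u * w * (t * a * t⁻¹ * a⁻¹) = t * a * t⁻¹ * a⁻¹ * (u * w)) ∧
      (∀ z ∈ A, z * u = u * z → z * w = w * z → ∃ a ∈ A, z = t * a * t⁻¹ * a⁻¹) ∧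
      Two A u t ∧ Two A w t := by
  obtain ⟨φ, hi, h1, h2⟩ := H.mod hA.two hA le_rfl
  refine ⟨φ.range, φ (dd 1), φ (dd 2), φ (dd 4), ?_, h1, ⟨_, rfl⟩, ⟨_, rfl⟩, ?_, ?_, ?_,
    fun a ha => ?_, fun z hz e e' => ?_, two_map φ h1 h2 two_u, two_map φ h1 h2 two_w⟩
  · exact (IsPGroup.of_card (n := 9) (W2.TG.card_eq (h := okM))).of_surjective _
      φ.rangeRestrict_surjective
  · rw [← map_mul, uw.1, map_one]
  · rw [← map_mul, uw.2.1, map_one]
  · simp only [← map_mul, uw.2.2]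
  · obtain ⟨a, rfl⟩ := h1 ha
    simp only [← map_mul, ← map_inv]
    rw [t_comm a ((h2 a).1 ha)]
  · obtain ⟨z, rfl⟩ := h1 hz
    simp only [← map_mul] at e e'
    obtain ⟨a, ha, e2⟩ := z_mem z ((h2 z).1 hz) (hi e) (hi e')
    exact ⟨φ a, (h2 a).2 ha, by simp [e2]⟩

/-- an elementary abelian subgroup of order 32 in a 2-group over `A` is normalised by `A` -/
theorem Hyp.m1 (H : Hyp G) (hP : IsPGroup 2 P) (hA : Big A) (h : A ≤ P) (hF : F ≤ P)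
    (h2 : ∀ f ∈ F, f * f = 1) (h32 : Nat.card F = 32) : A ≤ normalizer (F : Set G) := by
  intro a ha
  refine mem_normalizer_of_forall fun f hf => ?_
  have hcA : f * a * f⁻¹ * a⁻¹ ∈ A :=
    A.mul_mem (conj_mem_of_mem_normalizer (H.le_norm hP hA h (hF hf)) ha) (A.inv_mem ha)
  have hc : ∀ s ∈ F, s * (f * a * f⁻¹ * a⁻¹) = f * a * f⁻¹ * a⁻¹ * s := fun s hs =>
    mul_inv_eq_iff_eq_mul.1 (H.m2 hP hA h (hF hf) (hF hs) (h2 f hf ▸ A.one_mem)
      (by rw [Gold.mul_comm_of_elem h2 hs hf]; simp) ha)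
  have h3 : f * a * f⁻¹ * a⁻¹ ∈ F := by
    by_contra hn
    have h4 : f * a * f⁻¹ * a⁻¹ ∈ normalizer (F : Set G) :=
      centralizer_le_normalizer _ (mem_centralizer_iff.2 hc)
    have h5 : f * a * f⁻¹ * a⁻¹ * (f * a * f⁻¹ * a⁻¹) ∈ F := H.sq hA hcA ▸ F.one_mem
    have h6 : Big (F ⊔ zpowers (f * a * f⁻¹ * a⁻¹)) := by
      refine ⟨Gold.comm_of_elem fun x hx => ?_, by rw [card_sup_zpowers h4 h5 hn, h32]⟩
      rcases (mem_sup_zpowers_iff h4 h5).1 hx with hy | ⟨c, hy, rfl⟩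
      · exact h2 x hy
      · rw [mul_assoc, ← mul_assoc _ c, ← hc c hy, mul_assoc c, H.sq hA hcA, mul_one, h2 c hy]
    have h7 := H.uniq hP h6 hA (sup_le hF (zpowers_le.2 (h hcA))) h
    have h8 := hA.mul_comm (h7 ▸ mem_sup_left hf) ha
    exact hn (by rw [h8]; simp)
  have := F.inv_mem (F.mul_mem (F.inv_mem hf) h3)
  convert this using 1
  group

/-- the configuration of the strong closure argument -/
structure Cfg (F A : Subgroup G) : Prop where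
  big : Big A
  sq : ∀ f ∈ F, f * f = 1
  card : Nat.card F = 32
  inf : Nat.card ↥(F ⊓ A) = 16
  norm : A ≤ normalizer (F : Set G)

namespace Cfg

omit [Finite G] in
theorem two (h : Cfg F A) : IsPGroup 2 ↥(A ⊔ F) :=
  h.big.two.to_sup_of_normal_right' (IsPGroup.of_card (n := 5) h.card) h.norm

omit [Finite G] in
theorem idx (h : Cfg F A) {x y : G} (hx : x ∈ F) (hy : y ∈ F) (h1 : x ∉ A) (h2 : y ∉ A) :
    x * y ∈ A := by
  have h3 := card_mul_relIndex' (inf_le_left : F ⊓ A ≤ F)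
  rw [h.inf, h.card] at h3
  have h4 : ((F ⊓ A).subgroupOf F).index = 2 := by
    change (F ⊓ A).relIndex F = 2
    omega
  exact ((mul_mem_iff_of_index_two h4 (a := ⟨x, hx⟩) (b := ⟨y, hy⟩)).2
    (iff_of_false (fun h => h1 h.2) fun h => h2 h.2)).2

theorem comm_mem (H : Hyp G) (h : Cfg F A) {f a : G} (hf : f ∈ F) (ha : a ∈ A) :
    f * a * f⁻¹ * a⁻¹ ∈ F ⊓ A := by
  refine mem_inf.2 ⟨?_, A.mul_mem (conj_mem_of_mem_normalizer
    (H.le_norm h.two h.big le_sup_left (mem_sup_right hf)) ha) (A.inv_mem ha)⟩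
  have := F.mul_mem hf (conj_mem_of_mem_normalizer (h.norm ha) (F.inv_mem hf))
  simpa only [mul_assoc] using this

theorem mem_of_comm (H : Hyp G) (h : Cfg F A) {f a : G} (hf : f ∈ F) (h1 : f ∉ A) (ha : a ∈ A)
    (e : a * f = f * a) : a ∈ F := by
  have h2 := H.c16 h.two h.big le_sup_left (mem_sup_right hf) h1 (h.sq f hf ▸ A.one_mem)
  have h3 : F ⊓ A = A ⊓ centralizer ({f} : Set G) := eq_of_le_of_card_ge
    (fun x hx => ⟨hx.2, mem_centralizer_singleton_iff.2 (Gold.mul_comm_of_elem h.sq hx.1 hf)⟩)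
    (by rw [h2, h.inf])
  exact (h3.ge ⟨ha, mem_centralizer_singleton_iff.2 e⟩).1

theorem exists_a0 (H : Hyp G) (h : Cfg F A) (h' : Cfg F A') {a : G} (ha : a ∈ F) (haA : a ∈ A) :
    ∃ x ∈ A', x ∉ F ∧ x * a * x⁻¹ ∈ A := by
  by_contra! hn
  have h1 := card_mul_relIndex' (inf_le_right : F ⊓ A' ≤ A')
  rw [h'.inf, h'.big.card] at h1
  have h2 : ¬ (F ⊓ A').relIndex A' ∣ 2 := by
    rw [show (F ⊓ A').relIndex A' = 4 by omega]
    norm_num
  obtain ⟨x, hx, hxF⟩ : ∃ x ∈ A', x ∉ F := by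
    by_contra! h3
    have := card_le_of_le (show A' ≤ F from h3)
    rw [h'.big.card, h.card] at this
    omega
  refine h2 (relIndex_dvd_two_iff.2 ⟨x, hx, fun y hy => ?_⟩)
  by_cases hyF : y ∈ F
  · exact Or.inr ⟨hyF, hy⟩
  refine Or.inl ⟨?_, A'.mul_mem hy hx⟩
  by_contra h3
  refine hn _ (A'.mul_mem hy hx) h3 ?_
  have h4 := h.idx (conj_mem_of_mem_normalizer (h'.norm hy) ha)
    (conj_mem_of_mem_normalizer (h'.norm hx) ha) (hn y hy hyF) (hn x hx hxF)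
  have h5 := h'.big.mul_comm hy (A'.inv_mem (h'.comm_mem H ha hx).2)
  have h6 : y * x * a * (y * x)⁻¹ = (a * x * a⁻¹ * x⁻¹)⁻¹ * (y * a * y⁻¹) := by
    rw [← mul_assoc, ← mul_assoc, ← h5]
    group
  have h7 := Gold.mul_comm_of_elem h.sq (conj_mem_of_mem_normalizer (h'.norm hy) ha)
    (F.inv_mem (h'.comm_mem H ha hx).1)
  rw [h6, ← h7]
  simpa only [mul_inv_rev, inv_inv, mul_assoc] using A.mul_mem h4 (A.inv_mem haA)

theorem le_norm (H : Hyp G) (h : Cfg F A) (h' : Cfg F A') (hne : ¬ F ⊓ A ≤ A') :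
    A ≤ normalizer ((F ⊓ A' : Subgroup G) : Set G) := by
  obtain ⟨a, ⟨haF, haA⟩, ha'⟩ := SetLike.not_le_iff_exists.1 hne
  obtain ⟨x, hx, hxF, hxa⟩ := exists_a0 H h h' haF haA
  let K := normalizer (F : Set G) ⊓ normalizer ((F ⊓ A : Subgroup G) : Set G) ⊓
    normalizer ((F ⊓ A ⊓ A' : Subgroup G) : Set G)
  have hc : ∀ {B C : Subgroup G} {g : G}, Big B → C ≤ B → g ∈ B → g ∈ normalizer (C : Set G) :=
    fun hB hC hg => centralizer_le_normalizer _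
      (mem_centralizer_iff.2 fun y hy => hB.mul_comm (hC hy) hg)
  have hAK : A ≤ K := fun g hg => ⟨⟨h.norm hg, hc h.big inf_le_right hg⟩,
    hc h.big (inf_le_left.trans inf_le_right) hg⟩
  have hxK : x ∈ K := by
    refine ⟨⟨h'.norm hx, mem_normalizer_of_forall fun y hy =>
      ⟨conj_mem_of_mem_normalizer (h'.norm hx) hy.1, ?_⟩⟩, hc h'.big inf_le_right hx⟩
    by_cases hy' : y ∈ A'
    · rw [h'.big.mul_comm hx hy', mul_inv_cancel_right]
      exact hy.2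
    · have h1 := h'.big.mul_comm hx (h'.idx hy.1 haF hy' ha')
      have e : x * y * x⁻¹ = y * a * (x * a * x⁻¹)⁻¹ := by
        rw [← mul_inv_cancel_right (y * a) x, ← h1]
        group
      rw [e]
      exact A.mul_mem (A.mul_mem hy.2 haA) (A.inv_mem hxa)
  obtain ⟨T, hT, hAT⟩ := exists_isSylowIn_ge h.big.two hAK
  obtain ⟨k, hk, hs⟩ := hT.exists_conj_mem hxK (isPGroup_zpowers_of_mem h'.big.two hx)
  have hFT : F ≤ T := by
    have hcF : ∀ {C : Subgroup G} {g : G}, C ≤ F → g ∈ F → g ∈ normalizer (C : Set G) :=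
      fun hC hg => centralizer_le_normalizer _
        (mem_centralizer_iff.2 fun y hy => Gold.mul_comm_of_elem h.sq (hC hy) hg)
    exact hT.le_of_le_normalizer (IsPGroup.of_card (n := 5) h.card) (fun g hg =>
      ⟨⟨le_normalizer hg, hcF inf_le_left hg⟩, hcF (inf_le_left.trans inf_le_left) hg⟩)
      (inf_le_left.trans inf_le_left)
  intro g hg
  refine mem_normalizer_of_forall fun y hy =>
    ⟨conj_mem_of_mem_normalizer (h.norm hg) hy.1, ?_⟩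
  by_cases hyA : y ∈ A
  · rw [h.big.mul_comm hg hyA, mul_inv_cancel_right]
    exact hy.2
  have hsK := hT.le hs
  have h1 : k * x * k⁻¹ * y * (k * x * k⁻¹)⁻¹ * y⁻¹ ∈ A :=
    h.idx (conj_mem_of_mem_normalizer hsK.1.1 hy.1) (F.inv_mem hy.1)
      (fun h2 => hyA ((mem_normalizer_iff.1 hsK.1.2 y).2
        ⟨conj_mem_of_mem_normalizer hsK.1.1 hy.1, h2⟩).2) (fun h2 => hyA (A.inv_mem_iff.1 h2))
  have h2 := H.m2 hT.pgroup h.big hAT (hFT hy.1) hs (h.sq y hy.1 ▸ A.one_mem) h1 hg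
  have h3 := conj_mem_of_mem_normalizer' hk.1.2 (h.comm_mem H hy.1 hg)
  generalize hc : y * g * y⁻¹ * g⁻¹ = c at h2 h3
  have h4 : k⁻¹ * c * k ∈ A' := by
    by_contra h4
    refine hxF (h'.mem_of_comm H h3.1 h4 hx ?_)
    calc x * (k⁻¹ * c * k) = k⁻¹ * (k * x * k⁻¹ * c * (k * x * k⁻¹)⁻¹) * k * x := by group
      _ = k⁻¹ * c * k * x := by rw [h2]
  have h5 := (conj_mem_of_mem_normalizer hk.2 ⟨h3, h4⟩).2
  have e : g * y * g⁻¹ = (k * (k⁻¹ * c * k) * k⁻¹)⁻¹ * y := by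
    rw [← hc]
    group
  rw [e]
  exact A'.mul_mem (A'.inv_mem h5) hy.2

theorem inf_eq (H : Hyp G) (h : Cfg F A) (h' : Cfg F A') : F ⊓ A = F ⊓ A' := by
  by_contra hne
  have h1 : ¬ F ⊓ A ≤ A' := fun h1 =>
    hne (eq_of_le_of_card_ge (le_inf inf_le_left h1) (by rw [h.inf, h'.inf]))
  have h2 : ¬ F ⊓ A' ≤ A := fun h1 =>
    hne (eq_of_le_of_card_ge (le_inf inf_le_left h1) (by rw [h.inf, h'.inf])).symm
  have h3 : A' ≤ normalizer ((F ⊓ A' : Subgroup G) : Set G) := fun g hg =>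
    centralizer_le_normalizer _ (mem_centralizer_iff.2 fun y hy => h'.big.mul_comm hy.2 hg)
  obtain ⟨k, hk, e⟩ := H.conj h'.big h.big (le_inf h'.norm h3) (le_inf h.norm (le_norm H h h' h1))
  refine hne ?_
  rw [← mem_normalizer_iff_cj.1 hk.2, cj_inf, e, mem_normalizer_iff_cj.1 hk.1]

end Cfg

theorem Hyp.sc (H : Hyp G) (hA : Big A) : Gold.SC A ⊤ := by
  refine ⟨le_top, hA.two, fun P hP h _ a ha g _ hb => ?_⟩
  by_contra hn
  have hb' : g * a * g⁻¹ ∈ cj g A := conj_mem_cj.2 ha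
  have hA' := hA.cj g
  generalize g * a * g⁻¹ = b at hb hn hb'
  generalize cj g A = A' at hb' hA'
  have h2 := H.sq hA' hb'
  have h3 := H.c16 hP hA h hb hn (h2 ▸ A.one_mem)
  have h4 : b ∈ normalizer ((A ⊓ centralizer ({b} : Set G) : Subgroup G) : Set G) :=
    centralizer_le_normalizer _
      (mem_centralizer_iff.2 fun y hy => mem_centralizer_singleton_iff.1 hy.2)
  have h5 : b * b ∈ A ⊓ centralizer ({b} : Set G) := h2 ▸ one_mem _
  obtain ⟨F, hF⟩ : ∃ F, F = (A ⊓ centralizer ({b} : Set G)) ⊔ zpowers b := ⟨_, rfl⟩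
  have hbF : b ∈ F := hF ▸ mem_sup_right (mem_zpowers b)
  have h32 : Nat.card F = 32 := by rw [hF, card_sup_zpowers h4 h5 fun h => hn h.1, h3]
  have hsq : ∀ f ∈ F, f * f = 1 := fun f hf => by
    rcases (mem_sup_zpowers_iff h4 h5).1 (hF ▸ hf) with hf | ⟨c, hc, rfl⟩
    · exact H.sq hA hf.1
    · rw [mul_assoc, ← mul_assoc b, ← mem_centralizer_singleton_iff.1 hc.2, mul_assoc c, h2,
        mul_one, H.sq hA hc.1]
  have hFA : F ⊓ A = A ⊓ centralizer ({b} : Set G) := le_antisymm (fun f hf => ⟨hf.2,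
    mem_centralizer_singleton_iff.2 (Gold.mul_comm_of_elem hsq hf.1 hbF)⟩)
      (le_inf (hF ▸ le_sup_left) inf_le_left)
  have hc : Cfg F A := ⟨hA, hsq, h32, hFA ▸ h3, H.m1 hP hA h
    (hF ▸ sup_le (inf_le_left.trans h) (zpowers_le.2 hb)) hsq h32⟩
  obtain ⟨T, hT, hFT⟩ := exists_isSylowIn_ge (IsPGroup.of_card (p := 2) (n := 5) h32)
    (show F ≤ centralizer ({b} : Set G) from fun f hf =>
      mem_centralizer_singleton_iff.2 (Gold.mul_comm_of_elem hsq hf hbF))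
  obtain ⟨c, hc1, hc2⟩ := hT.exists_cj_le hA'.two
    fun x hx => mem_centralizer_singleton_iff.2 (hA'.mul_comm hx hb')
  have h6 := H.m1 hT.pgroup (hA'.cj c) hc2 hFT hsq h32
  obtain ⟨k, hk, e⟩ := H.conj hA (hA'.cj c) hc.norm h6
  have h7 : Cfg F (cj c A') := ⟨hA'.cj c, hsq, h32, by
    rw [← e, ← hc.inf, ← card_cj k (F ⊓ A), cj_inf, mem_normalizer_iff_cj.1 hk], h6⟩
  refine hn ((Cfg.inf_eq H hc h7).ge ⟨hbF, ?_⟩).2
  have := (conj_mem_cj (g := c)).2 hb'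
  rwa [mem_centralizer_singleton_iff.1 hc1, mul_inv_cancel_right] at this

end CfsgLib.SylT.L5
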