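import Cfsg.Agent.Lib.SylT.L5d
import Cfsg.Agent.Lib.Gold.All

/-!
# Sylow 2-subgroup of type `L₅(2)` with central involution (plans/S0512.md, part A)
-/

set_option autoImplicit false
set_option Elab.async false
set_option linter.unusedSectionVars false
set_option synthInstance.maxSize 100000
set_option maxRecDepth 100000

namespace CfsgLib.SylT.TL

open Subgroup Cfsg CfsgLib.Tech CfsgLib.PComp CfsgLib.W2 Function TG CfsgLib.LargeExtra

variable {G : Type*} [Group G] [Finite G] {φ : TL →* G} {g k : G} {x y u v : TL}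

theorem fix2 (ho : Odd (orderOf g)) (e : Cm φ (g * g) x x) : Cm φ g x x :=
  cm_fix.2 (mem_of_coprime_pow (Nat.coprime_two_left.2 ho) (by rw [sq]; exact cm_fix.1 e)
    (by rw [pow_orderOf_eq_one]; exact one_mem _))

theorem fixm (ho : Odd (orderOf g)) (eu : Cm φ g u u) (uu : u * u = 1) (e : Cm φ g x (x * u)) :
    Cm φ g x x := fix2 ho (by simpa [mul_assoc, uu] using e.trans (e.mul eu))

theorem nswap (ho : Odd (orderOf g)) (eu : Cm φ g u u) (ev : Cm φ g v v)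
    (uu : v * u * (v * u) = 1) (e : Cm φ g x (y * u)) (e' : Cm φ g y (x * v)) : Cm φ g x x :=
  fix2 ho (fixm (ho.of_dvd_nat (sq g ▸ orderOf_pow_dvd 2)) ((ev.mul eu).trans (ev.mul eu)) uu
    (by simpa [mul_assoc] using e.trans (e'.mul eu)))

omit [Finite G] in
theorem fix_sp {gs : List TL} (h : ∀ r ∈ gs, Cm φ g r r) (hx : bit (sp gs 6) x.v = true) :
    Cm φ g x x := sp_ind (P := fun x => Cm φ g x x) Cm.one (fun _ ha r hr => ha.mul (h r hr)) hx

/-- the coset modulo `Q` -/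
noncomputable def co (x : TL) : ℕ := Nat.land x.v 560

theorem co_mul : ∀ q, InQ q → ∀ x, co (x * q) = co x := by decide +kernel

theorem co_iff : x⁻¹ * y ∈ Q ↔ co x = co y := by
  refine ⟨fun h => by rw [← co_mul _ h x, mul_inv_cancel_left], fun h => ?_⟩
  have h1 : ∀ x, (o (co x))⁻¹ * x ∈ Q := (by decide +kernel : ∀ x, InQ ((o (co x))⁻¹ * x))
  simpa [h, mul_assoc] using Q.mul_mem (Q.inv_mem (h1 x)) (h1 y)

theorem SL.es (h : SL φ) : ExtraTwo.ES (Q.map φ) (φ z) where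
  ne_one := ne_one_of_ord (h.ord zz z_ne)
  mul_self := zz'
  mem := mem_map_of_mem φ (show InQ z by decide +kernel)
  comm_z := by rintro _ ⟨p, -, rfl⟩; exact mem_Cx.1 (mem_H p)
  center := by
    rintro _ ⟨p, hp, rfl⟩ h1
    rcases (by decide +kernel : ∀ p, InQ p → (∀ r, InQ r → r * p = p * r) → p = 1 ∨ p = z) p hp
      (fun r hr => h.inj (by simpa using h1 _ (mem_map_of_mem φ hr))) with rfl | rfl
    exacts [.inl (map_one φ), .inr rfl]
  comm := by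
    rintro _ ⟨p, hp, rfl⟩ _ ⟨r, hr, rfl⟩
    simpa only [← map_mul] using ((by decide +kernel : ∀ p, InQ p → ∀ r, InQ r →
      p * r = r * p ∨ p * r = z * (r * p)) p hp r hr).imp (congrArg φ) (congrArg φ)
  nonab := ⟨_, mem_map_of_mem φ (show InQ x12 by decide +kernel), _,
    mem_map_of_mem φ (show InQ x25 by decide +kernel), fun e =>
      absurd (h.inj (by simpa using e : φ (x12 * x25) = φ (x25 * x12))) (by decide +kernel)⟩

/-- a subgroup of the Sylow subgroup which is as large as possible -/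
theorem SL.syl_of (h : SL φ) {S : Subgroup TL} {N : Subgroup G} (h1 : S.map φ ≤ N)
    (h2 : ∀ k, (∀ s ∈ S, ∃ t, Cm φ k s t) →
      Nat.card {t // k⁻¹ * φ t * k ∈ N} ≤ Nat.card S) : IsSylowIn 2 (S.map φ) N := by
  obtain ⟨P, hP, h3⟩ := exists_isSylowIn_ge (h.syl.pgroup.to_le (map_le_range φ S)) h1
  obtain ⟨k, -, h4⟩ := h.syl.exists_cj_le hP.pgroup le_top
  refine hP.of_card_le (h.syl.pgroup.to_le (map_le_range φ S)) h1 ?_
  rw [card_map_of_injective h.inj]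
  refine le_trans ?_ (h2 k fun s hs => cj_le_iff.1 h4 _ (h3 (mem_map_of_mem φ hs)))
  choose f hf using cj_le_iff.1 h4
  exact Nat.card_le_card_of_injective (fun a : P => ⟨f a a.2, by
    simpa [hf, mul_assoc] using hP.le a.2⟩) fun a b e => Subtype.ext (by
      simpa [hf] using congrArg (fun t => φ t.1) e)

/-- `z` is central and `O(G) = 1` -/
structure HC (φ : TL →* G) : Prop extends SL φ where
  cen : ∀ g, Cm φ g z z
  core : pPrimeCore 2 G = ⊥

namespace HC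

variable (h : HC φ)
include h

theorem tw : HC (φ.comp γ) := ⟨h.toSL.tw, fun g => by
  simpa only [Cm, MonoidHom.comp_apply, γ_z] using h.cen g, h.core⟩

theorem normal : (Q.map φ).Normal := by
  obtain ⟨P⟩ : Nonempty (Sylow 2 M24) := inferInstance
  obtain ⟨e⟩ := equiv_M24 P
  refine L5.s3170 Gold.all.inp h.core h.syl.toSylowTop P
    ⟨(MonoidHom.ofInjective h.inj).symm.trans e⟩ ?_ _ (map_le_range ..)
    ((normal_subgroupOf_iff_le_normalizer (map_le_range ..)).2 (grange_le fun t => gnorm (Q_conj t)))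
    h.es.isExtraspecial ((card_map_of_injective h.inj).trans card_Q)
  rintro _ ⟨x, rfl⟩ hx
  have h1 : ∀ t, x * t = t * x := fun t => h.inj (by simpa using hx _ ⟨t, rfl⟩)
  rcases center_eq x (h1 _) (h1 _) (h1 _) (h1 _) with rfl | rfl
  exacts [map_one φ ▸ one_mem _, mem_center_iff.2 fun g => mem_Cx.1 (cm_fix.1 (h.cen g))]

theorem pre : Pre (Q.map φ) (φ z) := by
  have := h.normal
  refine ⟨h.es, fun g hg => ?_, fun g _ x hx => this.conj_mem x hx g⟩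
  have hS := syl_cent h.inj h.syl (X := Q) (Y := zpowers z) Q_conj fun s => by
    rw [ExtraTwo.mem_zpowers_iff_of_mul_self zz]
    exact (by decide +kernel : ∀ s, s = 1 ∨ s = z ↔ ∀ p, InQ p → p * s = s * p) s
  rw [MonoidHom.map_zpowers] at hS
  refine (ExtraTwo.mem_zpowers_iff_of_mul_self zz').1 (le_of_npc (npc_of_burnside hS fun n _ _ x hx => ?_)
    hS ?_ le_rfl hg)
  · obtain ⟨i, rfl⟩ := hx
    exact (Commute.zpow_right (mem_Cx.1 (cm_fix.1 (h.cen n))) i).eq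
  · exact (opOf_le_pPrimeCore (Normal.isSubnormal inferInstance)).trans (h.core ▸ bot_le)

theorem cent (hg : ∀ r ∈ [x12, x13, x14, x25, x35, x45], Cm φ g r r) : g * g = 1 := by
  rcases h.pre.cent g (by
    rintro _ ⟨q, hq, rfl⟩
    exact (mem_Cx.1 (cm_fix.1 (fix_sp hg ((by decide +kernel : ∀ q, InQ q →
      bit (sp [x12, x13, x14, x25, x35, x45] 6) q.v = true) q hq)))).symm) with rfl | rfl
  exacts [one_mul 1, zz']

theorem imgQ (g : G) (hx : InQ x) : ∃ y, InQ y ∧ Cm φ g x y := h.normal.conj_mem _ ⟨x, hx, rfl⟩ g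

theorem Q_iff (e : Cm φ g x y) : InQ y ↔ InQ x := by
  have : ∀ {g x y}, Cm φ g x y → InQ x → InQ y := fun {g x y} e hx =>
    let ⟨_, h1, e1⟩ := h.imgQ g hx; (e1.eq_iff h.inj e).2 rfl ▸ h1
  exact ⟨this e.symm, this e⟩

theorem md (e : Cm φ g x y) (e' : Cm φ g u v) : Md y v ↔ Md x u :=
  or_congr (e'.eq_iff h.inj e) (e'.eq_iff h.inj (e.mul (h.cen g)))

theorem exists_md (e : Cm φ g x y) (hu : Md x u) : ∃ v, Md y v ∧ Cm φ g u v := by
  rcases hu with rfl | rfl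
  exacts [⟨_, .inl rfl, e⟩, ⟨_, .inr rfl, e.mul (h.cen g)⟩]

theorem ext (e : Cm φ k x y) (h1 : y * y = 1) (h2 : ¬ Md 1 y)
    (h3 : 512 ≤ cnt fun r => r * y = y * r) :
    ∃ g, Cm φ g x y ∧ ∀ r, r * x = x * r → ∃ t, Cm φ g r t := by
  have hS := φ.range_eq_map ▸ h.syl
  have hc : ∀ r : TL, Nat.card (⊤ ⊓ Cx r : Subgroup TL) = cnt fun a => a * r = r * a := fun r =>
    card_subgroup _ _ fun a => by simp [mem_Cx]
  obtain ⟨g, -, e1, h4⟩ := ext_in h.inj hS (syl_max h.inj hS (mem_top y) fun k _ r _ e1 => by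
    rw [hc, hc]
    exact ((by decide +kernel : ∀ r : TL, r * r = 1 → ¬ Md 1 r → (cnt fun a => a * r = r * a) ≤ 512) r
      ((e1.sq h.inj).2 h1) ((h.md Cm.one e1).not.2 h2)).trans h3) (mem_top _) e
  exact ⟨g, e1, fun r hr => let ⟨t, _, e⟩ := h4 r (mem_top r) hr; ⟨t, e⟩⟩

theorem not_t0 (e : Cm φ g x y) (hx : x = x14 ∨ x = x25) : ¬ Md t0 y := fun hy => by
  obtain ⟨h1, h2, h3, h4⟩ := (by decide +kernel : ∀ x, x = x14 ∨ x = x25 → x * x = 1 ∧ ¬ Md 1 x ∧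
    (512 ≤ cnt fun r => r * x = x * r) ∧ ∀ r, r * x = x * r → r * r * (r * r) = 1) x hx
  obtain ⟨k, e1, h5⟩ := h.ext e.symm h1 h2 h3
  have h6 : x12 * x23 * x34 * x45 * y = y * (x12 * x23 * x34 * x45) := by
    rcases hy with rfl | rfl <;> decide +kernel
  obtain ⟨t, e2⟩ := h5 _ h6
  exact absurd (((e2.mul e2).sq h.inj).1 (h4 t ((e2.comm h.inj e1).2 h6))) (by decide +kernel)

theorem cen_odd (ho : Odd (orderOf g)) (e : Cm φ g x24 y) (hy : co y = 16) : g = 1 := by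
  have hz := h.cen g
  obtain ⟨a, ha, e1⟩ := h.imgQ g (x := x12) (by decide +kernel)
  obtain ⟨d, hd, e2⟩ := h.imgQ g (x := x45) (by decide +kernel)
  have h1 := (by decide +kernel : ∀ y, co y = 16 → ∀ a, InQ a → In 1016 (a * y * a⁻¹ * y⁻¹)) y hy
  have e3 := (by decide +kernel : x12 * x24 * x12⁻¹ * x24⁻¹ = x14) ▸ ((e1.mul e).mul e1.inv).mul e.inv
  have e4 := (by decide +kernel : x45 * x24 * x45⁻¹ * x24⁻¹ = x25) ▸ ((e2.mul e).mul e2.inv).mul e.inv
  have hm : ∀ {u}, Md 1 u → Cm φ g u u := by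
    rintro _ (rfl | rfl)
    exacts [Cm.one, Cm.one.mul hz]
  have h2 : ∀ u, In 1016 u → ∀ v, In 1016 v → u * v * (u * v) = 1 := by decide +kernel
  obtain ⟨e5, e6⟩ : Cm φ g x14 x14 ∧ Cm φ g x25 x25 := by
    have h3 : ∀ u, Md 1 u → ∀ v, Md 1 v → u * u = 1 ∧ u * v * (u * v) = 1 := by decide +kernel
    rcases (by decide +kernel : ∀ p, In 1016 p → ¬ Md 1 p → ¬ Md t0 p → ∀ q, In 1016 q → ¬ Md 1 q →
        ¬ Md t0 q → ¬ Md p q → Md 1 (x14⁻¹ * p) ∧ Md 1 (x25⁻¹ * q) ∨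
          Md 1 (x25⁻¹ * p) ∧ Md 1 (x14⁻¹ * q)) _ (h1 a ha)
      ((h.md Cm.one e3).not.2 (by decide +kernel)) (h.not_t0 e3 (.inl rfl)) _ (h1 d hd)
      ((h.md Cm.one e4).not.2 (by decide +kernel)) (h.not_t0 e4 (.inr rfl))
      ((h.md e3 e4).not.2 (by decide +kernel)) with ⟨p, q⟩ | ⟨p, q⟩
    · exact ⟨fixm ho (hm p) (h3 _ p _ p).1 (by rwa [mul_inv_cancel_left]),
        fixm ho (hm q) (h3 _ q _ q).1 (by rwa [mul_inv_cancel_left])⟩
    · exact ⟨nswap ho (hm p) (hm q) (h3 _ q _ p).2 (by rwa [mul_inv_cancel_left])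
        (by rwa [mul_inv_cancel_left]), nswap ho (hm q) (hm p) (h3 _ p _ q).2
        (by rwa [mul_inv_cancel_left]) (by rwa [mul_inv_cancel_left])⟩
  have hZ : ∀ {u}, In 1016 u → Cm φ g u u := fun {u} hu => fix_sp (gs := [z, x14, x25])
    (by simp only [List.forall_mem_cons]; exact ⟨hz, e5, e6, by simp⟩)
    ((by decide +kernel : ∀ u, In 1016 u → bit (sp [z, x14, x25] 6) u.v = true) u hu)
  have h3 : ∀ u, In 1016 u → u * u = 1 := by decide +kernel
  obtain ⟨r, hr, e7⟩ := h.imgQ g (x := x13) (by decide +kernel)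
  obtain ⟨s, hs, e8⟩ := h.imgQ g (x := x35) (by decide +kernel)
  obtain ⟨e9, e10⟩ : Cm φ g x13 x13 ∧ Cm φ g x35 x35 := by
    rcases (by decide +kernel : ∀ r, InQ r → r * r = 1 → r * x14 = x14 * r → r * x25 = x25 * r →
        ∀ s, InQ s → s * s = 1 → s * x14 = x14 * s → s * x25 = x25 * s → r * s ≠ s * r →
          In 1016 (x13⁻¹ * r) ∧ In 1016 (x35⁻¹ * s) ∨ In 1016 (x35⁻¹ * r) ∧ In 1016 (x13⁻¹ * s))
      r hr ((e7.sq h.inj).2 (by decide +kernel)) ((e7.comm h.inj e5).2 (by decide +kernel))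
      ((e7.comm h.inj e6).2 (by decide +kernel)) s hs ((e8.sq h.inj).2 (by decide +kernel))
      ((e8.comm h.inj e5).2 (by decide +kernel)) ((e8.comm h.inj e6).2 (by decide +kernel))
      ((e7.comm h.inj e8).not.2 (by decide +kernel)) with ⟨p, q⟩ | ⟨p, q⟩
    · exact ⟨fixm ho (hZ p) (h3 _ p) (by rwa [mul_inv_cancel_left]),
        fixm ho (hZ q) (h3 _ q) (by rwa [mul_inv_cancel_left])⟩
    · exact ⟨nswap ho (hZ p) (hZ q) (h2 _ q _ p) (by rwa [mul_inv_cancel_left])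
        (by rwa [mul_inv_cancel_left]), nswap ho (hZ q) (hZ p) (h2 _ p _ q)
        (by rwa [mul_inv_cancel_left]) (by rwa [mul_inv_cancel_left])⟩
  have h4 : ∀ {x a}, x = x12 ∨ x = x45 → InQ a → Cm φ g x a → Cm φ g x x := fun {x a} hx ha e => by
    have p := (by decide +kernel : ∀ x, x = x12 ∨ x = x45 → ∀ a, InQ a →
      (a * x14 = x14 * a ↔ x * x14 = x14 * x) → (a * x25 = x25 * a ↔ x * x25 = x25 * x) →
      (a * x13 = x13 * a ↔ x * x13 = x13 * x) → (a * x35 = x35 * a ↔ x * x35 = x35 * x) →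
      In 1016 (x⁻¹ * a)) x hx a ha (e.comm h.inj e5) (e.comm h.inj e6) (e.comm h.inj e9)
      (e.comm h.inj e10)
    exact fixm ho (hZ p) (h3 _ p) (by rwa [mul_inv_cancel_left])
  have h5 := h.cent (g := g) (by
    simp only [List.forall_mem_cons]
    exact ⟨h4 (.inl rfl) ha e1, e9, e5, e6, e10, h4 (.inr rfl) hd e2, by simp⟩)
  exact orderOf_eq_one_iff.1 (Nat.eq_one_of_dvd_coprimes (Nat.coprime_two_left.2 ho)
    (orderOf_dvd_of_pow_eq_one (by rw [sq, h5])) dvd_rfl)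

/-- the stabiliser of the coset of `x` -/
noncomputable def St (h : HC φ) (x : TL) : Subgroup G := Held.subOf
  { carrier := {g | ∃ y, co y = co x ∧ Cm φ g x y}
    one_mem' := ⟨x, rfl, Cm.refl x⟩
    mul_mem' := fun {a _} ⟨s, h1, e⟩ ⟨t, h2, e'⟩ =>
      let ⟨q, h3, e1⟩ := h.imgQ a (co_iff.2 h2.symm)
      ⟨s * q, (co_mul q h3 s).trans h1, e'.trans (by simpa using e.mul e1)⟩ }

theorem img_co (e : Cm φ g x y) (hu : co u = co x) : ∃ v, co v = co y ∧ Cm φ g u v :=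
  let ⟨q, h3, e1⟩ := h.imgQ g (co_iff.2 hu.symm)
  ⟨y * q, co_mul q h3 y, by simpa using e.mul e1⟩

theorem mem_St (e : Cm φ g u v) (hu : co u = co x) (hv : co v = co x) : g ∈ h.St x :=
  let ⟨s, h1, e1⟩ := h.img_co e hu.symm; ⟨s, h1.trans hv, e1⟩

theorem cen_t (hg : g ∈ h.St x24) : g ∈ φ.range := by
  refine (h.syl.eq_of_le (Q := h.St x24) (fun g => ?_) (grange_le fun s =>
    ⟨_, (by decide +kernel : ∀ s, co (s * x24 * s⁻¹) = co x24) s, Cm.self s _⟩) le_top).le hg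
  obtain ⟨k, m, hm, e⟩ := Nat.exists_eq_two_pow_mul_odd (orderOf_pos g).ne'
  obtain ⟨y, hy, e1⟩ := (g ^ 2 ^ k).2
  exact ⟨k, Subtype.ext (h.cen_odd (hm.of_dvd_nat (by
    rw [orderOf_coe, orderOf_dvd_iff_pow_eq_one, ← pow_mul, ← e, pow_orderOf_eq_one])) e1 hy)⟩

theorem norm_T (hg : ∀ r, ∃ t, Cm φ g r t) : g ∈ φ.range := by
  obtain ⟨s, e⟩ := hg (x23 * x34)
  have e1 := (by decide +kernel : x23 * x34 * (x23 * x34) = x24) ▸ e.mul e
  exact h.cen_t ⟨_, (by decide +kernel : ∀ s, ¬ InQ (s * s) → co (s * s) = co x24) s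
    ((h.Q_iff e1).not.2 (by decide +kernel)), e1⟩

theorem mem_Cz : g ∈ Cz (φ x) (φ z) ↔ ∃ y, Md x y ∧ Cm φ g x y := by
  rw [W2.mem_Cz zz', and_iff_right (cm_fix.1 (h.cen g))]
  refine ⟨?_, ?_⟩
  · rintro (e | e)
    exacts [⟨x, .inl rfl, e.symm⟩, ⟨x * z, .inr rfl, by rw [Cm, e, map_mul]⟩]
  · rintro ⟨_, rfl | rfl, e⟩
    exacts [.inl (Eq.symm e), .inr (by rw [← map_mul]; exact Eq.symm e)]

theorem conj_Cz (e : Cm φ g x y) (hk : k ∈ Cz (φ x) (φ z)) : g * k * g⁻¹ ∈ Cz (φ y) (φ z) :=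
  let ⟨_, h1, e1⟩ := h.mem_Cz.1 hk
  let ⟨v, h2, e2⟩ := h.exists_md e h1
  h.mem_Cz.2 ⟨v, h2, mul_assoc g k _ ▸ (e.symm.trans e1).trans e2⟩

theorem not_conj (e : Cm φ g x y) (hx : Md x25 x) : ¬ Md x14 y := fun hy => by
  have h1 : ∀ x, Md x25 x ∨ Md x14 x → φ.range ≤ Cz (φ x) (φ z) := fun x hx => grange_le fun s =>
    h.mem_Cz.2 ⟨_, (by decide +kernel : ∀ x, Md x25 x ∨ Md x14 x → ∀ s, Md x (s * x * s⁻¹)) x hx s,
      Cm.self s x⟩
  obtain ⟨c, hc, h2⟩ := ext_sub (h.syl.of_le (h1 y (.inr hy)) le_top) le_rfl h.syl.pgroup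
    fun a ha => h.conj_Cz e (h1 x (.inl hx) ha)
  obtain ⟨s, hs⟩ := h.norm_T fun r => let ⟨t, _, e⟩ := h2 r ⟨r, rfl⟩; ⟨t, e⟩
  obtain ⟨y', h3, e1⟩ := h.mem_Cz.1 hc
  have e2 := e.trans e1
  rw [← hs] at e2
  rw [(e2.eq_iff h.inj (Cm.self s x)).2 rfl] at h3
  exact (by decide +kernel : ∀ x, Md x25 x → ∀ y, Md x14 y → ∀ s, ¬ Md y (s * x * s⁻¹)) x hx y hy s h3

end HC

/-- the map to `C(z) / O(C(z))` -/
noncomputable abbrev bar (φ : TL →* G) : TL →* Cx (φ z) ⧸ pPrimeCore 2 (Cx (φ z)) :=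
  (QuotientGroup.mk' _).comp (res φ mem_H)

theorem cm_bar (e1 : Cm φ g z z) (e : Cm φ g x y) :
    Cm (bar φ) (QuotientGroup.mk' _ ⟨g, cm_fix.1 e1⟩) x y := TJ.cm_map _ (cm_res.2 e)

/-- a character -/
noncomputable def χ : TL →* Multiplicative (ZMod 2) :=
  homOf gen4 (fun x => if In 128 x then 1 else .ofAdd 1) (by decide +kernel) (by decide +kernel)

namespace SL

variable (h : SL φ)
include h

theorem hc : HC (bar φ) := by
  refine ⟨(h.res_top mem_H).map (QuotientGroup.mk'_surjective _) ?_, fun g => ?_,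
    Core.pPrimeCore_quotient_pPrimeCore 2 _⟩
  · rw [QuotientGroup.ker_mk']
    exact Nat.coprime_two_right.1 (Core.coprime_card_pPrimeCore 2 _)
  · obtain ⟨g, rfl⟩ := QuotientGroup.mk'_surjective _ g
    exact cm_bar (cm_fix.2 g.2) (cm_fix.2 g.2)

theorem not_t0 : ¬ Cm φ g t0 z := fun e => by
  obtain ⟨g, e, h1⟩ := h.extz e
  obtain ⟨u, e1⟩ := h1 (x12 * x23 * x34 * x45) (by decide +kernel)
  have e2 : Cm φ g z (u * u * (u * u)) := by
    convert (e1.mul e1).mul (e1.mul e1) using 1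
    decide +kernel
  rcases (by decide +kernel : ∀ u : TL, u * u * (u * u) = 1 ∨ u * u * (u * u) = z) u with h2 | h2
  · exact z_ne ((e2.ne_one h.inj).1 h2)
  · exact absurd ((e2.eq_iff h.inj e).1 h2) (by decide +kernel)

theorem img_z (e : Cm φ g z y) (h1 : ∃ t, Cm φ g (x13 * x34) t) (h2 : ∃ t, Cm φ g x45 t) :
    y = z ∨ Md x14 y ∨ Md x25 y := by
  obtain ⟨s, e1⟩ := h1
  obtain ⟨w, e2⟩ := h2
  have h3 := (by decide +kernel : ∀ p, In 928 p → ∀ w, In 1016 (p * w * p⁻¹ * w⁻¹)) _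
    ((by decide +kernel : ∀ s, In 928 (s * s)) s) w
  rw [((((e1.mul e1).mul e2).mul (e1.mul e1).inv).mul e2.inv).eq_iff h.inj e |>.2
    (by decide +kernel)] at h3
  refine ((by decide +kernel : ∀ y, In 1016 y → y ≠ 1 → (∃ t, t * t0 * t⁻¹ = y) ∨
    y = z ∨ Md x14 y ∨ Md x25 y) y h3 ((e.ne_one h.inj).not.2 z_ne)).resolve_left fun ⟨t, e3⟩ => ?_
  exact h.not_t0 ((Cm.of_eq e3).trans e.symm)

theorem thompson (hG : ∀ M : Subgroup G, M.index ≠ 2) :
    ∃ g y, Cm φ g z z ∧ Cm φ g x12 y ∧ In 128 y := by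
  obtain ⟨g, v, e, hv, h1⟩ := thompson_T h.syl h.inj hG χ (p₀ := x12) (by decide +kernel) (u := x12)
    (by decide +kernel)
  replace hv : In 128 v := by
    by_contra h2
    exact absurd ((if_neg h2).symm.trans hv) (by decide)
  obtain ⟨y, e1⟩ := h1 z (zc _).symm
  have vv := (e.sq h.inj).2 (by decide +kernel)
  have vy := (e.comm h.inj e1).2 (zc _)
  obtain rfl | h2 := h.img_z e1 (h1 _ (by decide +kernel)) (h1 _ (by decide +kernel))
  · exact ⟨g, v, e1, e, hv⟩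
  obtain ⟨n, e2, h3⟩ := h.extz e1.symm
  obtain ⟨w, e3⟩ := h3 v vy
  refine ⟨_, w, e1.trans e2, e.trans e3, ?_⟩
  rcases h2 with h2 | h2
  · obtain ⟨hA, hB, h4⟩ := (by decide +kernel : ∀ y, Md x14 y → InA y ∧ InB y ∧
      ∀ v : TL, v * v = 1 → In 128 v → v * y = y * v → InA v ∨ InB v) y h2
    refine (by decide +kernel : ∀ w, InA w ∨ InB w → In 128 w) w ?_
    rcases h4 v vv hv vy with h4 | h4
    · exact h.img_big (P := InA) (by decide +kernel)
        (fun r hr => ⟨A_sq r hr, A_comm r hr v h4, h3 r (A_comm r hr y hA)⟩) vv e3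
    · exact h.img_big (P := InB) (by decide +kernel)
        (fun r hr => ⟨B_sq r hr, B_comm r hr v h4, h3 r (B_comm r hr y hB)⟩) vv e3
  obtain ⟨h4, h5, h6, h7⟩ := (by decide +kernel : ∀ y, Md x25 y → x13 * x34 * y = y * (x13 * x34) ∧
    x45 * y = y * x45 ∧ y ≠ z ∧ x12 * (y * z) * x12⁻¹ = y) y h2
  obtain ⟨y', e4⟩ := h3 z (zc y).symm
  rcases h.img_z e4 (h3 _ h4) (h3 _ h5) with rfl | h8 | h8
  · exact absurd ((e2.eq_iff h.inj e4).1 rfl) h6
  · obtain ⟨h9, h10, h11⟩ := (by decide +kernel : ∀ y, Md x14 y → x45 * y * x45⁻¹ = z * y ∧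
      Md x14 (z * y) ∧ z * y * y = z) y' h8
    have e5 := ((e2.mul e4).symm.trans (Cm.of_eq h7)).trans e2
    have e6 := e5.mul ((e4.symm.trans (cm_z x12)).trans e4)
    rw [h11] at e6
    exact absurd h10 (h.hc.not_conj (cm_bar ((e4.trans (Cm.of_eq h9)).trans e5)
      ((e2.trans (cm_z x45)).trans e6)) h2)
  · exact (by decide +kernel : ∀ y, Md x25 y → ∀ w, w * y = y * w → In 128 w) y' h8 w
      ((e3.comm h.inj e4).2 (zc v))

end SL

end CfsgLib.SylT.TL
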