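import Cfsg.Agent.Lib.SylT.L5e
import Cfsg.Agent.Lib.D8Cent.Main
import Cfsg.Agent.S0495
import Cfsg.Agent.S0255

/-!
# Sylow 2-subgroup of type `L₅(2)`: the centraliser of the central involution modulo its core
-/

set_option autoImplicit false
set_option Elab.async false
set_option linter.unusedSectionVars false
set_option synthInstance.maxSize 100000
set_option maxRecDepth 100000

namespace CfsgLib.SylT.TL

open Subgroup Cfsg CfsgLib.Tech CfsgLib.PComp CfsgLib.W2 Function TG CfsgLib.LargeExtra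

variable {G : Type*} [Group G] [Finite G] {φ : TL →* G} {g k : G} {x y u v : TL}

/-- `Q ⟨x₂₄, x₃₄⟩` -/
noncomputable def U : Subgroup TL := sm 32 [x12, x13, x24, x34, x45] (by decide +kernel)
/-- `Q ⟨x₃₄⟩` -/
noncomputable def R : Subgroup TL := sm 48 [x12, x13, x25, x34, x45] (by decide +kernel)

/-- `Q ⟨x₂₄, x₂₃⟩` -/
noncomputable def U' : Subgroup TL := sm 512 [x12, x35, x24, x23, x45] (by decide +kernel)

theorem U'_conj : ∀ c, ∀ x ∈ U', c * x * c⁻¹ ∈ U' := conj_of_gen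
  (by decide +kernel : ∀ g ∈ [x12, x23, x34, x45], ∀ x, In 512 x → In 512 (g * x * g⁻¹))

theorem card_le_cnt {P P' : TL → Prop} [DecidablePred P'] (h : ∀ t, P t → P' t) :
    Nat.card {t // P t} ≤ cnt P' :=
  card_subtype P' ▸ Nat.card_le_card_of_injective _ (Subtype.impEmbedding P P' h).injective

/-- the involutions in `x₁₂ ⟨x₁₄, x₃₅, z⟩ ∪ x₂₅ ⟨x₁₄, x₃₅, z⟩` -/
abbrev Om (x : TL) : Prop := In 824 x ∧ x * x = 1 ∧ ¬ In 132 x

theorem om_comm : ∀ p, Om p → ∀ q, Om q → (p * q = q * p ↔ (In 128 p ↔ In 128 q)) := by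
  decide +kernel

/-- the action on `Q` of the conjugate of `x₂₄` which belongs to `u`, `w` -/
noncomputable def sg (u w v : TL) : TL :=
  v * (if v * w = w * v then 1 else u) * (if v * u = u * v then 1 else w) *
    if v * w = w * v ∨ v * u = u * v then 1 else z

/-- the action of the product with `x₂₄` -/
noncomputable def sg' (u w v : TL) : TL := MOrb.frc v.v fun n => x24 * sg u w (o n) * x24⁻¹

/-- generators of `Q` -/
noncomputable def gq (i : ℕ) : TL := [x12, x45, x13, x35, x14, x25].getD i 1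

theorem sg_five : ∀ u, InQ u → u * u = 1 → ¬ Md 1 u → ∀ w, InQ w → w * w = 1 → ¬ Md 1 w →
    u * w = w * u → ¬ Md u w → (∀ i < 6, Md (gq i) ((sg' u w)^[5] (gq i))) →
      ∀ i < 6, Md (gq i) (sg' u w (gq i)) := by decide +kernel

namespace HC

variable (h : HC φ)
include h

theorem conj_St (e : Cm φ g x y) (hk : k ∈ h.St x) : g * k * g⁻¹ ∈ h.St y :=
  let ⟨_, h1, e1⟩ := hk
  let ⟨v, h2, e2⟩ := h.img_co e h1
  ⟨v, h2, mul_assoc g k _ ▸ (e.symm.trans e1).trans e2⟩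

theorem om (hg : g ∈ h.St x34) (hx : Om x) : ∃ y, Om y ∧ Cm φ g x y := by
  obtain ⟨b, hb, e⟩ := hg
  have h1 : ∀ x, In 824 x → ∃ y, InQ y ∧ In 824 y ∧ Cm φ g x y := fun x hx => by
    obtain ⟨h1, h2⟩ := (by decide +kernel : ∀ x, In 824 x → InQ x ∧ Md x (x34 * x * x34⁻¹)) x hx
    obtain ⟨y, hy, e1⟩ := h.imgQ g h1
    exact ⟨y, hy, (by decide +kernel : ∀ b, co b = co x34 → ∀ y, InQ y → Md y (b * y * b⁻¹) →
      In 824 y) b hb y hy ((h.md e1 ((e.mul e1).mul e.inv)).2 h2), e1⟩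
  obtain ⟨y, h2, h3, e1⟩ := h1 x hx.1
  obtain ⟨q, h4, h5⟩ := (by decide +kernel : ∀ x, Om x → ∃ q, In 824 q ∧ x * q ≠ q * x) x hx
  obtain ⟨r, h6, h7, e2⟩ := h1 q h4
  exact ⟨y, ⟨h3, (e1.sq h.inj).2 hx.2.1, fun h8 => h5 ((e1.comm h.inj e2).1
    ((by decide +kernel : ∀ y, InQ y → In 824 y → In 132 y → ∀ r, InQ r → In 824 r →
      y * r = r * y) y h2 h3 h8 r h6 h7))⟩, e1⟩

theorem five (h5 : (φ x24 * (g * φ x24 * g⁻¹)) ^ 5 ∈ Q.map φ) :
    φ x24 * (g * φ x24 * g⁻¹) ∈ Q.map φ := by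
  obtain ⟨u, hu, e1⟩ := h.imgQ g (x := x14) (by decide +kernel)
  obtain ⟨w, hw, e2⟩ := h.imgQ g (x := x25) (by decide +kernel)
  have h1 : ∀ v, InQ v → Cm φ (φ x24 * (g * φ x24 * g⁻¹)) v (sg' u w v) := fun v hv => by
    obtain ⟨p, hp, e⟩ := h.imgQ g⁻¹ hv
    have e3 : Cm φ g p v := inv_inv g ▸ e.symm
    have e4 : Cm φ g (sg x14 x25 p) (sg u w v) := by
      simp only [sg, e3.comm h.inj e1, e3.comm h.inj e2]
      refine ((e3.mul ?_).mul ?_).mul ?_ <;> split_ifs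
      exacts [Cm.one, e1, Cm.one, e2, Cm.one, h.cen g]
    rw [sg', MOrb.frc_eq, o_v, mul_assoc g]
    exact ((e.trans (Cm.of_eq ((by decide +kernel : ∀ p, InQ p → x24 * p * x24⁻¹ = sg x14 x25 p)
      p hp))).trans e4).trans (Cm.self x24 _)
  generalize φ x24 * (g * φ x24 * g⁻¹) = m at h1 h5 ⊢
  have h2 : ∀ n v, InQ v → Cm φ (m ^ n) v ((sg' u w)^[n] v) := fun n v hv => by
    induction n with
    | zero => exact pow_zero m ▸ Cm.refl v
    | succ n ih => rw [pow_succ', iterate_succ_apply']; exact ih.trans (h1 _ ((h.Q_iff ih).2 hv))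
  have h3 : ∀ i < 6, InQ (gq i) := by decide +kernel
  obtain ⟨q, hq, e⟩ := id h5
  have h4 := sg_five u hu ((e1.sq h.inj).2 (by decide +kernel))
    ((h.md Cm.one e1).not.2 (by decide +kernel)) w hw ((e2.sq h.inj).2 (by decide +kernel))
    ((h.md Cm.one e2).not.2 (by decide +kernel)) ((e1.comm h.inj e2).2 (by decide +kernel))
    ((h.md e1 e2).not.2 (by decide +kernel)) fun v hv => by
      rw [((h2 5 _ (h3 v hv)).eq_iff h.inj (e ▸ Cm.self q _)).2 rfl]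
      exact (by decide +kernel : ∀ q, InQ q → ∀ v, InQ v → Md v (q * v * q⁻¹)) q hq _ (h3 v hv)
  have h6 := h.cent (g := m * m) fun v hv => by
    obtain ⟨i, hi, rfl⟩ := (by decide +kernel : ∀ v ∈ [x12, x13, x14, x25, x35, x45],
      ∃ i < 6, gq i = v) v hv
    have e3 := h1 _ (h3 i hi)
    rcases h4 i hi with e4 | e4 <;> rw [e4] at e3
    exacts [e3.trans e3, by simpa [mul_assoc, zz] using e3.trans (e3.mul (h.cen m))]
  rwa [show m ^ 5 = m * m * (m * m) * m by simp only [pow_succ, pow_zero, one_mul, mul_assoc], h6,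
    one_mul] at h5

theorem to_b (e : Cm φ g x y) (hx : co x = 512 ∨ co x = 528) :
    ∃ k v, co v = co y ∧ Cm φ k x34 v := by
  rcases hx with hx | hx
  · exact ⟨g, h.img_co e (hx ▸ by decide +kernel)⟩
  · exact ⟨_, h.img_co ((Cm.self x23 x).symm.trans e)
      ((by decide +kernel : ∀ x, co x = 528 → co x34 = co (x23 * x * x23⁻¹)) x hx)⟩

section nb

variable (nb : ∀ g y, Cm φ g x34 y → co y ≠ 16)
include nb

theorem sylU : IsSylowIn 2 (U.map φ) (h.St x34) := by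
  refine h.syl_of (gmap_le fun s hs => ⟨_, (by decide +kernel : ∀ s, In 32 s →
    co (s * x34 * s⁻¹) = co x34) s hs, Cm.self s _⟩) fun k hk => ?_
  obtain ⟨b, e⟩ := hk x34 (show In 32 x34 by decide +kernel)
  refine (card_le_cnt (P' := fun t => co (t * b * t⁻¹) = co b) fun t ht => ?_).trans
    (((by decide +kernel : ∀ b : TL, b * b = 1 → ¬ InQ b → co b ≠ 16 →
      (cnt fun t => co (t * b * t⁻¹) = co b) ≤ 512) b ((e.sq h.inj).2 (by decide +kernel))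
      ((h.Q_iff e).not.2 (by decide +kernel)) (nb _ _ e)).trans
      ((card_subgroup U (In 32) fun _ => .rfl).trans (by decide +kernel)).ge)
  obtain ⟨y, h1, e1⟩ := h.conj_St e ht
  rwa [(Cm.eq_iff (q := y) h.inj (by simpa [mul_assoc] using e1) (Cm.self t b)).2 rfl] at h1

theorem na (e : Cm φ g x34 y) : co y = 512 ∨ co y = 528 := by
  by_contra hn
  obtain ⟨c, hc, h1⟩ := ext_sub (h.sylU nb) (map_le_range ..) (g := g⁻¹) (Y := φ.range ⊓ h.St y)
    (h.syl.pgroup.to_le inf_le_left) fun a ha => h.conj_St e.symm ha.2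
  obtain ⟨r, ⟨r', hr, e0⟩, e1⟩ := h1 x24 ⟨⟨_, rfl⟩, _,
    (by decide +kernel : ∀ y, co (x24 * y * x24⁻¹) = co y) y, Cm.self _ y⟩
  obtain rfl := h.inj e0
  rcases (by decide +kernel : ∀ r : TL, r * r = 1 → In 32 r → ¬ InQ r →
    co r = co x24 ∨ co r = 512 ∨ co r = 528) r' ((e1.sq h.inj).2 (by decide +kernel)) hr
    ((h.Q_iff e1).not.2 (by decide +kernel)) with h2 | h2
  · obtain ⟨s, hs⟩ := h.cen_t ⟨_, h2, e1⟩
    obtain ⟨b, h3, e2⟩ := hc
    have e3 := e.symm.trans e2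
    rw [← hs] at e3
    rw [(e3.eq_iff h.inj (Cm.self s y)).2 rfl] at h3
    exact (by decide +kernel : ∀ y, In 512 y → co y ≠ co x34) _ (U'_conj s y
      ((by decide +kernel : ∀ y : TL, y * y = 1 → ¬ (co y = 512 ∨ co y = 528) → In 512 y) y
        ((e.sq h.inj).2 (by decide +kernel)) hn)) h3
  · obtain ⟨k, v, h3, e2⟩ := h.to_b e1.symm h2
    exact nb k v e2 h3

theorem om_fix (hg : g ∈ h.St x34) (e : Cm φ g x12 y) : Om y ∧ ¬ In 128 y := by
  have h0 : Om x12 ∧ ¬ In 128 x12 := by decide +kernel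
  let N : Subgroup G := Held.subOf
    { carrier := {g | g ∈ h.St x34 ∧ ∃ y, (Om y ∧ ¬ In 128 y) ∧ Cm φ g x12 y}
      one_mem' := ⟨one_mem _, x12, h0, Cm.refl _⟩
      mul_mem' := fun {a _} ⟨ha, s, h1, e1⟩ ⟨hb, t, h2, e2⟩ =>
        let ⟨r, h3, e3⟩ := h.om ha h2.1
        ⟨mul_mem ha hb, r, ⟨h3, fun h4 => h1.2 (((om_comm r h3 s h1.1).1 ((e3.comm h.inj e1).2
          ((om_comm t h2.1 _ h0.1).2 (iff_of_false h2.2 h0.2)))).1 h4)⟩, e2.trans e3⟩ }
  have h1 : U.map φ ≤ N := gmap_le fun s hs => ⟨(h.sylU nb).le (mem_map_of_mem φ hs), _,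
    (by decide +kernel : ∀ s, In 32 s → Om (s * x12 * s⁻¹) ∧ ¬ In 128 (s * x12 * s⁻¹)) s hs,
    Cm.self s _⟩
  by_contra hn
  obtain ⟨p, hp, e1⟩ := h.om hg h0.1
  obtain rfl := (e1.eq_iff h.inj e).2 rfl
  have h2 : N.relIndex (h.St x34) ∣ 2 := index_dvd_two_iff.2 ⟨⟨g, hg⟩, fun b => by
    obtain ⟨s, h2, e2⟩ := h.om b.2 h0.1
    obtain ⟨r, h3, e3⟩ := h.om b.2 hp
    by_cases h4 : In 128 s
    · refine .inl ⟨mul_mem b.2 hg, r, ⟨h3, fun h5 => hn ⟨hp, fun h6 => h0.2 ?_⟩⟩, e.trans e3⟩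
      exact ((om_comm p hp _ h0.1).1 ((e3.comm h.inj e2).1
        ((om_comm r h3 s h2).2 (iff_of_true h5 h4)))).1 h6
    · exact .inr ⟨b.2, s, ⟨h2, h4⟩, e2⟩⟩
  rcases (Nat.dvd_prime Nat.prime_two).1 h2 with h3 | h3
  · obtain ⟨-, s, h4, e2⟩ := relIndex_eq_one.1 h3 hg
    exact hn ((e2.eq_iff h.inj e).2 rfl ▸ h4)
  · exact (h.sylU nb).not_dvd (h3 ▸ relIndex_dvd_of_le_left _ h1)

theorem sylR : IsSylowIn 2 (R.map φ) (Cz (φ x12) (φ z)) := by
  refine h.syl_of (gmap_le fun s hs => h.mem_Cz.2 ⟨_, (by decide +kernel : ∀ s, In 48 s →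
    Md x12 (s * x12 * s⁻¹)) s hs, Cm.self s _⟩) fun k hk => ?_
  obtain ⟨b, e⟩ := hk x34 (show In 48 x34 by decide +kernel)
  obtain ⟨y, e1⟩ := hk x12 (show In 48 x12 by decide +kernel)
  refine (card_le_cnt (P' := fun t => Md y (t * y * t⁻¹)) fun t ht => ?_).trans
    (((by decide +kernel : ∀ y, (Om y ∧ ¬ In 128 y) ∨ (Om (x23 * y * x23⁻¹) ∧
      ¬ In 128 (x23 * y * x23⁻¹)) → (cnt fun t => Md y (t * y * t⁻¹)) ≤ 256) y ?_).trans
      ((card_subgroup R (In 48) fun _ => .rfl).trans (by decide +kernel)).ge)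
  · obtain ⟨y', h1, e2⟩ := h.mem_Cz.1 (h.conj_Cz e1 ht)
    rwa [(Cm.eq_iff (q := y') h.inj (by simpa [mul_assoc] using e2) (Cm.self t y)).2 rfl] at h1
  · exact (h.na nb e).imp (fun h1 => h.om_fix nb ⟨b, h1.trans (by decide +kernel), e⟩ e1)
      fun h1 => h.om_fix nb ⟨_, ((by decide +kernel : ∀ x, co x = 528 →
        co x34 = co (x23 * x * x23⁻¹)) b h1).symm, e.trans (Cm.self x23 b)⟩
        (e1.trans (Cm.self x23 y))

end nb

theorem bt (e : Cm φ k x12 y) (hy : In 128 y) : ∃ g y, Cm φ g x34 y ∧ co y = 16 := by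
  by_contra! nb
  obtain ⟨s, h1, h2, h3⟩ := (by decide +kernel : ∀ y, InQ y → In 128 y →
    ∃ s, ¬ InQ s ∧ ¬ (co s = 512 ∨ co s = 528) ∧ Md y (s * y * s⁻¹)) y
    ((h.Q_iff e).2 (by decide +kernel)) hy
  obtain ⟨c, -, h4⟩ := ext_sub (h.sylR nb) (map_le_range ..) (g := k⁻¹)
    (Y := φ.range ⊓ Cz (φ y) (φ z)) (h.syl.pgroup.to_le inf_le_left)
    fun a ha => h.conj_Cz e.symm ha.2
  obtain ⟨r, ⟨r', hr, e0⟩, e1⟩ := h4 s ⟨⟨_, rfl⟩, h.mem_Cz.2 ⟨_, h3, Cm.self s y⟩⟩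
  obtain rfl := h.inj e0
  obtain ⟨k, v, h5, e2⟩ := h.to_b e1.symm (.inl ((by decide +kernel : ∀ r, In 48 r → ¬ InQ r →
    co r = 512) r' hr ((h.Q_iff e1).not.2 h1)))
  exact h2 (h5 ▸ h.na nb e2)

theorem equiv (ha : ∃ g y, Cm φ g x23 y ∧ co y = 16) (hb : ∃ g y, Cm φ g x34 y ∧ co y = 16) :
    Nonempty (G ≃* centralizer ({Held.s0} : Set Held.SL5)) := by
  have := h.normal
  let π := QuotientGroup.mk' (Q.map φ)
  let β := π.comp φ
  have hβ : ∀ {x y}, β x = β y ↔ co x = co y := fun {x y} => by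
    rw [← co_iff, ← mem_map_iff_mem h.inj, map_mul, map_inv]; exact QuotientGroup.eq
  have hβ1 : ∀ {x}, β x = 1 ↔ co x = co 1 := by rw [← map_one β]; exact hβ
  have ht : β (x23 * x34) ^ 2 = β x24 := by rw [← map_pow]; exact hβ.2 (by decide +kernel)
  have hc : ∀ {x}, (∃ g y, Cm φ g x y ∧ co y = 16) → IsConj (β x) (β x24) := fun ⟨g, y, e, hy⟩ =>
    hβ.2 (hy.trans (by decide +kernel : 16 = co x24)) ▸ (TJ.cm_map π e).isConj
  have h3 : β (x23 * x34) ^ 2 ≠ 1 := ht ▸ hβ1.not.2 (by decide +kernel)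
  have h4 : β x34 * β (x23 * x34) * (β x34)⁻¹ = (β (x23 * x34))⁻¹ := by
    simp only [← map_inv, ← map_mul]; exact hβ.2 (by decide +kernel)
  have hD : D8Cent.IsD8 (β (x23 * x34)) (β x34) := by
    refine ⟨orderOf_eq_prime_pow (p := 2) (n := 1) h3 (by
      rw [← map_pow]; exact hβ1.2 (by decide +kernel)),
      by rw [← map_mul]; exact hβ1.2 (by decide +kernel), h4, ?_, fun g => ⟨fun hg => ?_, ?_⟩⟩
    · rintro ⟨i, hi⟩
      refine h3 (by rw [sq, mul_eq_one_iff_eq_inv, ← h4, ← hi]; group)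
    · obtain ⟨g, rfl⟩ := QuotientGroup.mk'_surjective _ g
      obtain ⟨q, hq, e⟩ : (φ x24)⁻¹ * (g * φ x24 * g⁻¹) ∈ Q.map φ :=
        QuotientGroup.eq.1 (mem_Cx'.1 (ht ▸ hg)).symm
      obtain ⟨s, rfl⟩ := h.cen_t (g := g) ⟨x24 * q, co_mul q hq _, by simp [Cm, e]⟩
      obtain ⟨i, -, h5⟩ := (by decide +kernel : ∀ s, ∃ i < 4, co s = co ((x23 * x34) ^ i) ∨
        co s = co ((x23 * x34) ^ i * x34)) s
      exact ⟨i, by simp only [zpow_natCast, ← map_pow, ← map_mul]; exact h5.imp hβ.2 hβ.2⟩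
    · have h5 : ∀ x, β x ∈ Cx (β x24) := fun x => mem_Cx'.2 (by
        simp only [← map_inv, ← map_mul]
        exact hβ.2 ((by decide +kernel : ∀ s, co (s * x24 * s⁻¹) = co x24) x))
      rw [ht]
      rintro ⟨i, rfl | rfl⟩
      exacts [zpow_mem (h5 _) i, mul_mem (zpow_mem (h5 _) i) (h5 _)]
  have hi : ∀ M : Subgroup (G ⧸ Q.map φ), M.index ≠ 2 := fun M hM => by
    have k : ∀ {a}, IsConj a (β x24) → a ∈ M := fun ha => by
      obtain ⟨c, hc⟩ := isConj_iff.1 ha.symm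
      exact hc ▸ (M.normal_of_index_eq_two hM).conj_mem _ (ht ▸ sq_mem_of_index_two hM _) c
    have hr : β (x23 * x34) ∈ M := map_mul β _ _ ▸ mul_mem (k (hc ha)) (k (hc hb))
    have h2 : centralizer {β (x23 * x34) ^ 2} ≤ M := fun g hg => by
      obtain ⟨i, rfl | rfl⟩ := (hD.mem g).1 hg
      exacts [zpow_mem hr i, mul_mem (zpow_mem hr i) (k (hc hb))]
    exact absurd (hM ▸ hD.odd_index.of_dvd_nat (index_dvd_of_le h2)) (by decide)
  rcases hD.of_no_index_two hi with ⟨h2, h5⟩ | ⟨⟨e⟩⟩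
  · have : Fact (Nat.Prime 7) := ⟨by norm_num⟩
    obtain ⟨e1⟩ := Cfsg.Agent.S0495.result h5 (F := ZMod 7) (ZMod.card 7)
    obtain ⟨e2⟩ := Cfsg.Agent.S0255.result (F := ZMod 7) (K := ZMod 2) (ZMod.card 7) (ZMod.card 2)
    obtain ⟨e3⟩ := D8Cent.nonempty_psl_three_two_equiv
    let e := (e1.trans e2).trans e3
    have hz : ∀ g, g ∈ Cx (φ z) := fun g => cm_fix.1 (h.cen g)
    have H : Held.X.Hyp (Q.map φ) (φ z) (e.toMonoidHom.comp (π.comp (Cx (φ z)).subtype)) :=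
      ⟨h.pre, (card_map_of_injective h.inj).trans card_Q, e.surjective.comp fun a =>
        let ⟨g, hg⟩ := QuotientGroup.mk'_surjective _ a; ⟨⟨g, hz g⟩, hg⟩,
        fun g => e.map_eq_one_iff.trans (QuotientGroup.eq_one_iff _)⟩
    obtain ⟨f⟩ := H.iso_of_card (y := φ x24) (mem_Cx.1 (hz _))
      (by rw [← map_mul, show x24 * x24 = 1 by decide +kernel, map_one])
      ((mem_map_iff_mem h.inj).not.2 (show ¬ InQ x24 by decide +kernel)) (by
        rw [map_inf_Cx h.inj, card_map_of_injective h.inj, card_subgroup _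
          (fun r => InQ r ∧ r * x24 = x24 * r) fun r => by rw [mem_inf, mem_Cx]; rfl]
        decide +kernel)
    exact ⟨(topEquiv.symm.trans (MulEquiv.subgroupCongr (eq_top_iff.2 fun g _ => hz g).symm)).trans f⟩
  exfalso
  have hS : IsSylowIn 2 β.range ⊤ := by
    rw [MonoidHom.range_comp]; exact CFun.sylIn_map_top h.syl (QuotientGroup.mk'_surjective _)
  have h5 : ∀ a : alternatingGroup (Fin 6), a * a = 1 → a ≠ 1 →
      ∃ c, c * β x24 * c⁻¹ = e.symm a := fun a h1 h2 => by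
    have h5 : e.symm a * e.symm a = 1 := by rw [← map_mul, h1, map_one]
    obtain ⟨c, -, s, hs⟩ := hS.exists_conj_mem (mem_top (e.symm a))
      (isPGroup_zpowers_of_pow (k := 1) (by rwa [pow_one, sq]))
    refine isConj_iff.1 (IsConj.trans ?_ (isConj_iff.2 ⟨c, hs.symm⟩).symm)
    rcases (by decide +kernel : ∀ s, co (s * s) = co 1 → co s ≠ co 1 → co s = co x24 ∨
      co s = co x23 ∨ co s = co x34 ∨ co s = co (x34 * x23 * x34⁻¹) ∨ co s = co (x23 * x34 * x23⁻¹)) s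
      (hβ1.1 (by rw [map_mul, hs, conj_mul, h5]; simp))
      (hβ1.not.1 (by simpa [hs] using h2)) with h6 | h6 | h6 | h6 | h6 <;> rw [hβ.2 h6]
    exacts [(hc ha).symm, (hc hb).symm, (hc ha).symm.trans (isConj_of_eq _ rfl),
      (hc hb).symm.trans (isConj_of_eq _ rfl)]
  let a : alternatingGroup (Fin 6) := ⟨Equiv.swap 0 1 * Equiv.swap 2 3, by simp⟩
  let b : alternatingGroup (Fin 6) := ⟨Equiv.swap 1 2 * Equiv.swap 3 4, by simp⟩
  obtain ⟨c, e1⟩ := h5 a (by decide +kernel) (by decide +kernel)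
  obtain ⟨d, e2⟩ := h5 b (by decide +kernel) (by decide +kernel)
  obtain ⟨g, e3⟩ := QuotientGroup.mk'_surjective _ (c⁻¹ * d)
  have e4 : π (φ x24 * (g * φ x24 * g⁻¹)) = c⁻¹ * e.symm (a * b) * c⁻¹⁻¹ := by
    rw [map_mul e.symm, ← e1, ← e2, map_mul, map_mul, map_mul, map_inv, e3]
    simp only [β, MonoidHom.comp_apply]; group
  have h6 := (QuotientGroup.eq_one_iff _).2 (h.five (g := g) ((QuotientGroup.eq_one_iff _).1 (by
    change π _ = 1
    rw [map_pow, e4, conj_pow, ← map_pow, show (a * b) ^ 5 = 1 by decide +kernel]; simp)))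
  exact absurd (e.symm.map_eq_one_iff.1 (conj_eq_one_iff.1 (e4.symm.trans h6))) (by decide +kernel)

end HC

theorem SL.bar_equiv (h : SL φ) (hG : ∀ M : Subgroup G, M.index ≠ 2) :
    Nonempty ((Cx (φ z) ⧸ pPrimeCore 2 (Cx (φ z))) ≃* centralizer ({Held.s0} : Set Held.SL5)) := by
  obtain ⟨g, y, e1, e2, hy⟩ := h.thompson hG
  obtain ⟨g', y', e3, e4, hy'⟩ := h.tw.thompson hG
  obtain ⟨k, v, e5, hv⟩ := h.hc.tw.bt
    (cm_tw.2 (cm_bar (by simpa only [Cm, MonoidHom.comp_apply, γ_z] using e3) (cm_tw.1 e4))) hy'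
  exact h.hc.equiv ⟨k, gm v, (by decide +kernel : gm x34 = x23) ▸ cm_tw.1 e5,
    (by decide +kernel : ∀ v, co v = 16 → co (gm v) = 16) v hv⟩ (h.hc.bt (cm_bar e1 e2) hy)

end CfsgLib.SylT.TL
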