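import Cfsg.Agent.Lib.SylT.U5a
import Cfsg.Agent.Lib.SylT.HSb
import Cfsg.Agent.Lib.Class2.GoldApp
import Cfsg.Agent.Lib.Gold.All

/-!
# Sylow 2-subgroup of type `U₅(2)`: fusion (plans/SYLTYPE.md, U5-B)
-/

set_option autoImplicit false
set_option Elab.async false
set_option linter.unusedSectionVars false
set_option synthInstance.maxSize 100000
set_option maxRecDepth 100000

namespace CfsgLib.SylT.TU

open Subgroup Cfsg CfsgLib.Tech CfsgLib.PComp CfsgLib.W2 Function TG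

variable {G : Type*} [Group G] {φ : TU →* G} {g k : G} {x r : TU}

theorem zz' : φ z * φ z = 1 := by rw [← map_mul, zz, map_one]
theorem mem_H (x : TU) : φ x ∈ Cx (φ z) := map_mem_Cx (zc x)
theorem cm_z (x : TU) : Cm φ (φ x) z z := cm_fix.2 (mem_H x)

/-- restriction to `C(z)` -/
noncomputable def res (φ : TU →* G) : TU →* Cx (φ z) := φ.codRestrict _ mem_H

theorem cm_res {g : Cx (φ z)} : Cm (res φ) g x r ↔ Cm φ g x r := Subtype.ext_iff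

/-- the characters with kernels `C_T(A) ⟨tt (i + 1)⟩` -/
noncomputable def chi (i : Fin 3) : TU →* Multiplicative (ZMod 2) :=
  homOf gen4 (fun x => if x.v / 32 % 4 = 0 ∨ x.v / 32 % 4 = i + 1 then 1 else Multiplicative.ofAdd 1)
    (by revert i; decide +kernel) (by revert i; decide +kernel)

variable [Finite G]

namespace S5

variable (h : S5 φ)
include h

theorem ord (h1 : x * x = 1) (h2 : x ≠ 1) : orderOf (φ x) = 2 := ord_map h.inj h1 h2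

theorem ncomm : ¬ IsMulCommutative G := fun hc =>
  absurd (h.inj (by simpa using hc.is_comm.comm (φ (tt 1)) (φ s) : φ (tt 1 * s) = φ (s * tt 1)))
    (by decide +kernel)

theorem res_top : S5 (res φ) := by
  refine ⟨fun _ _ e => h.inj (congrArg Subtype.val e), ?_⟩
  have h1 := h.syl.of_le (grange_le mem_H) le_top
  have := IsSylowIn.of_sylow_top h1.toSylow
  rwa [h1.coe_toSylow, show φ.range.subgroupOf _ = (res φ).range by
    ext x; exact ⟨fun ⟨p, e⟩ => ⟨p, Subtype.ext e⟩, fun ⟨p, e⟩ => ⟨p, congrArg Subtype.val e⟩⟩] at this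

theorem map {G' : Type*} [Group G'] {f : G →* G'} (hf : Surjective f)
    (ho : Odd (Nat.card f.ker)) : S5 (f.comp φ) := by
  refine ⟨inj_of fun e => ne_one_of_ord (h.ord zz z_ne) (LargeExtra.eq_one_of_odd_of_mul_self ho e zz'), ?_⟩
  rw [MonoidHom.range_comp, ← map_top_of_surjective f hf]
  exact CFun.sylIn_map h.syl f

theorem extz (e : Cm φ k x z) : ∃ g, Cm φ g x z ∧ ∀ r, r * x = x * r → ∃ t, Cm φ g r t :=
  ext_T h.syl zc e.isConj

theorem nq (hx : InQ x) (e : Cm φ g x z) : x = z := by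
  by_contra hn
  obtain ⟨a, a1, a2, b, b1, b2, ab, c, c1, c2, ac, bc⟩ := (by decide +kernel : ∀ t : TU, t * t = 1 →
    InQ t → t ≠ 1 → t ≠ z → ∃ a : TU, a * a = 1 ∧ a * t = t * a ∧ ∃ b : TU, b * b = 1 ∧
      b * t = t * b ∧ a * b * (a * b) = z ∧ ∃ c : TU, c * c = 1 ∧ c * t = t * c ∧
        a * c * (a * c) = z ∧ b * c * (b * c) = z) x ((e.sq h.inj).1 zz) hx
    (fun e1 => z_ne ((e.ne_one h.inj).2 e1)) hn
  obtain ⟨g, e, h1⟩ := h.extz e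
  have h2 : ∀ {a b a' b' : TU}, Cm φ g a a' → Cm φ g b b' → a * b * (a * b) = z →
      InA a' ∧ InA b' ∨ InQ a' ∧ InQ b' → False := fun {a b a' b'} e1 e2 e3 h2 => by
    have e4 := (e1.mul e2).mul (e1.mul e2)
    rw [e3] at e4
    have h3 : a' * b' * (a' * b') = 1 ∨ a' * b' * (a' * b') = z := h2.elim
      (fun h3 => .inl (A_sq _ (A.mul_mem h3.1 h3.2))) fun h3 => Q_sq _ (Q.mul_mem h3.1 h3.2)
    exact h3.elim (fun h3 => z_ne ((e4.ne_one h.inj).1 h3)) fun h3 => hn ((e.eq_iff h.inj e4).1 h3.symm)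
  obtain ⟨a', ea⟩ := h1 a a2
  obtain ⟨b', eb⟩ := h1 b b2
  obtain ⟨c', ec⟩ := h1 c c2
  have := h2 ea eb ab
  have := h2 ea ec ac
  have := h2 eb ec bc
  have := invol a' ((ea.sq h.inj).2 a1)
  have := invol b' ((eb.sq h.inj).2 b1)
  have := invol c' ((ec.sq h.inj).2 c1)
  tauto

/-- the conjugates of `z` in `T` are among the five points -/
theorem inP (e : Cm φ g x z) : IsP x := by
  obtain hx | hx := invol x ((e.sq h.inj).1 zz)
  swap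
  · exact h.nq hx e ▸ P_z
  obtain h1 | h1 | ⟨c, -, e1⟩ := (by decide +kernel : ∀ x : TU, InA x → InQ x ∨ IsP x ∨
    ∃ c, InQ c ∧ c * (z * s) * c⁻¹ = x) x hx
  exacts [h.nq h1 e ▸ P_z, h1, by
    obtain ⟨g, e2, h2⟩ := h.extz ((Cm.of_eq e1).trans e)
    obtain ⟨a, ea⟩ := h2 (o 8) (by decide +kernel)
    obtain ⟨b, eb⟩ := h2 (kk 2) (by decide +kernel)
    have e3 : Cm φ g z (a * a) := (by decide +kernel : (o 8 : TU) * o 8 = z) ▸ ea.mul ea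
    have e4 : b * b = z * (a * a) := ((eb.mul eb).eq_iff h.inj (e2.mul e3)).2 (by decide +kernel)
    have h3 : ¬ InQ (a * a) := fun h3 =>
      absurd ((e3.eq_iff h.inj e2).1 (h.nq h3 e3.symm)) (by decide +kernel)
    exact absurd e4 ((by decide +kernel : ∀ a : TU, a * a * (a * a) = 1 → ¬ InQ (a * a) →
      ∀ b : TU, b * b ≠ z * (a * a)) a ((e3.sq h.inj).2 zz) h3 b)]

theorem ny : ¬ IsConj (φ z) (φ y) := fun e =>
  let ⟨_, e⟩ := Cm.of_isConj e.symm; absurd (h.inP e) (by decide +kernel)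

/-- a 2-subgroup is conjugated into `T`, the conjugates of `z` go to points -/
theorem pts {P K : Subgroup G} (hT : φ.range ≤ K) (hP : IsPGroup 2 P) (hK : P ≤ K) :
    ∃ g ∈ K, ∀ d ∈ P, IsConj (φ z) d → ∃ p, IsP p ∧ φ p = g * d * g⁻¹ := by
  obtain ⟨g, hg, h1⟩ := (h.syl.of_le hT le_top).exists_cj_le hP hK
  refine ⟨g, hg, fun d hd e => ?_⟩
  obtain ⟨p, e1⟩ := cj_le_iff.1 h1 d hd
  obtain ⟨_, e2⟩ := Cm.of_isConj (e.trans (isConj_iff.2 ⟨g, e1.symm⟩)).symm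
  exact ⟨p, h.inP e2, e1⟩

theorem comm_two {P : Subgroup G} (hP : IsPGroup 2 P) {d e : G} (hd : d ∈ P) (he : e ∈ P)
    (h1 : IsConj (φ z) d) (h2 : IsConj (φ z) e) : d * e = e * d := by
  obtain ⟨g, -, h3⟩ := h.pts le_top hP le_top
  obtain ⟨p, hp, e1⟩ := h3 d hd h1
  obtain ⟨r, hr, e2⟩ := h3 e he h2
  exact mem_Cx.1 (conj_mem_Cx.1 (e1 ▸ e2 ▸ map_mem_Cx (A_comm p (P_A p hp) r (P_A r hr))))

variable [IsSimpleGroup G]

theorem idx (M : Subgroup G) : M.index ≠ 2 := fun e => by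
  rcases (normal_of_index_eq_two e).eq_bot_or_eq_top with rfl | rfl
  · have := isCyclic_of_prime_card (p := 2) (index_bot.symm.trans e)
    exact h.ncomm inferInstance
  · simp at e

theorem P_D (hx : IsP x) : IsConj (φ z) (φ x) := by
  obtain ⟨u, h1, e⟩ := zstar_T h.ncomm h.syl h.inj zz z_ne
  obtain ⟨_, e1⟩ := Cm.of_isConj e
  obtain ⟨c, -, e2⟩ := P_conj u (h.inP e1) h1
  by_cases h2 : x = z
  · exact h2 ▸ IsConj.refl _
  obtain ⟨c', -, e3⟩ := P_conj x hx h2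
  exact (e.symm.trans (isConj_of_eq c e2).symm).trans (isConj_of_eq c' e3)

theorem imgP (hx : IsP x) (e : Cm φ g x r) : IsP r :=
  let ⟨_, e1⟩ := Cm.of_isConj ((h.P_D hx).trans e.isConj).symm; h.inP e1

theorem swap' : ∃ g, Cm φ g s z ∧ ∀ p, IsP p → p ≠ s → ∃ r, IsP r ∧ r ≠ z ∧ Cm φ g p r := by
  obtain ⟨_, e⟩ := Cm.of_isConj (h.P_D P_s).symm
  obtain ⟨g, e, h1⟩ := h.extz e
  refine ⟨g, e, fun p hp hn => ?_⟩
  obtain ⟨r, e1⟩ := h1 p (A_comm p (P_A p hp) s (P_A s P_s))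
  exact ⟨r, h.imgP hp e1, fun e2 => hn ((e1.eq_iff h.inj e).1 e2), e1⟩

theorem swap : ∃ g, Cm φ g s z ∧ Cm φ g (s * y) s := by
  obtain ⟨g, e, h1⟩ := h.swap'
  obtain ⟨r, hr, h2, e1⟩ := h1 _ P_sy (by decide +kernel)
  obtain ⟨c, -, e2⟩ := P_conj r hr h2
  exact ⟨_, e.trans (cm_fix.2 ((Cx _).inv_mem (mem_H c))), e1.trans (Cm.of_eq e2).symm⟩

theorem toy_A (hx : InA x) (h2 : x ≠ 1) (h3 : ¬ IsP x) : ∃ g, Cm φ g x y := by
  obtain ⟨g, e, h1⟩ := h.swap'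
  have h4 : ∀ x, InA x → x ≠ 1 → ¬ IsP x → ∃ g, Cm φ g x (z * s) := fun x hx h2 h3 => by
    obtain ⟨p, hp, h4, c, -, e1⟩ := (by decide +kernel : ∀ x, InA x → x ≠ 1 → ¬ IsP x →
      ∃ p, IsP p ∧ p ≠ s ∧ ∃ c, InQ c ∧ c * (s * p) * c⁻¹ = x) x hx h2 h3
    obtain ⟨r, hr, h5, e2⟩ := h1 p hp h4
    obtain ⟨c', -, e3⟩ := P_conj r hr h5
    exact ⟨_, ((Cm.of_eq e1).symm.trans (e.mul e2)).trans ((cm_z c').mul (Cm.of_eq e3)).symm⟩
  obtain ⟨_, e1⟩ := h4 x hx h2 h3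
  obtain ⟨_, e2⟩ := h4 y (by decide +kernel) y_ne (by decide +kernel)
  exact ⟨_, e1.trans e2.symm⟩

theorem toy (h1 : x * x = 1) (h2 : x ≠ 1) (h3 : ¬ IsP x) : ∃ g, Cm φ g x y := by
  have h4 : ∀ {g x r}, Cm φ g x r → InA r → x ≠ 1 → ¬ IsP x → ∃ g, Cm φ g x y := fun e hr h2 h3 =>
    let ⟨_, e1⟩ := h.toy_A hr (fun e1 => h2 ((e.ne_one h.inj).1 e1)) fun e1 => h3 (h.imgP e1 e.symm)
    ⟨_, e.trans e1⟩
  obtain ⟨a, ha, g, t, e, ht⟩ : ∃ a, InA a ∧ ∃ g t, Cm φ g a t ∧ ¬ InA t := by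
    by_contra! hn
    have h6 : Gold.SC (A.map φ) ⊤ := Gold.sc_of_isSylowIn h.syl (map_le_range ..) (by
      rintro _ ⟨a, ha, rfl⟩ k - ⟨t, e⟩
      exact ⟨t, hn a ha k t e, e⟩)
    have h7 : Gold.ncl (A.map φ) ⊤ = ⊤ :=
      (Gold.ncl_top_normal (A.map φ)).eq_bot_or_eq_top.resolve_left fun e =>
        ne_one_of_ord (h.ord zz z_ne) (e.le (Gold.le_ncl _ _ ⟨z, P_A z P_z, rfl⟩))
    obtain ⟨r, hr, e⟩ := Class2.mem_of_sc Gold.all h6 ⟨⟨by
        rintro ⟨_, a, ha, rfl⟩ ⟨_, b, hb, rfl⟩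
        exact Subtype.ext (mem_Cx.1 (map_mem_Cx (A_comm a ha b hb)))⟩⟩
      (h7.symm ▸ h.syl) (map_le_range ..) (t := φ (tt 1)) ⟨_, rfl⟩
      (by rw [← map_mul, show tt 1 * tt 1 = 1 by decide +kernel, map_one])
    exact absurd (show InA (tt 1) from h.inj e ▸ hr) (by decide +kernel)
  have h5 : ∀ t : TU, t * t = 1 → InA t ∨ ∃ i : Fin 3, (∀ j, chi j t = 1 ↔ j = i) ∧
      ∃ j : Fin 8, ∃ c, InQ c ∧ kk j * c * tt (i + 1) * (kk j * c)⁻¹ = t := by decide +kernel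
  obtain ⟨i, -, j, c, -, e1⟩ := (h5 t ((e.sq h.inj).2 (A_sq a ha))).resolve_left ht
  obtain ⟨g1, v, e2, h6, -⟩ := thompson_T h.syl h.inj h.idx (chi i)
    ((by decide +kernel : ∀ i : Fin 3, chi i (tt ((i + 1) % 3 + 1)) ≠ 1) i) h1
  obtain h7 | ⟨i', h7, j', c', -, e3⟩ := h5 v ((e2.sq h.inj).2 h1)
  · exact h4 e2 h7 h2 h3
  obtain rfl := (h7 i).1 h6
  exact h4 (((e2.trans (Cm.of_eq e3).symm).trans (Cm.of_eq e1)).trans e.symm) ha h2 h3

theorem cls {t : G} (ht : orderOf t = 2) : IsConj (φ z) t ∨ IsConj (φ y) t := by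
  obtain ⟨u, h1, h2, e⟩ := exists_conj_range h.syl h.inj ht
  by_cases h3 : IsP u
  · exact .inl ((h.P_D h3).trans e.symm)
  obtain ⟨_, e1⟩ := h.toy h1 h2 h3
  exact .inr (e.trans e1.isConj).symm

end S5

end CfsgLib.SylT.TU
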