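import Cfsg.Agent.Lib.SylT.U5b
import Cfsg.Agent.Lib.SylT.L5c
import Cfsg.Agent.Lib.InvHarv.ConstrLocal
import Cfsg.Agent.Lib.Signal.App3
import Cfsg.Agent.S1296

/-!
# Sylow 2-subgroup of type `U₅(2)`: characteristic 2 type (plans/SYLTYPE.md, U5-C)
-/

set_option autoImplicit false
set_option Elab.async false
set_option linter.unusedSectionVars false
set_option synthInstance.maxSize 100000
set_option maxRecDepth 100000

namespace CfsgLib.SylT.TU

open Subgroup Cfsg CfsgLib.Tech CfsgLib.PComp CfsgLib.W2 Function TG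

variable {G : Type*} [Group G] [Finite G] {φ : TU →* G} {g k : G} {x r : TU}

/-- `z` is central and `s` is not fused into `Q` -/
structure HC (φ : TU →* G) : Prop extends S5 φ where
  cen : ∀ g, Cm φ g z z
  ns : ∀ g r, InQ r → ¬ Cm φ g s r

theorem S5.hc [IsSimpleGroup G] (h : S5 φ) : HC (res φ) :=
  ⟨h.res_top, fun g => cm_res.2 (cm_fix.2 g.2), fun g r hr e =>
    absurd (((cm_res.1 e).eq_iff h.inj (cm_fix.2 g.2)).1 (P_Q r (h.imgP P_s (cm_res.1 e)) hr))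
      (by decide +kernel)⟩

theorem HC.map (h : HC φ) {G' : Type*} [Group G'] [Finite G'] {f : G →* G'} (hf : Surjective f)
    (ho : Odd (Nat.card f.ker)) : HC (f.comp φ) :=
  ⟨h.toS5.map hf ho, fun g => let ⟨g, e⟩ := hf g; e ▸ TJ.cm_map f (h.cen g), fun g r hr e => by
    obtain ⟨g, rfl⟩ := hf g
    obtain ⟨k, -, e⟩ := cm_lift h.syl (h.toS5.map hf ho).inj ho e
    exact h.ns _ r hr e⟩

theorem HC.sc (h : HC φ) (hx : InQ x) (e : Cm φ g x r) : InQ r := by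
  by_contra hr
  rcases Q_sq x hx with h1 | h1
  · obtain ⟨c, -, e1 | e1⟩ := (by decide +kernel : ∀ r : TU, r * r = 1 → ¬ InQ r →
      ∃ c, InQ c ∧ (c * s * c⁻¹ = r ∨ c * (z * s) * c⁻¹ = r)) r ((e.sq h.inj).2 h1) hr
    · exact h.ns _ x hx ((Cm.of_eq e1).trans e.symm)
    · exact h.ns _ (z * x) (Q.mul_mem (show InQ z by decide +kernel) hx) (by
        simpa only [← mul_assoc, zz, one_mul] using (h.cen _).mul ((Cm.of_eq e1).trans e.symm))
  have h2 : ∀ r : TU, r * r = z → cnt (fun c => c * r = r * c) ≤ 128 ∧ (InQ r ∨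
    cnt (fun c => c * r = r * c) = 128 ∧ ∀ a : TU, a * a = 1 → a * r = r * a → InA a) := by
      decide +kernel
  have h3 : ∀ {g x r}, Cm φ g x r → x * x = z → r * r = z := fun e h1 =>
    ((e.mul e).eq_iff h.inj (h.cen _)).2 h1
  have h4 : ∀ r : TU, Nat.card (⊤ ⊓ Cx r : Subgroup TU) = cnt fun c => c * r = r * c := fun r =>
    card_subgroup _ _ fun c => by rw [top_inf_eq, mem_Cx]
  obtain ⟨h5, h6⟩ := (h2 r (h3 e h1)).2.resolve_left hr
  have hS : IsSylowIn 2 ((⊤ : Subgroup TU).map φ) ⊤ := MonoidHom.range_eq_map φ ▸ h.syl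
  obtain ⟨g, -, e, h7⟩ := ext_in h.inj hS (syl_max h.inj hS (mem_top r) fun k _ q _ e1 => by
    rw [h4, h4, h5]; exact (h2 q (h3 e1 (h3 e h1))).1) (mem_top g) e
  obtain ⟨a, a1, a2, b, b1, b2, ab⟩ := (by decide +kernel : ∀ x, InQ x → x * x = z → ∃ a : TU,
    a * a = 1 ∧ a * x = x * a ∧ ∃ b : TU, b * b = 1 ∧ b * x = x * b ∧ a * b ≠ b * a) x hx h1
  obtain ⟨a', -, ea⟩ := h7 a (mem_top a) a2
  obtain ⟨b', -, eb⟩ := h7 b (mem_top b) b2
  exact ab ((ea.comm h.inj eb).1 (A_comm _ (h6 _ ((ea.sq h.inj).2 a1) ((ea.comm h.inj e).2 a2)) _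
    (h6 _ ((eb.sq h.inj).2 b1) ((eb.comm h.inj e).2 b2))))

theorem Md.sq (e : Md x r) : r * r = x * x := by
  rcases e with rfl | rfl
  exacts [rfl, by rw [mul_assoc, ← mul_assoc z, ← zc, mul_assoc, zz, mul_one]]

theorem Md.comm {t : TU} (e : Md x r) : r * t = t * r ↔ x * t = t * x := by
  rcases e with rfl | rfl
  exacts [Iff.rfl, by rw [mul_assoc, ← zc, ← mul_assoc, ← mul_assoc, mul_left_inj]]

theorem qc {c : TU} (hx : InQ x) (hr : InQ r) (hc : InQ c) (e : r * c = c * r ↔ x⁻¹ * c = c * x⁻¹) :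
    x * r * c = c * (x * r) := by
  have h1 : x⁻¹ * c = c * x⁻¹ ↔ x * c = c * x := Commute.inv_left_iff
  by_cases h2 : x * c = c * x
  · rw [mul_assoc, e.2 (h1.2 h2), ← mul_assoc, h2, mul_assoc]
  · rw [mul_assoc, (Q_comm r hr c hc).resolve_left fun h3 => h2 (h1.1 (e.1 h3)), ← mul_assoc,
      ← mul_assoc, (Q_comm x hx c hc).resolve_left h2, mul_assoc _ z r, ← zc r, ← mul_assoc,
      mul_assoc _ z, zz, mul_one, mul_assoc]

abbrev Nn (x : TU) : Prop := Md 1 x ∨ x * x = z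

theorem f7 : ∀ u, InQ u → u * u = z → ∀ w, InQ w → w * w = z → u * w * (u * w) = z → ∃ i,
    ¬ (kk i * u * (kk i)⁻¹ * u = u * (kk i * u * (kk i)⁻¹) ∧
      kk i * u * (kk i)⁻¹ * w = w * (kk i * u * (kk i)⁻¹)) ∧ ¬ (Nn (kk i * u * (kk i)⁻¹ * u) ∧
        Nn (kk i * u * (kk i)⁻¹ * w) ∧ Nn (kk i * u * (kk i)⁻¹ * u * w)) := by decide +kernel

open Gold Abel2 in
theorem noac {ψ : TU →* G} (h1 : ∀ x, ψ x = 1 ↔ Md 1 x)
    (h2 : ∀ {g x r}, Cm ψ g x r → (r * r = 1 ↔ x * x = 1))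
    (h3 : ∀ {g x r x' r'}, Cm ψ g x r → Cm ψ g x' r' → (r * r' = r' * r ↔ x * x' = x' * x))
    (hL : Gold.Loc (Q.map ψ) ⊤) {L : Subgroup G} (hA : AC (Q.map ψ) ⊤ L) : False := by
  obtain ⟨g, hg, hs⟩ := hL.exists_sing hA
  have hUL := hL.commutator_le_of_mem hA hg
  have hUB := hs.commutator_le
  have h4 : ∀ {x r : TU} (t), ψ x = ψ r → r * t = t * r → x * t = t * x := fun t e =>
    (h3 (g := 1) (by simpa [Cm] using e.symm) (Cm.refl t)).1
  have ha : ∀ c, InQ c → ψ c ∈ cbar L → ∀ u, ψ u ∈ ⁅Q.map ψ, zpowers g⁆ → u * c = c * u := by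
    intro c hc h5 u hu
    obtain ⟨u', hu', e⟩ := (show _ ≤ (Cx c).map ψ from commutator_le.2 (by
      rintro _ ⟨x, hx, rfl⟩ n hn
      obtain ⟨r, hr, e⟩ := gimg (hs.zpowers_le hn) (Q.inv_mem hx)
      refine ⟨x * r, mem_Cx.2 (qc hx hr hc (h3 e (cm_fix.2 (Cx_comm.1 ?_)))), by
        rw [map_mul, e, map_inv, commutatorElement_def]; group⟩
      obtain ⟨i, rfl⟩ := hn
      exact mem_Cx.2 (Commute.zpow_right (mem_Cx.1 (hs.le_centralizer
        ⟨mem_map_of_mem ψ hc, h5⟩)) i).eq)) hu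
    exact h4 c e.symm (mem_Cx.1 hu')
  have hd : ∀ r, InQ r → ∃ c w, InQ c ∧ ψ c ∈ cbar L ∧ InQ w ∧ ψ w ∈ ⁅Q.map ψ, zpowers g⁆ ∧
      ψ r = ψ (c * w) := fun r hr => by
    obtain ⟨_, ⟨⟨c, hc, rfl⟩, h5⟩, w, hw, e⟩ := (Core.mem_sup_of_le_normalizer_left (fun y hy =>
      centralizer_le_normalizer _ (mem_centralizer_iff.2 fun c (hc : c ∈ Q.map ψ ⊓ cbar L) =>
        hL.mul_comm hc.1 (hUB hy)))).1 ((hs.sup_eq hL.two).ge (mem_map_of_mem ψ hr))
    obtain ⟨w, hw', rfl⟩ := hUB hw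
    exact ⟨c, w, hc, h5, hw', hw, by rw [map_mul, e]⟩
  have he : ∀ x, (∀ c, InQ c → ψ c ∈ cbar L → c * x = x * c) →
      (∀ w, InQ w → ψ w ∈ ⁅Q.map ψ, zpowers g⁆ → w * x = x * w) → Md 1 x := fun x h5 h6 =>
    (Q_cent x).1 fun r hr => by
      obtain ⟨c, w, a1, a2, a3, a4, e⟩ := hd r hr
      exact h4 x e (Commute.mul_left (h5 c a1 a2) (h6 w a3 a4))
  have hc : ∀ u, InQ u → ψ u ∈ ⁅Q.map ψ, zpowers g⁆ → Md 1 u ∨ u * u = z := fun u hu h5 => by
    by_contra hn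
    rw [not_or] at hn
    have h6 : ∀ w, ψ w ∈ ⁅Q.map ψ, zpowers g⁆ → w * w = 1 := fun w hw => by
      by_cases h7 : ψ w = 1
      · rw [((h1 w).1 h7).sq, one_mul]
      obtain ⟨k, e⟩ := hs.trans _ h5 (fun e => hn.1 ((h1 u).1 e)) _ hw h7
      exact (h2 (Eq.symm e)).2 ((Q_sq u hu).resolve_right hn.2)
    exact hn.1 (he u (fun c a1 a2 => (ha c a1 a2 u h5).symm) fun w _ hw =>
      mul_comm_of_elem (A := (⁅Q.map ψ, zpowers g⁆).comap ψ) h6 hw h5)
  obtain ⟨_, a1, a2⟩ := (bot_or_exists_ne_one ⁅Q.map ψ, zpowers g⁆).resolve_left fun e => by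
    simpa [e] using hs.four_le hL.two hL.comm
  obtain ⟨u, hu, rfl⟩ := hUB a1
  obtain ⟨_, b1, b2, b3⟩ : ∃ b ∈ ⁅Q.map ψ, zpowers g⁆, b ≠ 1 ∧ ψ u * b ≠ 1 := by
    by_contra! hn
    have h5 := Set.ncard_le_ncard (t := {1, (ψ u)⁻¹}) (fun b (hb : b ∈ ⁅Q.map ψ, zpowers g⁆) =>
      (em (b = 1)).imp id fun e => (inv_eq_of_mul_eq_one_right (hn b hb e)).symm)
    have h6 := (hs.four_le hL.two hL.comm).trans (h5.trans (Set.ncard_insert_le ..))
    simp at h6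
  obtain ⟨w, hw, rfl⟩ := hUB b1
  have h5 := fun x hx h5 (h6 : ψ x ≠ 1) => (hc x hx h5).resolve_left fun e => h6 ((h1 x).2 e)
  obtain ⟨i, h6, h7⟩ := f7 u hu (h5 u hu a1 a2) w hw (h5 w hw b1 b2)
    (h5 _ (Q.mul_mem hu hw) (map_mul ψ u w ▸ mul_mem a1 b1) (map_mul ψ u w ▸ b3))
  have hu' := Q_conj (kk i) u hu
  by_cases hn : ψ (kk i) ∈ normalizer (L : Set G)
  · obtain ⟨c, w', c1, c2, c3, c4, e⟩ := hd _ hu'
    have h8 : ψ (kk i * u * (kk i)⁻¹) ∈ ⁅Q.map ψ, zpowers g⁆ := by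
      rw [e, map_mul, (h1 c).2 (he c (fun c' a3 a4 => ?_) fun w _ => ha c c1 c2 w), one_mul]
      · exact c4
      have h9 := ha _ (Q_conj (kk i)⁻¹ c' a3) (by
        simpa using conj_mem_of_mem_normalizer' (normalizer_le_normalizer_cbar L hn) a4) u a1
      have h10 := h4 c' e.symm (by
        simpa only [mul_assoc, inv_inv, mul_inv_cancel_left, mul_inv_cancel, mul_one] using
          congrArg (fun x => kk i * x * (kk i)⁻¹) h9)
      rw [mul_assoc, ha c' a3 a4 w' c4, ← mul_assoc, ← mul_assoc] at h10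
      exact (mul_right_cancel h10).symm
    have h9 := fun x x1 (x2 : ψ x ∈ _) => hc _ (Q.mul_mem hu' x1) (map_mul ψ _ x ▸ mul_mem h8 x2)
    exact h7 ⟨h9 u hu a1, h9 w hw b1, mul_assoc _ u w ▸ h9 _ (Q.mul_mem hu hw)
      (map_mul ψ u w ▸ mul_mem a1 b1)⟩
  · have h8 := L5.conj_mem_cbar hA (gnorm (Q_conj _)) hn (hUL a1)
    rw [← map_inv, ← map_mul, ← map_mul] at h8
    exact h6 ⟨(ha _ hu' h8 u a1).symm, (ha _ hu' h8 w b1).symm⟩

theorem HC.normal (h : HC φ) (hO : pPrimeCore 2 G = ⊥) : (Q.map φ).Normal := by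
  have hc : zpowers (φ z) ≤ center G := zpowers_le.2 (mem_center_iff.2 fun g =>
    mem_Cx.1 (cm_fix.1 (h.cen g)))
  have : (zpowers (φ z)).Normal := ⟨fun a ha g => by
    rw [mem_center_iff.1 (hc ha) g, mul_inv_cancel_right]; exact ha⟩
  let π := QuotientGroup.mk' (zpowers (φ z))
  have hπ : ∀ a b, π a = π b ↔ b = a ∨ b = a * φ z := fun a b => by
    rw [QuotientGroup.mk'_apply, QuotientGroup.mk'_apply, QuotientGroup.eq,
      ExtraTwo.mem_zpowers_iff_of_mul_self zz', inv_mul_eq_iff_eq_mul, inv_mul_eq_iff_eq_mul, mul_one]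
  have hl : ∀ g, ∃ k, ∀ {x r}, Cm (π.comp φ) g x r → ∃ r', Md r r' ∧ Cm φ k x r' := fun g => by
    obtain ⟨k, rfl⟩ := QuotientGroup.mk'_surjective _ g
    refine ⟨k, fun {x r} e => ?_⟩
    rcases (hπ (φ r) (k * φ x * k⁻¹)).1 e with e | e
    exacts [⟨r, .inl rfl, e.symm⟩, ⟨r * z, .inr rfl, by rw [Cm, e, map_mul]⟩]
  have hz : InQ z := by decide +kernel
  have hL : Gold.Loc (Q.map (π.comp φ)) ⊤ := ⟨Gold.sc_of_isSylowIn (S := (π.comp φ).range) (by
      rw [MonoidHom.range_comp]; exact CFun.sylIn_map_top h.syl (QuotientGroup.mk'_surjective _))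
    (map_le_range ..) (by
      rintro _ ⟨x, hx, rfl⟩ g - ⟨r, e⟩
      obtain ⟨k, hk⟩ := hl g
      obtain ⟨r', e1, e2⟩ := hk e
      refine ⟨r, ?_, e⟩
      rcases e1 with rfl | rfl
      exacts [h.sc hx e2, (Q.mul_mem_cancel_right hz).1 (h.sc hx e2)]), ⟨⟨by
      rintro ⟨_, a, ha, rfl⟩ ⟨_, b, hb, rfl⟩
      refine Subtype.ext ((map_mul π _ _).symm.trans (((hπ _ _).2 ?_).trans (map_mul π _ _)))
      simpa only [← map_mul] using (Q_comm b hb a ha).imp (congrArg φ) (congrArg φ)⟩⟩, Gold.all.inp _⟩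
  have h2 : pPrimeCore 2 (G ⧸ zpowers (φ z)) = ⊥ := by
    have := comap_pPrimeCore_le_of_central (p := 2) π (by rw [QuotientGroup.ker_mk']; exact hc)
    rw [hO, bot_sup_eq] at this
    refine eq_bot_iff.2 fun x hx => ?_
    obtain ⟨x, rfl⟩ := QuotientGroup.mk'_surjective _ x
    exact this hx
  have h1 := (normalizer_eq_top_iff.1 (top_le_iff.1 (hL.le_of_forall (by rw [opOf_top, h2]; exact bot_le)
    inf_le_right fun L hA => (noac (fun x => ?_) (fun {g x r} e => ?_)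
      (fun {g x r x' r'} e e' => ?_) hL hA).elim))).comap π
  · rwa [← map_map, comap_map_eq, QuotientGroup.ker_mk', sup_eq_left.2
      (zpowers_le.2 (mem_map_of_mem φ hz))] at h1
  · rw [← map_one (π.comp φ), eq_comm]
    exact (hπ (φ 1) (φ x)).trans (by simp only [← map_mul, h.inj.eq_iff])
  · obtain ⟨k, hk⟩ := hl g
    obtain ⟨_, e1, e2⟩ := hk e
    rw [← e1.sq, e2.sq h.inj]
  · obtain ⟨k, hk⟩ := hl g
    obtain ⟨_, e1, e2⟩ := hk e
    obtain ⟨_, e3, e4⟩ := hk e'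
    rw [← e2.comm h.inj e4, e1.comm, eq_comm, ← e3.comm, eq_comm]

theorem HC.cent (h : HC φ) (hO : pPrimeCore 2 G = ⊥) (hg : g ∈ centralizer (Q.map φ : Set G)) :
    g = 1 ∨ g = φ z := by
  have := h.normal hO
  have hS := syl_cent h.inj h.syl (X := Q) (Y := zpowers z) Q_conj fun s => by
    rw [ExtraTwo.mem_zpowers_iff_of_mul_self zz, ← one_mul z]; exact (Q_cent s).symm
  rw [MonoidHom.map_zpowers] at hS
  refine (ExtraTwo.mem_zpowers_iff_of_mul_self zz').1 (le_of_npc (npc_of_burnside hS fun n _ _ x hx => ?_)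
    hS ?_ le_rfl hg)
  · obtain ⟨i, rfl⟩ := hx
    exact (Commute.zpow_right (mem_Cx.1 (cm_fix.1 (h.cen n))) i).eq
  · exact (opOf_le_pPrimeCore (Normal.isSubnormal inferInstance)).trans (hO ▸ bot_le)

theorem con_conj {a b : G} (e : IsConj a b) (h : IsPConstrained 2 (Cx a)) : IsPConstrained 2 (Cx b) := by
  obtain ⟨g, rfl⟩ := isConj_iff.1 e
  exact cj_Cx g a ▸ (PLocal.Constr.isPConstrained_equiv ((MulAut.conj g).subgroupMap _)).1 h

/-- `⟨s, y⟩` -/
noncomputable def W : Subgroup TU := sub (fun x => x = 1 ∨ x = y ∨ x = s ∨ x = s * y) (by decide +kernel)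

theorem norm_W (hk : k ∈ Cx (φ y)) (e : Cm φ k s s ∨ Cm φ k s (s * y)) :
    k ∈ normalizer (W.map φ : Set G) := by
  refine mem_normalizer_fintype ?_
  have h1 : ∀ {a}, Cm φ k s a → a ∈ W → ∀ x ∈ W, ∃ r ∈ W, Cm φ k x r := fun {a} e ha x hx => by
    have hy : y ∈ W := .inr (.inl rfl)
    rcases hx with rfl | rfl | rfl | rfl
    exacts [⟨1, W.one_mem, Cm.one⟩, ⟨_, hy, cm_fix.2 hk⟩, ⟨a, ha, e⟩,
      ⟨_, W.mul_mem ha hy, e.mul (cm_fix.2 hk)⟩]
  rintro _ ⟨x, hx, rfl⟩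
  obtain ⟨r, hr, e⟩ := e.elim (h1 · (.inr (.inr (.inl rfl))) x hx) (h1 · (.inr (.inr (.inr rfl))) x hx)
  exact ⟨r, hr, e⟩

namespace S5

open PLocal.Constr InvHarv

variable [IsSimpleGroup G] (h : S5 φ)
include h

theorem conz : IsPConstrained 2 (Cx (φ z)) := by
  have h1 := h.hc.map (QuotientGroup.mk'_surjective (pPrimeCore 2 (Cx (φ z))))
    (by rw [QuotientGroup.ker_mk']; exact Core.odd_card_oddCore _)
  have hO := Core.pPrimeCore_quotient_pPrimeCore 2 (Cx (φ z))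
  have := h1.normal hO
  have hQ := Core.le_pCore ((two.to_subgroup Q).map ((QuotientGroup.mk' (pPrimeCore 2 _)).comp (res φ)))
  refine isPConstrained_iff.2 fun g hg => ?_
  rcases h1.cent hO (centralizer_le hQ hg) with rfl | rfl
  exacts [one_mem _, hQ (mem_map_of_mem _ (show InQ z by decide +kernel))]

theorem Ky {M : Subgroup G} (hO : opOf 2 (Cx (φ y)) ≤ M)
    (hM : ∀ k ∈ Cx (φ y), Cm φ k s s ∨ Cm φ k s (s * y) → k ∈ M) : Cx (φ y) ≤ M := by
  have hS := isSylowIn_cent_of_index h.syl (b := φ y) ⟨y, rfl⟩ (by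
    rw [MonoidHom.range_eq_map, map_inf_Cx h.inj, card_map_of_injective h.inj,
      card_map_of_injective h.inj, card_top, card_T, card_subgroup _ (fun c => c * y = y * c)
        fun c => by rw [top_inf_eq, mem_Cx]]
    decide +kernel) (by
    rintro k - ⟨r, e⟩ h1
    have h2 : ∀ t, r * t = t * r := fun t => h.inj (by
      simpa only [map_mul] using (mem_Cx.1 (e ▸ h1 ⟨t, rfl⟩)).symm)
    rcases center_eq r (h2 _) (h2 _) (h2 _) (h2 _) with rfl | rfl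
    exacts [y_ne ((Cm.ne_one h.inj e).1 rfl), h.ny (Cm.isConj e).symm])
  rw [top_inf_eq] at hS
  have hy : ∀ {a}, a ∈ zpowers (φ y) ↔ a = 1 ∨ a = φ y :=
    ExtraTwo.mem_zpowers_iff_of_mul_self (by rw [← map_mul, yy, map_one])
  refine le_of_weaklyClosed_mod hS (Z := zpowers (φ y)) (zpowers_le.2 ⟨⟨y, rfl⟩, mem_Cx.2 rfl⟩)
    (fun k hk u hu => ?_) (w := φ s) ⟨⟨s, rfl⟩, map_mem_Cx (by decide +kernel)⟩
    (fun k hk ⟨⟨r, e⟩, _⟩ => ?_) hO fun k hk e => hM k hk ?_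
  · obtain ⟨i, rfl⟩ := hu
    exact (Commute.zpow_right (mem_Cx.1 hk) i).eq
  · rw [hy, inv_mul_eq_iff_eq_mul, inv_mul_eq_iff_eq_mul, mul_one, ← map_mul, ← e]
    exact ((by decide +kernel : ∀ r, IsP r → IsP (r * y) → r = s ∨ r = s * y) r (h.imgP P_s e)
      (h.imgP P_sy (Cm.mul e (cm_fix.2 hk)))).imp (congrArg φ) (congrArg φ)
  · rw [hy, inv_mul_eq_iff_eq_mul, inv_mul_eq_iff_eq_mul, mul_one, ← map_mul] at e
    exact e.imp Eq.symm Eq.symm

theorem cony : IsPConstrained 2 (Cx (φ y)) := by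
  let π := QuotientGroup.mk' (pPrimeCore 2 (Cx (φ y)))
  have hπ : Surjective π := QuotientGroup.mk'_surjective _
  have hk : (Nat.card π.ker).Coprime 2 := coprime_ker_mk'
  have h2 : IsPGroup 2 (W.map φ) := (two.to_subgroup W).map φ
  have hW : IsPGroup 2 ((W.map φ).subgroupOf (Cx (φ y))) := h2.comap_subtype
  have h1 : ∀ {a}, InA a → W.map φ ≤ Cx (φ a) := fun h1 => gmap_le fun x hx => map_mem_Cx
    (A_comm x (by rcases hx with rfl | rfl | rfl | rfl <;> decide +kernel) _ h1)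
  have h3 : ∀ {a}, a ∈ W → centralizer (W.map φ : Set G) ≤ Cx (φ a) := fun ha =>
    centralizer_le (Set.singleton_subset_iff.2 (mem_map_of_mem φ ha))
  have h4 := h1 (a := y) (by decide +kernel)
  set W' := ((W.map φ).subgroupOf (Cx (φ y))).map π
  have : W'.Normal := normalizer_eq_top_iff.1 (top_le_iff.1 fun x _ => by
    obtain ⟨k, rfl⟩ := hπ x
    obtain ⟨k', h5, e⟩ := h.Ky (M := ((normalizer (SetLike.coe W')).comap π).map (Cx (φ y)).subtype)
      (map_mono fun a ha => by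
        rw [mem_comap, QuotientGroup.mk'_apply, (QuotientGroup.eq_one_iff a).2 ha]; exact one_mem _)
      (fun k hk e => ⟨⟨k, hk⟩, le_normalizer_map π (mem_map_of_mem π (by
        rw [← subgroupOf_normalizer_eq h4]; exact norm_W (k := k) hk e)), rfl⟩) k.2
    exact Subtype.ext e ▸ h5)
  refine (isPConstrained_iff_of_coprime_ker hπ hk).2 (isPConstrained_of_centralizer_normal W' (hW.map π) ?_)
  rw [← map_centralizer_of_coprime_ker hπ hk hW]
  refine (isPConstrained_iff_of_coprime_ker (MonoidHom.subgroupMap_surjective _ _)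
    (coprime_ker_subgroupMap hk _)).1 ?_
  rw [Core.centralizer_subgroupOf_of_le h4]
  exact (isPConstrained_equiv (subgroupOfEquivOfLe (h3 (.inr (.inl rfl))))).2
    (isPConstrained_centralizer_of_le h2 (h1 (by decide +kernel)) (h3 (.inr (.inr (.inl rfl))))
      (con_conj (h.P_D P_s) h.conz))

theorem core {t : G} (ht : orderOf t = 2) : pPrimeCore 2 (Cx t) = ⊥ := by
  have he : Even (Nat.card G) := even_iff_two_dvd.2 (ht ▸ orderOf_dvd_natCard t)
  rcases Cfsg.Agent.S1296.result he (fun N _ => h.idx N) (Signal.oddCore_eq_bot_of_simple he) with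
    h1 | ⟨u, hu, h1⟩ | h1
  · have := h1 (A.map φ) ⟨⟨by
      rintro ⟨_, a, ha, rfl⟩ ⟨_, b, hb, rfl⟩
      exact Subtype.ext (mem_Cx.1 (map_mem_Cx (A_comm a ha b hb)))⟩⟩ (by
      rintro _ ⟨a, ha, rfl⟩
      rw [sq, ← map_mul, A_sq a ha, map_one])
    rw [card_map_of_injective h.inj, card_A] at this
    omega
  · exact absurd (pLayer_eq_bot_iff_layer.1 (Signal.pLayer_of_constr ((h.cls hu).elim
      (con_conj · h.conz) (con_conj · h.cony)))) (Comp.layer_ne_bot_iff.2 h1)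
  · have := h1.2 (zpowers t) (IsPGroup.of_card (n := 1) (by rw [Nat.card_zpowers, ht]; rfl))
      (zpowers_ne_bot.2 (ne_one_of_ord ht))
    rw [normalizer_zpowers_of_orderOf_two ht] at this
    exact Core.pPrimeCore_eq_bot_of_centralizer_le this

theorem imgQ (hg : g ∈ Cx (φ z)) (hx : InQ x) : ∃ r, InQ r ∧ Cm φ g x r := by
  have := h.hc.normal (h.core (h.ord zz z_ne))
  obtain ⟨r, hr, e⟩ := gimg (φ := res φ) (n := ⟨g, hg⟩) (X := Q)
    (by rw [normalizer_eq_top]; trivial) hx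
  exact ⟨r, hr, cm_res.1 e⟩

theorem centQ (hz : g ∈ Cx (φ z))
    (hg : ∀ i < 6, ∃ r, Md (o (2 * 2 ^ i)) r ∧ Cm φ g (o (2 * 2 ^ i)) r) : g ^ 4 = 1 := by
  have h1 : ∀ i < 6, Cm φ (g * g) (o (2 * 2 ^ i)) (o (2 * 2 ^ i)) := fun i hi => by
    obtain ⟨r, rfl | rfl, e⟩ := hg i hi
    exacts [e.trans e, by simpa only [mul_assoc, zz, mul_one] using e.trans (e.mul (cm_fix.2 hz))]
  have h2 := h.hc.cent (g := ⟨g * g, mul_mem hz hz⟩) (h.core (h.ord zz z_ne)) (by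
    rintro _ ⟨x, hx, rfl⟩
    refine Subtype.ext (mem_Cx.1 (cm_fix.1 (sp_ind (P := fun x => Cm φ (g * g) x x) Cm.one
      (fun a ha t ht => ha.mul ?_) ((by decide +kernel : ∀ x, InQ x → bit (sp
        ((List.range 6).map fun i => (o (2 * 2 ^ i) : TU)) 4) x.v = true) x hx)))).symm
    obtain ⟨i, hi, rfl⟩ := List.mem_map.1 ht
    exact h1 i (List.mem_range.1 hi))
  rw [show g ^ 4 = g * g * (g * g) by rw [← sq g, ← pow_add]]
  rcases h2 with e | e <;> rw [show g * g = _ from congrArg Subtype.val e]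
  exacts [mul_one _, zz']

theorem fixW (hk : k ∈ Cx (φ y)) : Cm φ k s s ∨ Cm φ k s (s * y) := by
  obtain ⟨r, hr, e⟩ := gimg (h.Ky (by rw [opOf, h.core (h.ord yy y_ne), Subgroup.map_bot]; exact bot_le)
    (fun _ => norm_W) hk) (p := s) (.inr (.inr (.inl rfl)))
  have := h.imgP P_s e
  rcases hr with rfl | rfl | rfl | rfl
  exacts [absurd this (by decide +kernel), absurd this (by decide +kernel), .inl e, .inr e]

end S5

end CfsgLib.SylT.TU
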